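import Mathlib
import Cfsg.Agent.Lib.Forms.Max.OrthBase
import Cfsg.Agent.Lib.Forms.Max.OrthPair

/-!
# Non-degenerate quadratic planes over finite fields

Values, lines of a level set, and the products of a vector with the vectors of the same value.
-/

set_option autoImplicit false
set_option linter.unusedSectionVars false

namespace Cfsg.Agent.Forms.Max.PlaneBlocks

open Matrix Cfsg.Agent.Forms.QuadStd Cfsg.Agent.Forms.Reflections Cfsg.Agent.Classical.Orth

variable {F : Type*} [Field F] [Fintype F] {ι : Type} [Fintype ι] [DecidableEq ι]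
variable {Q : QuadraticForm F (ι → F)} {W : Submodule F (ι → F)}

local notation "Vec" => (ι → F)
local notation "B" => QuadraticMap.polar Q

/-- a non-degenerate plane -/
structure IsPlane (Q : QuadraticForm F (ι → F)) (W : Submodule F (ι → F)) : Prop where
  rank : Module.finrank F W = 2
  nd : ∀ r ∈ W, r ≠ 0 → ∃ s ∈ W, QuadraticMap.polar Q r s ≠ 0

/-- without non-zero singular vectors -/
def Aniso (Q : QuadraticForm F (ι → F)) (W : Submodule F (ι → F)) : Prop := ∀ x ∈ W, Q x = 0 → x = 0

/-- `Q(λ x)` and `B` on combinations -/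
theorem Q_comb (α β : F) (a p : Vec) :
    Q (α • a + β • p) = α * α * Q a + β * β * Q p + α * β * B a p := by
  rw [Classical.Orth.map_add', Classical.Orth.map_smul', Classical.Orth.map_smul',
    QuadraticMap.polar_smul_left, QuadraticMap.polar_smul_right, smul_eq_mul, smul_eq_mul]
  ring

theorem B_comb (x : Vec) (α β : F) (a p : Vec) : B x (α • a + β • p) = α * B x a + β * B x p := by
  rw [QuadraticMap.polar_add_right, QuadraticMap.polar_smul_right, QuadraticMap.polar_smul_right,
    smul_eq_mul, smul_eq_mul]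

/-- two independent vectors span -/
theorem comb_of_rank (hr2 : Module.finrank F W = 2) {a p : Vec} (ha : a ∈ W) (hp : p ∈ W) (ha0 : a ≠ 0)
    (hpa : p ∉ Submodule.span F {a}) {x : Vec} (hx : x ∈ W) : ∃ α β : F, x = α • a + β • p := by
  have hli : LinearIndependent F ![a, p] := LinearIndependent.pair_iff.2 fun s t hst => by
    rcases eq_or_ne t 0 with rfl | ht
    · rw [zero_smul, add_zero, smul_eq_zero] at hst
      exact ⟨hst.resolve_right ha0, rfl⟩
    · refine absurd (Submodule.mem_span_singleton.2 ⟨-(t⁻¹ * s), ?_⟩) hpa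
      rw [neg_smul, mul_smul, eq_neg_of_add_eq_zero_left hst, smul_neg, neg_neg, smul_smul,
        inv_mul_cancel₀ ht, one_smul]
  have hle : Submodule.span F {a, p} ≤ W := Submodule.span_le.2 (by
    rintro z (rfl | rfl) <;> assumption)
  have hr : Module.finrank F (Submodule.span F ({a, p} : Set Vec)) = 2 := by
    have h := finrank_span_eq_card hli
    rwa [Matrix.range_cons_cons_empty] at h
  have heq := Submodule.eq_of_le_of_finrank_eq hle (by rw [hr, hr2])
  rw [← heq] at hx
  obtain ⟨α, β, h⟩ := Submodule.mem_span_pair.1 hx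
  exact ⟨α, β, h.symm⟩

namespace IsPlane

variable (hW : IsPlane Q W)
include hW

theorem exists_comb {a p : Vec} (ha : a ∈ W) (hp : p ∈ W) (ha0 : a ≠ 0)
    (hpa : p ∉ Submodule.span F {a}) {x : Vec} (hx : x ∈ W) : ∃ α β : F, x = α • a + β • p :=
  comb_of_rank hW.rank ha hp ha0 hpa hx

theorem exists_meet {a : Vec} (ha : a ∈ W) (ha0 : a ≠ 0) : ∃ w ∈ W, B a w = 1 := by
  obtain ⟨s, hs, h⟩ := hW.nd a ha ha0
  exact ⟨(B a s)⁻¹ • s, W.smul_mem _ hs, by
    rw [QuadraticMap.polar_smul_right, smul_eq_mul, inv_mul_cancel₀ h]⟩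

theorem exists_orth {a : Vec} (_ : a ∈ W) : ∃ p ∈ W, p ≠ 0 ∧ B a p = 0 := by
  obtain ⟨p, hp, hp0, h⟩ := OrthPair.exists_ne_zero_ker ![polB Q a] (V := W) (by rw [hW.rank]; omega)
  exact ⟨p, hp, hp0, h 0⟩

theorem orth_line {a p x : Vec} (ha : a ∈ W) (ha0 : a ≠ 0) (hp : p ∈ W) (hp0 : p ≠ 0) (hap : B a p = 0)
    (hx : x ∈ W) (hax : B a x = 0) : ∃ s : F, x = s • p := by
  obtain ⟨w, hw, haw⟩ := hW.exists_meet ha ha0
  have hwp : w ∉ Submodule.span F {p} := fun hm => by
    obtain ⟨s, rfl⟩ := Submodule.mem_span_singleton.1 hm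
    rw [QuadraticMap.polar_smul_right, hap, smul_zero] at haw
    exact zero_ne_one haw
  obtain ⟨α, β, rfl⟩ := hW.exists_comb hp hw hp0 hwp hx
  rw [B_comb, hap, haw, mul_zero, zero_add, mul_one] at hax
  exact ⟨α, by rw [hax, zero_smul, add_zero]⟩

theorem orth_nonsing {a p : Vec} (ha : a ∈ W) (hA : Q a ≠ 0) (hp : p ∈ W) (hp0 : p ≠ 0)
    (hap : B a p = 0) : Q p ≠ 0 := by
  intro hQp
  have ha0 : a ≠ 0 := fun h => hA (by rw [h, QuadraticMap.map_zero])
  by_cases hpa : p ∈ Submodule.span F {a}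
  · obtain ⟨s, rfl⟩ := Submodule.mem_span_singleton.1 hpa
    rw [Classical.Orth.map_smul'] at hQp
    rcases mul_eq_zero.1 hQp with h | h
    · exact hp0 (by rw [mul_self_eq_zero.1 h, zero_smul])
    · exact hA h
  obtain ⟨s, hs, hne⟩ := hW.nd p hp hp0
  obtain ⟨α, β, rfl⟩ := hW.exists_comb ha hp ha0 hpa hs
  apply hne
  rw [B_comb, QuadraticMap.polar_comm _ p a, hap, polar_self_zero hQp, mul_zero, mul_zero, add_zero]

/-- every value is taken -/
theorem exists_value {d : F} (_ : d ≠ 0) : ∃ v ∈ W, Q v = d := by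
  obtain ⟨a, ha, ha0⟩ := Submodule.exists_mem_ne_zero_of_ne_bot (p := W) fun e => by
    have := hW.rank
    rw [e, finrank_bot] at this
    omega
  obtain ⟨w, hw, haw⟩ := hW.exists_meet ha ha0
  by_cases hA : Q a = 0
  · refine ⟨(d - Q w) • a + (1 : F) • w, W.add_mem (W.smul_mem _ ha) (W.smul_mem _ hw), ?_⟩
    rw [Q_comb, hA, haw]; ring
  rcases eq_or_ne (2 : F) 0 with h2 | h2
  · have hch : ringChar F = 2 := CharP.ringChar_of_prime_eq_zero Nat.prime_two (by exact_mod_cast h2)
    obtain ⟨r, hr⟩ := FiniteField.isSquare_of_char_two hch (d / Q a)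
    refine ⟨r • a, W.smul_mem _ ha, ?_⟩
    rw [Classical.Orth.map_smul', ← hr, div_mul_cancel₀ d hA]
  · obtain ⟨p, hp, hp0, hap⟩ := hW.exists_orth ha
    obtain ⟨x, y, h⟩ := Bases.exists_sq_add_sq h2 hA (hW.orth_nonsing ha hA hp hp0 hap) d
    refine ⟨x • a + y • p, W.add_mem (W.smul_mem _ ha) (W.smul_mem _ hp), ?_⟩
    rw [Q_comb, hap, ← h]; ring

theorem singular_unique {e f x : Vec} (he : e ∈ W) (hf : f ∈ W) (hp : IsPair Q e f) (hx : x ∈ W)
    (hQx : Q x = 0) : (∃ s : F, x = s • e) ∨ ∃ s : F, x = s • f := by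
  have hfe : f ∉ Submodule.span F {e} := fun hm => by
    obtain ⟨s, rfl⟩ := Submodule.mem_span_singleton.1 hm
    have := hp.huv
    rw [QuadraticMap.polar_smul_right, polar_self_zero hp.hu, smul_zero] at this
    exact zero_ne_one this
  obtain ⟨α, β, rfl⟩ := hW.exists_comb he hf hp.ne_zero.1 hfe hx
  rw [Q_comb, hp.hu, hp.hv, hp.huv, mul_zero, mul_zero, zero_add, zero_add, mul_one] at hQx
  rcases mul_eq_zero.1 hQx with rfl | rfl
  · exact Or.inr ⟨β, by rw [zero_smul, zero_add]⟩
  · exact Or.inl ⟨α, by rw [zero_smul, add_zero]⟩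

theorem pair_of_sing {e : Vec} (he : e ∈ W) (he0 : e ≠ 0) (hQe : Q e = 0) : ∃ f ∈ W, IsPair Q e f := by
  obtain ⟨w, hw, h⟩ := hW.exists_meet he he0
  obtain ⟨f, hf, hQf, hef⟩ := Orth.exists_partner_in he hw hQe (by rw [h]; exact one_ne_zero)
  exact ⟨f, hf, hQe, hQf, hef⟩

/-- a vector of the same value differs by a non-singular vector -/
theorem sub_nonsing {a b : Vec} (ha : a ∈ W) (hb : b ∈ W) (hA : Q a ≠ 0) (h : Q b = Q a) (hne : b ≠ a) :
    Q (b - a) ≠ 0 := by
  intro hs
  have ha0 : a ≠ 0 := fun e => hA (by rw [e, QuadraticMap.map_zero])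
  have hB : B a (b - a) = 0 := by
    rw [Classical.Orth.map_sub', h, QuadraticMap.polar_comm] at hs
    rw [QuadraticMap.polar_sub_right, polar_self']
    linear_combination -hs
  obtain ⟨p, hp, hp0, hap⟩ := hW.exists_orth ha
  obtain ⟨s, hs'⟩ := hW.orth_line ha ha0 hp hp0 hap (W.sub_mem hb ha) hB
  rw [hs', Classical.Orth.map_smul'] at hs
  rcases mul_eq_zero.1 hs with h0 | h0
  · exact hne (sub_eq_zero.1 (by rw [hs', mul_self_eq_zero.1 h0, zero_smul]))
  · exact hW.orth_nonsing ha hA hp hp0 hap h0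

end IsPlane

open scoped _root_.Classical in
/-- products of a vector with the vectors of the same value in the plane -/
noncomputable def betas (Q : QuadraticForm F (ι → F)) (W : Submodule F (ι → F)) (a : ι → F) : Finset F :=
  Finset.univ.filter fun β => ∃ b ∈ W, Q b = Q a ∧ QuadraticMap.polar Q a b = β

theorem mem_betas {a : Vec} {β : F} : β ∈ betas Q W a ↔ ∃ b ∈ W, Q b = Q a ∧ B a b = β := by
  classical
  simp [betas]

theorem reflect_mem_betas {a d : Vec} (ha : a ∈ W) (hd : d ∈ W) :
    B a a - (Q d)⁻¹ * (B d a * B d a) ∈ betas Q W a := by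
  refine mem_betas.2 ⟨act (reflect Q d) a, ?_, act_map _ _, ?_⟩
  · rw [act_reflect]; exact W.sub_mem ha (W.smul_mem _ hd)
  · rw [act_reflect, QuadraticMap.polar_sub_right, QuadraticMap.polar_smul_right, smul_eq_mul,
      QuadraticMap.polar_comm _ a d]
    ring

theorem IsPlane.betas_odd (hW : IsPlane Q W) (h2 : (2 : F) ≠ 0) {a : Vec} (ha : a ∈ W) (hA : Q a ≠ 0) :
    Fintype.card F + 1 ≤ 2 * (betas Q W a).card ∧
      (Aniso Q W → Fintype.card F + 3 ≤ 2 * (betas Q W a).card) := by
  classical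
  have ha0 : a ≠ 0 := fun e => hA (by rw [e, QuadraticMap.map_zero])
  obtain ⟨p, hp, hp0, hap⟩ := hW.exists_orth ha
  have hP := hW.orth_nonsing ha hA hp hp0 hap
  set g : F → F := fun s => 2 * Q a - (Q p + s * s * Q a)⁻¹ * (4 * (s * s) * (Q a * Q a)) with hg
  have hden : ∀ s : F, Q (s • a + (1 : F) • p) = Q p + s * s * Q a := fun s => by
    rw [Q_comb, hap]; ring
  have hgm : ∀ s, g s ∈ betas Q W a := fun s => by
    convert reflect_mem_betas (Q := Q) ha (W.add_mem (W.smul_mem s ha) (W.smul_mem (1 : F) hp)) using 1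
    rw [hden, QuadraticMap.polar_comm (⇑Q) (s • a + (1 : F) • p) a, B_comb, polar_self', hap, hg]
    ring
  have hneg : -(2 * Q a) ∈ betas Q W a := by
    convert reflect_mem_betas (Q := Q) ha ha using 1
    rw [polar_self']
    field_simp
    ring
  set G : Finset F := Finset.univ.filter fun s => Q p + s * s * Q a ≠ 0 with hG
  have hne : ∀ s ∈ G, g s ≠ -(2 * Q a) := fun s hs e => by
    have hs' : Q p + s * s * Q a ≠ 0 := (Finset.mem_filter.1 hs).2
    have e2 : (Q p + s * s * Q a)⁻¹ * (4 * (s * s) * (Q a * Q a)) = 4 * Q a := by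
      rw [hg] at e; simp only at e; linear_combination -e
    rw [inv_mul_eq_iff_eq_mul₀ hs'] at e2
    exact mul_ne_zero (mul_ne_zero (mul_ne_zero h2 h2) hA) hP (by linear_combination -e2)
  have hfib : ∀ β ∈ G.image g, (G.filter fun s => g s = β).card ≤ 2 := by
    intro β hβ
    obtain ⟨s₀, hs₀, rfl⟩ := Finset.mem_image.1 hβ
    refine (Finset.card_le_card (t := {s₀, -s₀}) fun s hs => ?_).trans Finset.card_le_two
    rw [Finset.mem_filter] at hs
    obtain ⟨hsG, hsg⟩ := hs
    have h1 : Q p + s * s * Q a ≠ 0 := (Finset.mem_filter.1 hsG).2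
    have h0 : Q p + s₀ * s₀ * Q a ≠ 0 := (Finset.mem_filter.1 hs₀).2
    rw [hg] at hsg
    simp only at hsg
    have e2 := (div_eq_div_iff h1 h0).1 (show 4 * (s * s) * (Q a * Q a) / (Q p + s * s * Q a) =
      4 * (s₀ * s₀) * (Q a * Q a) / (Q p + s₀ * s₀ * Q a) by
        rw [div_eq_inv_mul, div_eq_inv_mul]; linear_combination -hsg)
    have : (4 : F) * (Q a * Q a) * Q p * ((s - s₀) * (s + s₀)) = 0 := by
      linear_combination e2
    have h4 : (4 : F) ≠ 0 := by
      rw [show (4 : F) = 2 * 2 by norm_num]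
      exact mul_ne_zero h2 h2
    rcases mul_eq_zero.1 this with h | h
    · exact absurd h (mul_ne_zero (mul_ne_zero h4 (mul_ne_zero hA hA)) hP)
    · rcases mul_eq_zero.1 h with h | h
      · simp [sub_eq_zero.1 h]
      · simp [eq_neg_of_add_eq_zero_left h]
  have hcard : G.card ≤ 2 * (G.image g).card := Finset.card_le_mul_card_image G 2 hfib
  have hsub : insert (-(2 * Q a)) (G.image g) ⊆ betas Q W a := by
    intro β hβ
    rcases Finset.mem_insert.1 hβ with rfl | h
    · exact hneg
    · obtain ⟨s, -, rfl⟩ := Finset.mem_image.1 h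
      exact hgm s
  have hnot : -(2 * Q a) ∉ G.image g := fun h => by
    obtain ⟨s, hs, e⟩ := Finset.mem_image.1 h
    exact hne s hs e
  have hle := Finset.card_le_card hsub
  rw [Finset.card_insert_of_notMem hnot] at hle
  have hbad : (Finset.univ.filter fun s : F => ¬ (Q p + s * s * Q a ≠ 0)).card ≤ 2 := by
    by_cases hex : ∃ r, Q p + r * r * Q a = 0
    · obtain ⟨r, hr⟩ := hex
      refine (Finset.card_le_card (t := {r, -r}) fun s hs => ?_).trans Finset.card_le_two
      simp only [Finset.mem_filter, Finset.mem_univ, true_and, not_not] at hs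
      have : Q a * ((s - r) * (s + r)) = 0 := by linear_combination hs - hr
      rcases mul_eq_zero.1 ((mul_eq_zero.1 this).resolve_left hA) with h | h
      · simp [sub_eq_zero.1 h]
      · simp [eq_neg_of_add_eq_zero_left h]
    · push Not at hex
      rw [Finset.filter_false_of_mem fun s _ => by simpa using hex s]
      simp
  have hsum := Finset.card_filter_add_card_filter_not (s := (Finset.univ : Finset F))
    (fun s => Q p + s * s * Q a ≠ 0)
  rw [Finset.card_univ, ← hG] at hsum
  have hodd : Fintype.card F % 2 = 1 :=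
    FiniteField.odd_card_of_char_ne_two (fun hh => h2 (by
      have : CharP F 2 := hh ▸ ringChar.charP F
      exact CharTwo.two_eq_zero))
  refine ⟨by omega, fun han => ?_⟩
  have h0 : (Finset.univ.filter fun s : F => ¬ (Q p + s * s * Q a ≠ 0)).card = 0 := by
    rw [Finset.card_eq_zero, Finset.filter_eq_empty_iff]
    intro s _ h
    apply h
    intro h'
    have := han _ (W.add_mem (W.smul_mem s ha) (W.smul_mem (1 : F) hp)) (by rw [hden]; exact h')
    have h3 := congrArg (fun x => B a x) this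
    simp only [B_comb, polar_self', hap, QuadraticMap.polar_zero_right, mul_zero, add_zero] at h3
    have hs0 : s = 0 := by
      rcases mul_eq_zero.1 h3 with h | h
      · exact h
      · exact absurd h (mul_ne_zero h2 hA)
    rw [hs0] at h'
    exact hP (by linear_combination h')
  omega

theorem IsPlane.betas_two (hW : IsPlane Q W) (h2 : (2 : F) = 0) {a : Vec} (ha : a ∈ W) (hA : Q a ≠ 0) :
    Fintype.card F ≤ 2 * (betas Q W a).card ∧
      (Aniso Q W → Fintype.card F + 2 ≤ 2 * (betas Q W a).card) := by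
  classical
  have ha0 : a ≠ 0 := fun e => hA (by rw [e, QuadraticMap.map_zero])
  obtain ⟨w, hw, haw⟩ := hW.exists_meet ha ha0
  have hden : ∀ s : F, Q (s • a + (1 : F) • w) = s * s * Q a + s + Q w := fun s => by
    rw [Q_comb, haw]; ring
  set g : F → F := fun s => (s * s * Q a + s + Q w)⁻¹ with hg
  have hgm : ∀ s, g s ∈ betas Q W a := fun s => by
    convert reflect_mem_betas (Q := Q) ha (W.add_mem (W.smul_mem s ha) (W.smul_mem (1 : F) hw)) using 1
    rw [hden, QuadraticMap.polar_comm (⇑Q) (s • a + (1 : F) • w) a, B_comb, polar_self', haw, hg]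
    linear_combination ((s * s * Q a + s + Q w)⁻¹ * (1 + 2 * s * Q a + 2 * s * s * Q a * Q a) - Q a) * h2
  set G : Finset F := Finset.univ.filter fun s => s * s * Q a + s + Q w ≠ 0 with hG
  have hzero : (0 : F) ∈ betas Q W a := mem_betas.2 ⟨a, ha, rfl, by rw [polar_self', h2, zero_mul]⟩
  have hnot : (0 : F) ∉ G.image g := fun h => by
    obtain ⟨s, hs, e⟩ := Finset.mem_image.1 h
    exact inv_ne_zero (Finset.mem_filter.1 hs).2 e
  have hfib : ∀ β ∈ G.image g, (G.filter fun s => g s = β).card ≤ 2 := by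
    intro β hβ
    obtain ⟨s₀, hs₀, rfl⟩ := Finset.mem_image.1 hβ
    refine (Finset.card_le_card (t := {s₀, -s₀ - (Q a)⁻¹}) fun s hs => ?_).trans Finset.card_le_two
    have he := inv_injective (Finset.mem_filter.1 hs).2
    have : (s - s₀) * ((s + s₀) * Q a + 1) = 0 := by linear_combination he
    rcases mul_eq_zero.1 this with h | h
    · simp [sub_eq_zero.1 h]
    · rw [show s = -s₀ - (Q a)⁻¹ by field_simp; linear_combination h]
      simp
  have hcard : G.card ≤ 2 * (G.image g).card := Finset.card_le_mul_card_image G 2 hfib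
  have hle := Finset.card_le_card (show insert 0 (G.image g) ⊆ betas Q W a by
    intro β hβ
    rcases Finset.mem_insert.1 hβ with rfl | h
    · exact hzero
    · obtain ⟨s, -, rfl⟩ := Finset.mem_image.1 h
      exact hgm s)
  rw [Finset.card_insert_of_notMem hnot] at hle
  have hbad : (Finset.univ.filter fun s : F => ¬ (s * s * Q a + s + Q w ≠ 0)).card ≤ 2 := by
    by_cases hex : ∃ r, r * r * Q a + r + Q w = 0
    · obtain ⟨r, hr⟩ := hex
      refine (Finset.card_le_card (t := {r, -r - (Q a)⁻¹}) fun s hs => ?_).trans Finset.card_le_two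
      simp only [Finset.mem_filter, Finset.mem_univ, true_and, not_not] at hs
      have : (s - r) * ((s + r) * Q a + 1) = 0 := by linear_combination hs - hr
      rcases mul_eq_zero.1 this with h | h
      · simp [sub_eq_zero.1 h]
      · rw [show s = -r - (Q a)⁻¹ by field_simp; linear_combination h]
        simp
    · push Not at hex
      rw [Finset.filter_false_of_mem fun s _ => by simpa using hex s]
      simp
  have hsum := Finset.card_filter_add_card_filter_not (s := (Finset.univ : Finset F))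
    (fun s => s * s * Q a + s + Q w ≠ 0)
  rw [Finset.card_univ, ← hG] at hsum
  refine ⟨by omega, fun han => ?_⟩
  have h0 : (Finset.univ.filter fun s : F => ¬ (s * s * Q a + s + Q w ≠ 0)).card = 0 := by
    rw [Finset.card_eq_zero, Finset.filter_eq_empty_iff]
    intro s _ h
    apply h
    intro h'
    have := han _ (W.add_mem (W.smul_mem s ha) (W.smul_mem (1 : F) hw)) (by rw [hden]; exact h')
    have h3 := congrArg (fun x => B a x) this
    simp [h2, haw] at h3
  omega

theorem IsPlane.betas_le (hW : IsPlane Q W) {a : Vec} (ha : a ∈ W) (hA : Q a ≠ 0) :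
    Fintype.card F ≤ 2 * (betas Q W a).card := by
  rcases eq_or_ne (2 : F) 0 with h2 | h2
  · exact (hW.betas_two h2 ha hA).1
  · have := (hW.betas_odd h2 ha hA).1
    omega

/-- three lines carry vectors of each value -/
theorem IsPlane.exists_off_lines (hW : IsPlane Q W) (h7 : Aniso Q W ∨ 7 ≤ Fintype.card F)
    (h3 : Fintype.card F ≠ 3) {d : F} (hd : d ≠ 0) (y z : Vec) :
    ∃ v ∈ W, Q v = d ∧ v ∉ Submodule.span F {y} ∧ v ∉ Submodule.span F {z} := by
  classical
  obtain ⟨a, ha, hQa⟩ := hW.exists_value hd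
  have hA : Q a ≠ 0 := hQa ▸ hd
  have ha0 : a ≠ 0 := fun e => hA (by rw [e, QuadraticMap.map_zero])
  obtain ⟨b, hb, hQb, hb1, hb2⟩ : ∃ b ∈ W, Q b = Q a ∧ b ∉ Submodule.span F {a} ∧ B a b ≠ 0 := by
    by_contra hc
    push Not at hc
    have hsub : betas Q W a ⊆ ({2 * Q a, -(2 * Q a), 0} : Finset F) := fun β hβ => by
      obtain ⟨b, hb, hQb, rfl⟩ := mem_betas.1 hβ
      by_cases hm : b ∈ Submodule.span F {a}
      · obtain ⟨r, rfl⟩ := Submodule.mem_span_singleton.1 hm
        rw [Classical.Orth.map_smul'] at hQb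
        have : (r - 1) * (r + 1) = 0 := by
          refine (mul_eq_zero.1 (show (r - 1) * (r + 1) * Q a = 0 by linear_combination hQb)).resolve_right hA
        rw [QuadraticMap.polar_smul_right, polar_self', smul_eq_mul]
        rcases mul_eq_zero.1 this with h | h
        · simp [sub_eq_zero.1 h]
        · simp [eq_neg_of_add_eq_zero_left h]
      · simp [hc b hb hQb hm]
    have hle := Finset.card_le_card hsub
    have hq := Fintype.one_lt_card (α := F)
    rcases eq_or_ne (2 : F) 0 with h2 | h2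
    · rw [show ({2 * Q a, -(2 * Q a), 0} : Finset F) = {0} by simp [h2]] at hle
      rw [Finset.card_singleton] at hle
      obtain ⟨hb1, hb2⟩ := hW.betas_two h2 ha hA
      rcases h7 with h | h
      · have := hb2 h; omega
      · omega
    · obtain ⟨hb1, hb2⟩ := hW.betas_odd h2 ha hA
      have h3' := Finset.card_le_three (a := 2 * Q a) (b := -(2 * Q a)) (c := (0 : F))
      have hodd : Fintype.card F % 2 = 1 :=
        FiniteField.odd_card_of_char_ne_two (fun hh => h2 (by
          have : CharP F 2 := hh ▸ ringChar.charP F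
          exact CharTwo.two_eq_zero))
      rcases h7 with h | h
      · have := hb2 h; omega
      · omega
  have hb0 : b ≠ 0 := fun e => hb2 (by rw [e, QuadraticMap.polar_zero_right])
  set b' := b - ((Q a)⁻¹ * B a b) • a with hb'def
  have hc0 : (Q a)⁻¹ * B a b ≠ 0 := mul_ne_zero (inv_ne_zero hA) hb2
  have hb'W : b' ∈ W := W.sub_mem hb (W.smul_mem _ ha)
  have hQb' : Q b' = d := by rw [hb'def, ← act_reflect, act_map, hQb, hQa]
  have hsub : ∀ {x u u' : Vec}, u ∈ Submodule.span F {x} → u' ∈ Submodule.span F {x} → u ≠ 0 →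
      u' ∈ Submodule.span F {u} := by
    intro x u u' hu hu' hu0
    obtain ⟨r, rfl⟩ := Submodule.mem_span_singleton.1 hu
    obtain ⟨r', rfl⟩ := Submodule.mem_span_singleton.1 hu'
    have hr : r ≠ 0 := fun e => hu0 (by rw [e, zero_smul])
    exact Submodule.mem_span_singleton.2 ⟨r' / r, by rw [smul_smul, div_mul_cancel₀ r' hr]⟩
  have n1 : b' ∉ Submodule.span F {a} := fun h => hb1 (by
    have := Submodule.add_mem _ h (Submodule.smul_mem _ ((Q a)⁻¹ * B a b) (Submodule.mem_span_singleton_self a))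
    rwa [hb'def, sub_add_cancel] at this)
  have n2 : b' ∉ Submodule.span F {b} := fun h => by
    have := Submodule.sub_mem _ (Submodule.mem_span_singleton_self b) h
    rw [hb'def, sub_sub_cancel, Submodule.smul_mem_iff _ hc0] at this
    exact hb1 (hsub this (Submodule.mem_span_singleton_self b) ha0)
  have key : ∀ x, (a ∈ Submodule.span F {x} → b ∉ Submodule.span F {x} ∧ b' ∉ Submodule.span F {x}) ∧
      (b ∈ Submodule.span F {x} → b' ∉ Submodule.span F {x}) := fun x =>
    ⟨fun h => ⟨fun h' => hb1 (hsub h h' ha0), fun h' => n1 (hsub h h' ha0)⟩,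
     fun h h' => n2 (hsub h h' hb0)⟩
  by_cases hay : a ∈ Submodule.span F {y}
  · by_cases hbz : b ∈ Submodule.span F {z}
    · exact ⟨b', hb'W, hQb', ((key y).1 hay).2, (key z).2 hbz⟩
    · exact ⟨b, hb, hQb.trans hQa, ((key y).1 hay).1, hbz⟩
  by_cases haz : a ∈ Submodule.span F {z}
  · by_cases hby : b ∈ Submodule.span F {y}
    · exact ⟨b', hb'W, hQb', (key y).2 hby, ((key z).1 haz).2⟩
    · exact ⟨b, hb, hQb.trans hQa, hby, ((key z).1 haz).1⟩
  exact ⟨a, ha, hQa, hay, haz⟩

end Cfsg.Agent.Forms.Max.PlaneBlocks
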