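import Mathlib
import Cfsg.Agent.Lib.Forms.Max.OrthBlocks
import Cfsg.Agent.Lib.Forms.Max.PlaneBlocks.Plane

/-!
# Orthogonal decompositions into planes

The class of vectors whose reflection differs from those of the planes by an element of a subgroup containing the
stabiliser, and the changes of components it allows.
-/

set_option autoImplicit false
set_option linter.unusedSectionVars false

namespace Cfsg.Agent.Forms.Max.PlaneBlocks

open Matrix Cfsg.Agent.Forms.QuadStd Cfsg.Agent.Forms.Reflections Cfsg.Agent.Classical.Orth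
open Cfsg.Agent.Forms.Max.OrthPair (InE)

variable {F : Type*} [Field F] [Fintype F] {ι : Type} [Fintype ι] [DecidableEq ι]
variable {Q : QuadraticForm F (ι → F)} {t : ℕ} {D : Fin t → Submodule F (ι → F)}

local notation "Vec" => (ι → F)
local notation "B" => QuadraticMap.polar Q
set_option quotPrecheck false in
local notation "Iso" => Cfsg.isometryGroup F ⇑Q

/-- equal square classes -/
def Sq (a b : F) : Prop := IsSquare (a * b)

theorem Sq.symm {a b : F} (h : Sq a b) : Sq b a := by rwa [Sq, mul_comm]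

theorem Sq.refl (a : F) : Sq a a := ⟨a, rfl⟩

theorem Sq.trans {a b c : F} (hb : b ≠ 0) (h : Sq a b) (h' : Sq b c) : Sq a c := by
  obtain ⟨r, hr⟩ := h
  obtain ⟨s, hs⟩ := h'
  exact ⟨r * s / b, by field_simp; linear_combination (b * c) * hr + r * r * hs⟩

theorem sq_of_not {a b c : F} (hb : b ≠ 0) (h : ¬ Sq a b) (h' : ¬ Sq b c) : Sq a c := by
  obtain ⟨r, hr⟩ := Bases.isSquare_mul_of_not h h'
  exact ⟨r / b, by field_simp; linear_combination hr⟩

theorem sq_mul_sq {a b : F} (k : F) (h : Sq a b) : Sq (k * k * a) b := by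
  obtain ⟨r, hr⟩ := h
  exact ⟨k * r, by linear_combination k * k * hr⟩

theorem sq_char_two (h2 : (2 : F) = 0) (a b : F) : Sq a b :=
  FiniteField.isSquare_of_char_two (CharP.ringChar_of_prime_eq_zero Nat.prime_two (by exact_mod_cast h2)) _

/-- the members are permuted -/
def Perms (D : Fin t → Submodule F (ι → F)) (g : Cfsg.isometryGroup F ⇑Q) : Prop :=
  ∃ σ : Equiv.Perm (Fin t), ∀ i, ∀ x ∈ D i, act g x ∈ D (σ i)

/-- hypotheses -/
structure Setup (Q : QuadraticForm F (ι → F)) (D : Fin t → Submodule F (ι → F)) where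
  nd : (QuadraticMap.polarBilin Q).Nondegenerate
  dec : Cfsg.Geo.IsOrthogonalMDecomposition (⇑Q) 2 D
  five : 5 ≤ t
  five' : 5 ≤ Fintype.card ι
  three : Fintype.card F ≠ 3
  big : (∀ i, Aniso Q (D i)) ∨ 7 ≤ Fintype.card F
  M : Subgroup (Cfsg.isometryGroup F ⇑Q)
  mem : ∀ g ∈ Cfsg.Omega F ⇑Q, Perms D g → g ∈ M

namespace Setup

variable (S : Setup Q D)

theorem plane (S : Setup Q D) (i : Fin t) : IsPlane Q (D i) :=
  ⟨S.dec.decomp.decomp.finrank_eq i, fun _ hr h0 => Orth.nd_on S.dec.decomp hr h0⟩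

theorem big' (S : Setup Q D) (i : Fin t) : Aniso Q (D i) ∨ 7 ≤ Fintype.card F :=
  S.big.imp (fun h => h i) id

/-- the component -/
noncomputable def pr (i : Fin t) : (ι → F) →ₗ[F] (ι → F) := OrthBlocks.cmp S.dec i

theorem pr_mem (i : Fin t) (x : Vec) : S.pr i x ∈ D i := OrthBlocks.cmp_mem S.dec i x

theorem pr_self {i : Fin t} {x : Vec} (hx : x ∈ D i) : S.pr i x = x := OrthBlocks.cmp_self S.dec hx

theorem pr_other {i j : Fin t} (h : i ≠ j) {x : Vec} (hx : x ∈ D j) : S.pr i x = 0 :=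
  OrthBlocks.cmp_other S.dec h hx

theorem pr_pair (i : Fin t) (x : Vec) {y : Vec} (hy : y ∈ D i) : B (S.pr i x) y = B x y :=
  OrthBlocks.cmp_pair S.dec i x hy

theorem pair_pr (i : Fin t) (x : Vec) {y : Vec} (hy : y ∈ D i) : B y (S.pr i x) = B y x :=
  OrthBlocks.pair_cmp S.dec i x hy

theorem sum_pr (x : Vec) : ∑ i, S.pr i x = x := OrthBlocks.sum_cmp S.nd S.dec x

theorem ext_pr {x y : Vec} (h : ∀ i, S.pr i x = S.pr i y) : x = y := by
  rw [← S.sum_pr x, ← S.sum_pr y]
  exact Finset.sum_congr rfl fun i _ => h i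

include S in
theorem orth {i j : Fin t} (h : i ≠ j) {x y : Vec} (hx : x ∈ D i) (hy : y ∈ D j) : B x y = 0 :=
  Orth.orth_ne S.dec.decomp h hx hy

theorem B_sum (x y : Vec) : B x y = ∑ i, B (S.pr i x) (S.pr i y) := by
  have h : ∀ s : Finset (Fin t), B x (∑ i ∈ s, S.pr i y) = ∑ i ∈ s, B (S.pr i x) (S.pr i y) := by
    intro s
    induction s using Finset.induction with
    | empty => simp
    | insert a s ha ih =>
      rw [Finset.sum_insert ha, Finset.sum_insert ha, QuadraticMap.polar_add_right, ih,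
        S.pr_pair a x (S.pr_mem a y)]
  have := h Finset.univ
  rwa [S.sum_pr y] at this

theorem Q_sum (x : Vec) : Q x = ∑ i, Q (S.pr i x) := by
  have h : ∀ s : Finset (Fin t), Q (∑ i ∈ s, S.pr i x) = ∑ i ∈ s, Q (S.pr i x) := by
    intro s
    induction s using Finset.induction with
    | empty => simp
    | insert a s ha ih =>
      rw [Finset.sum_insert ha, Finset.sum_insert ha, Classical.Orth.map_add', ih]
      have hB : ∀ u : Finset (Fin t), a ∉ u → B (S.pr a x) (∑ i ∈ u, S.pr i x) = 0 := by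
        intro u
        induction u using Finset.induction with
        | empty => simp
        | insert b u hb ihu =>
          intro hau
          simp only [Finset.mem_insert, not_or] at hau
          rw [Finset.sum_insert hb, QuadraticMap.polar_add_right, ihu hau.2,
            S.orth hau.1 (S.pr_mem a x) (S.pr_mem b x), add_zero]
      rw [hB s ha, add_zero]
  have := h Finset.univ
  rwa [S.sum_pr x] at this

theorem mem_of_pr {j : Fin t} {x : Vec} (h : ∀ i, i ≠ j → S.pr i x = 0) : x ∈ D j :=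
  OrthBlocks.mem_of_cmp S.nd S.dec h

theorem act_reflect_mem {i : Fin t} {v x : Vec} (hv : v ∈ D i) (hx : x ∈ D i) :
    act (reflect Q v) x ∈ D i := by
  rw [act_reflect]
  exact Submodule.sub_mem _ hx (Submodule.smul_mem _ _ hv)

theorem pr_reflect {i : Fin t} {v : Vec} (hv : v ∈ D i) (x : Vec) (l : Fin t) :
    S.pr l (act (reflect Q v) x) =
      if l = i then act (reflect Q v) (S.pr i x) else S.pr l x := by
  rw [act_reflect, map_sub, map_smul]
  split_ifs with h
  · subst h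
    rw [act_reflect, S.pr_self hv, S.pair_pr l x hv]
  · rw [S.pr_other h hv, smul_zero, sub_zero]

include S in
theorem perms_reflect {i : Fin t} {v : Vec} (hv : v ∈ D i) : Perms D (reflect Q v) := by
  refine ⟨1, fun l x hx => ?_⟩
  rw [act_reflect, Equiv.Perm.one_apply]
  rcases eq_or_ne l i with rfl | hl
  · exact Submodule.sub_mem _ hx (Submodule.smul_mem _ _ hv)
  · rw [S.orth (Ne.symm hl) hv hx, mul_zero, zero_smul, sub_zero]
    exact hx

omit S in
theorem perms_mul {g h : Iso} (hg : Perms D g) (hh : Perms D h) : Perms D (g * h) := by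
  obtain ⟨σ, hσ⟩ := hg
  obtain ⟨τ, hτ⟩ := hh
  exact ⟨σ * τ, fun i x hx => by rw [act_mul]; exact hσ _ _ (hτ i x hx)⟩

include S in
theorem pair_omega {z z' : Vec} (hz : Q z ≠ 0) (hz' : Q z' ≠ 0) (h : Sq (Q z) (Q z')) :
    reflect Q z * reflect Q z' ∈ Cfsg.Omega F ⇑Q := by
  obtain ⟨r, hr⟩ := h
  obtain ⟨f⟩ := Orth.exists_frame S.nd S.five'
  have hr0 : r ≠ 0 := fun e => mul_ne_zero hz hz' (by rw [hr, e, zero_mul])
  have hQ : Q ((r / Q z') • z') = Q z := by
    rw [Classical.Orth.map_smul']; field_simp; linear_combination -hr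
  have e := (QuotientGroup.eq).1 (reflect_mk_eq S.nd f hz hQ)
  rwa [inv_eq_of_mul_eq_one_left (reflect_sq z), ← omega_eq_eGroup S.nd f S.five',
    Spinor.reflect_smul z' (div_ne_zero hr0 hz')] at e

/-- vectors whose reflection agrees with the reflections of the planes of the same value -/
def R (x : Vec) : Prop :=
  Q x ≠ 0 ∧ ∀ i, ∀ a ∈ D i, Q a = Q x → reflect Q x * reflect Q a ∈ S.M

variable {S}

theorem triv {i : Fin t} {a : Vec} (ha : a ∈ D i) (hA : Q a ≠ 0) : S.R a :=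
  ⟨hA, fun j b hb hQb => S.mem _ (S.pair_omega hA (by rw [hQb]; exact hA) (by rw [hQb]; exact Sq.refl _))
    (perms_mul (S.perms_reflect ha) (S.perms_reflect hb))⟩

theorem R.pair {x y : Vec} (hx : S.R x) (hy : S.R y) (h : Q y = Q x) :
    reflect Q x * reflect Q y ∈ S.M := by
  have := S.five
  let i : Fin t := ⟨0, by omega⟩
  obtain ⟨a, ha, hQa⟩ := (S.plane i).exists_value hx.1
  have := mul_mem (hx.2 i a ha hQa) (inv_mem (hy.2 i a ha (hQa.trans h.symm)))
  rwa [_root_.mul_inv_rev, inv_eq_of_mul_eq_one_left (reflect_sq a), inv_eq_of_mul_eq_one_left (reflect_sq y),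
    mul_assoc, ← mul_assoc (reflect Q a), reflect_sq, one_mul] at this

theorem R.of_pair {x y : Vec} (hy : S.R y) (h : Q y = Q x) (hxy : reflect Q x * reflect Q y ∈ S.M) :
    S.R x := by
  refine ⟨by rw [← h]; exact hy.1, fun i a ha hQa => ?_⟩
  have := mul_mem hxy (hy.2 i a ha (hQa.trans h.symm))
  rwa [mul_assoc, ← mul_assoc (reflect Q y), reflect_sq, one_mul] at this

theorem R.refl {x y : Vec} (hx : S.R x) (hy : S.R y) (h : Q y = Q x) : S.R (act (reflect Q x) y) := by
  refine R.of_pair hx (by rw [act_map, h]) ?_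
  rw [← Spinor.reflect_conj, inv_eq_of_mul_eq_one_left (reflect_sq x), mul_assoc, reflect_sq, mul_one]
  exact hx.pair hy h

theorem R.map {g : Iso} (hg : g ∈ S.M) (hp : Perms D g) {x : Vec} (hx : S.R x) : S.R (act g x) := by
  have := S.five
  let i : Fin t := ⟨0, by omega⟩
  obtain ⟨a, ha, hQa⟩ := (S.plane i).exists_value hx.1
  obtain ⟨σ, hσ⟩ := hp
  refine R.of_pair (y := act g a) (triv (hσ i a ha) (by rw [act_map, hQa]; exact hx.1))
    (by rw [act_map, act_map, hQa]) ?_
  have := mul_mem (mul_mem hg (hx.2 i a ha hQa)) (inv_mem hg)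
  rw [← Spinor.reflect_conj g x, ← Spinor.reflect_conj g a]
  convert this using 1
  group

/-- a single reflection in the square class -/
theorem R.one {x v : Vec} {i : Fin t} (hx : S.R x) (hv : v ∈ D i) (hv0 : Q v ≠ 0) (h : Sq (Q v) (Q x)) :
    S.R (act (reflect Q v) x) := by
  obtain ⟨r, hr⟩ := h
  have hr0 : r ≠ 0 := fun e => mul_ne_zero hv0 hx.1 (by rw [hr, e, zero_mul])
  have hQ : Q ((r / Q v) • v) = Q x := by
    rw [Classical.Orth.map_smul']; field_simp; linear_combination -hr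
  rw [← Spinor.reflect_smul v (div_ne_zero hr0 hv0)]
  exact (triv (Submodule.smul_mem _ _ hv) (by rw [hQ]; exact hx.1)).refl hx hQ.symm

/-- two reflections in a common square class -/
theorem R.two {x v w : Vec} {i j : Fin t} (hx : S.R x) (hv : v ∈ D i) (hw : w ∈ D j) (hv0 : Q v ≠ 0)
    (hw0 : Q w ≠ 0) (h : Sq (Q v) (Q w)) : S.R (act (reflect Q v) (act (reflect Q w) x)) := by
  rw [← act_mul]
  have hp := perms_mul (S.perms_reflect hv) (S.perms_reflect hw)
  exact hx.map (S.mem _ (S.pair_omega hv0 hw0 h) hp) hp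

variable (S) in
/-- every reflection of a plane keeps the vector in the class -/
def Free (x : Vec) : Prop := ∀ i, ∀ v ∈ D i, Q v ≠ 0 → S.R (act (reflect Q v) x)

theorem free_of {x d : Vec} {i : Fin t} (hx : S.R x) (hd : d ∈ D i) (hd0 : Q d ≠ 0)
    (hns : ¬ Sq (Q d) (Q x)) (h : S.R (act (reflect Q d) x)) : S.Free x := by
  intro j w hw hw0
  by_cases hsq : Sq (Q w) (Q x)
  · exact hx.one hw hw0 hsq
  have := h.two hw hd hw0 hd0 (sq_of_not hx.1 hsq fun h' => hns h'.symm)
  rwa [← act_mul (reflect Q d), reflect_sq, act_one] at this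

theorem free_of_fix {x d : Vec} {i : Fin t} (hx : S.R x) (hd : d ∈ D i) (hd0 : Q d ≠ 0)
    (hns : ¬ Sq (Q d) (Q x)) (h : B d x = 0) : S.Free x := by
  refine free_of hx hd hd0 hns ?_
  rw [act_reflect, h, mul_zero, zero_smul, sub_zero]
  exact hx

theorem free_two (h2 : (2 : F) = 0) {x : Vec} (hx : S.R x) : S.Free x :=
  fun _ _ hv hv0 => hx.one hv hv0 (sq_char_two h2 _ _)

theorem exists_not_sq (h2 : (2 : F) ≠ 0) {a : F} (ha : a ≠ 0) : ∃ d : F, d ≠ 0 ∧ ¬ Sq d a := by
  obtain ⟨ν, hν⟩ := FiniteField.exists_nonsquare (F := F) (fun hh => h2 (by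
    have : CharP F 2 := hh ▸ ringChar.charP F
    exact CharTwo.two_eq_zero))
  have hν0 : ν ≠ 0 := fun h => hν (h ▸ ⟨0, by simp⟩)
  refine ⟨ν * a, mul_ne_zero hν0 ha, fun ⟨r, hr⟩ => hν ⟨r / a, ?_⟩⟩
  field_simp
  linear_combination hr

theorem free_of_zero {x : Vec} {l : Fin t} (hx : S.R x) (h : S.pr l x = 0) : S.Free x := by
  rcases eq_or_ne (2 : F) 0 with h2 | h2
  · exact free_two h2 hx
  obtain ⟨ν, hν0, hν⟩ := exists_not_sq h2 hx.1
  obtain ⟨d, hd, rfl⟩ := (S.plane l).exists_value hν0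
  refine free_of_fix hx hd hν0 hν ?_
  rw [← S.pair_pr l x hd, h, QuadraticMap.polar_zero_right]

theorem Free.step {x v : Vec} {i : Fin t} (hx : S.R x) (hf : S.Free x) (hv : v ∈ D i) (hv0 : Q v ≠ 0) :
    S.Free (act (reflect Q v) x) := by
  intro j w hw hw0
  have hRv := hf i v hv hv0
  by_cases hsq : Sq (Q w) (Q x)
  · exact hRv.one hw hw0 (by rwa [act_map])
  by_cases hsv : Sq (Q v) (Q x)
  swap
  · exact hx.two hw hv hw0 hv0 (sq_of_not hx.1 hsq fun h' => hsv h'.symm)
  have hRw := hf j w hw hw0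
  have e : act (reflect Q w) (act (reflect Q v) x) =
      act (reflect Q (act (reflect Q w) v)) (act (reflect Q w) x) := by
    rw [← act_mul, ← act_mul, ← Spinor.reflect_conj, inv_eq_of_mul_eq_one_left (reflect_sq w),
      mul_assoc, reflect_sq, mul_one]
  rw [e]
  rcases eq_or_ne j i with rfl | hji
  · exact hRw.one (act_reflect_mem hw hv) (by rw [act_map]; exact hv0) (by rw [act_map, act_map]; exact hsv)
  · have : act (reflect Q w) v = v := by
      rw [act_reflect, S.orth hji hw hv, mul_zero, zero_smul, sub_zero]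
    rw [this]
    exact hRw.one hv hv0 (by rwa [act_map])

theorem Free.refl {x y : Vec} (hx : S.R x) (hy : S.R y) (h : Q y = Q x) (hfx : S.Free x) (hfy : S.Free y) :
    S.Free (act (reflect Q x) y) := by
  intro j v hv hv0
  have e : act (reflect Q v) (act (reflect Q x) y) =
      act (reflect Q (act (reflect Q v) x)) (act (reflect Q v) y) := by
    rw [← act_mul, ← act_mul, ← Spinor.reflect_conj, inv_eq_of_mul_eq_one_left (reflect_sq v),
      mul_assoc, reflect_sq, mul_one]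
  rw [e]
  exact (hfx j v hv hv0).refl (hfy j v hv hv0) (by rw [act_map, act_map]; exact h)

include S in
theorem disc_rel {i l : Fin t} {a p a' p' : Vec} (ha : a ∈ D i) (hA : Q a ≠ 0) (hp : p ∈ D i) (hp0 : p ≠ 0)
    (hap : B a p = 0) (ha' : a' ∈ D l) (hA' : Q a' ≠ 0) (hp' : p' ∈ D l) (hp'0 : p' ≠ 0)
    (hap' : B a' p' = 0) : Sq (Q a * Q p) (Q a' * Q p') := by
  rcases eq_or_ne (2 : F) 0 with h2 | h2
  · exact sq_char_two h2 _ _
  obtain ⟨e, he⟩ := S.dec.isometric l i
  have heB : ∀ u w : D l, B ((e u : D i) : Vec) ((e w : D i) : Vec) = B (u : Vec) (w : Vec) := fun u w => by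
    simp only [QuadraticMap.polar, ← Submodule.coe_add, ← map_add, he]
  set b : Vec := ((e ⟨a', ha'⟩ : D i) : Vec)
  set s : Vec := ((e ⟨p', hp'⟩ : D i) : Vec)
  have hb : b ∈ D i := (e ⟨a', ha'⟩).2
  have hs : s ∈ D i := (e ⟨p', hp'⟩).2
  have hQb : Q b = Q a' := he ⟨a', ha'⟩
  have hQs : Q s = Q p' := he ⟨p', hp'⟩
  have hbs : B b s = 0 := (heB ⟨a', ha'⟩ ⟨p', hp'⟩).trans hap'
  rw [← hQb, ← hQs]
  have hb0 : b ≠ 0 := fun h => hA' (by rw [← hQb, h, QuadraticMap.map_zero])
  have hQp := (S.plane i).orth_nonsing ha hA hp hp0 hap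
  have hpa : p ∉ Submodule.span F {a} := fun hm => by
    obtain ⟨r, rfl⟩ := Submodule.mem_span_singleton.1 hm
    rw [QuadraticMap.polar_smul_right, polar_self', smul_eq_mul] at hap
    rcases mul_eq_zero.1 hap with h | h
    · exact hp0 (by rw [h, zero_smul])
    · exact mul_ne_zero h2 hA h
  have ha0 : a ≠ 0 := fun h => hA (by rw [h, QuadraticMap.map_zero])
  obtain ⟨α, β, hαβ⟩ := (S.plane i).exists_comb ha hp ha0 hpa hb
  set y : Vec := (-(β * Q p)) • a + (α * Q a) • p with hy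
  have hyW : y ∈ D i := Submodule.add_mem _ (Submodule.smul_mem _ _ ha) (Submodule.smul_mem _ _ hp)
  have hby : B b y = 0 := by
    rw [hy, B_comb, hαβ, QuadraticMap.polar_comm _ _ a, QuadraticMap.polar_comm _ _ p, B_comb, B_comb,
      polar_self', polar_self', hap, QuadraticMap.polar_comm _ p a, hap]
    ring
  have hQy : Q y = Q a * Q p * Q b := by
    rw [hy, Q_comb, hαβ, Q_comb, hap]; ring
  have hy0 : y ≠ 0 := fun h => by
    rw [h, QuadraticMap.map_zero, hQb] at hQy
    exact mul_ne_zero (mul_ne_zero hA hQp) hA' hQy.symm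
  obtain ⟨k, hk⟩ := (S.plane i).orth_line hb hb0 hyW hy0 hby hs hbs
  refine ⟨k * (Q a * Q p) * Q b, ?_⟩
  rw [hk, Classical.Orth.map_smul', hQy]
  ring

theorem free_of_mixed {x : Vec} {l m : Fin t} (hx : S.R x) (hl : Sq (Q (S.pr l x)) (Q x))
    (hl0 : Q (S.pr l x) ≠ 0) (hm0 : Q (S.pr m x) ≠ 0) (hm : ¬ Sq (Q (S.pr m x)) (Q x)) : S.Free x := by
  obtain ⟨p, hp, hp0, hap⟩ := (S.plane l).exists_orth (S.pr_mem l x)
  obtain ⟨p', hp', hp'0, hap'⟩ := (S.plane m).exists_orth (S.pr_mem m x)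
  have hP := (S.plane l).orth_nonsing (S.pr_mem l x) hl0 hp hp0 hap
  have hP' := (S.plane m).orth_nonsing (S.pr_mem m x) hm0 hp' hp'0 hap'
  have h := disc_rel (S := S) (S.pr_mem l x) hl0 hp hp0 hap (S.pr_mem m x) hm0 hp' hp'0 hap'
  by_cases h1 : Sq (Q p) (Q x)
  · refine free_of_fix hx hp' hP' (fun h2 => hm ?_) (by
      rw [← S.pair_pr m x hp', QuadraticMap.polar_comm]; exact hap')
    obtain ⟨a, ha⟩ := hl
    obtain ⟨b, hb⟩ := h1
    obtain ⟨c, hc⟩ := h2
    obtain ⟨d, hd⟩ := h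
    refine ⟨a * b * c * d / (Q (S.pr l x) * Q p * Q p' * Q x), ?_⟩
    have := hx.1
    field_simp
    linear_combination (Q (S.pr m x) * Q p * Q (S.pr l x) * Q p' * Q p' * Q p * Q x * Q x) * ha
      + (a * a * Q (S.pr m x) * Q (S.pr l x) * Q p' * Q p' * Q p * Q x) * hb
      + (a * a * b * b * Q (S.pr m x) * Q (S.pr l x) * Q p' * Q p) * hc + (a * a * b * b * c * c) * hd
  · exact free_of_fix hx hp hP h1 (by
      rw [← S.pair_pr l x hp, QuadraticMap.polar_comm]; exact hap)

variable (S) in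
/-- a change of one component by a reflection, with its square class -/
def Chg (x : Vec) (l : Fin t) (κ : Bool) (a : Vec) : Prop :=
  (κ = false ∧ a = S.pr l x) ∨
    ∃ d ∈ D l, Q d ≠ 0 ∧ (κ = false ↔ Sq (Q d) (Q x)) ∧ a = act (reflect Q d) (S.pr l x)

theorem Chg.mem {x a : Vec} {l : Fin t} {κ : Bool} (h : S.Chg x l κ a) :
    a ∈ D l ∧ Q a = Q (S.pr l x) := by
  rcases h with ⟨-, rfl⟩ | ⟨d, hd, -, -, rfl⟩
  · exact ⟨S.pr_mem l x, rfl⟩
  · exact ⟨act_reflect_mem hd (S.pr_mem l x), act_map _ _⟩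

theorem chg_self (x : Vec) (l : Fin t) : S.Chg x l false (S.pr l x) := Or.inl ⟨rfl, rfl⟩

/-- changing components -/
theorem change {x : Vec} (hx : S.R x) (a : Fin t → Vec) (κ : Fin t → Bool)
    (h : ∀ l, S.Chg x l (κ l) (a l))
    (hpar : S.Free x ∨ Even (Finset.univ.filter fun l => κ l = true).card) :
    ∃ x', S.R x' ∧ (S.Free x → S.Free x') ∧ ∀ l, S.pr l x' = a l := by
  classical
  suffices key : ∀ (n : ℕ) (s : Finset (Fin t)) (x : Vec), s.card = n → S.R x →
      (∀ l ∉ s, a l = S.pr l x) → (∀ l ∈ s, S.Chg x l (κ l) (a l)) →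
      (S.Free x ∨ Even (s.filter fun l => κ l = true).card) →
      ∃ x', S.R x' ∧ (S.Free x → S.Free x') ∧ ∀ l, S.pr l x' = a l from
    key _ Finset.univ x rfl hx (fun l hl => absurd (Finset.mem_univ l) hl) (fun l _ => h l) hpar
  intro n
  induction n using Nat.strong_induction_on with
  | _ n ih =>
  intro s x hn hx hout hin hpar
  rcases s.eq_empty_or_nonempty with rfl | ⟨l, hl⟩
  · exact ⟨x, hx, id, fun l => (hout l (Finset.notMem_empty l)).symm⟩
  have hlt : (s.erase l).card < n := hn ▸ Finset.card_erase_lt_of_mem hl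
  rcases hin l hl with ⟨hκ, hal⟩ | ⟨d, hd, hd0, hκd, hal⟩
  · refine ih _ hlt (s.erase l) x rfl hx (fun m hm => ?_)
      (fun m hm => hin m (Finset.mem_of_mem_erase hm)) (hpar.imp id fun he => ?_)
    · rcases eq_or_ne m l with rfl | hml
      · exact hal
      · exact hout m fun h' => hm (Finset.mem_erase.2 ⟨hml, h'⟩)
    · rwa [Finset.filter_erase, Finset.erase_eq_of_notMem (by simp [hκ])]
  have hd' : ∀ m, m ≠ l → S.pr m (act (reflect Q d) x) = S.pr m x := fun m hm => by
    rw [S.pr_reflect hd x m, if_neg hm]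
  have hout1 : ∀ m ∉ s.erase l, a m = S.pr m (act (reflect Q d) x) := fun m hm => by
    rcases eq_or_ne m l with rfl | hml
    · rw [S.pr_reflect hd x m, if_pos rfl]; exact hal
    · rw [hd' m hml]; exact hout m fun h' => hm (Finset.mem_erase.2 ⟨hml, h'⟩)
  have hin1 : ∀ m ∈ s.erase l, S.Chg (act (reflect Q d) x) m (κ m) (a m) := fun m hm => by
    rw [Chg, hd' m (Finset.ne_of_mem_erase hm), act_map]
    exact hin m (Finset.mem_of_mem_erase hm)
  by_cases hf : S.Free x
  · obtain ⟨x', hx', hfx', hpr'⟩ := ih _ hlt (s.erase l) _ rfl (hf l d hd hd0) hout1 hin1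
      (Or.inl (hf.step hx hd hd0))
    exact ⟨x', hx', fun _ => hfx' (hf.step hx hd hd0), hpr'⟩
  have he := hpar.resolve_left hf
  by_cases hκ : κ l = false
  · obtain ⟨x', hx', -, hpr'⟩ := ih _ hlt (s.erase l) _ rfl (hx.one hd hd0 (hκd.1 hκ)) hout1 hin1 (Or.inr (by
      rwa [Finset.filter_erase, Finset.erase_eq_of_notMem (by simp [hκ])]))
    exact ⟨x', hx', fun h => absurd h hf, hpr'⟩
  have hlf : l ∈ s.filter fun m => κ m = true := Finset.mem_filter.2 ⟨hl, by simpa using hκ⟩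
  obtain ⟨m, hm⟩ : ((s.filter fun m => κ m = true).erase l).Nonempty := by
    rw [← Finset.card_pos, Finset.card_erase_of_mem hlf]
    have := Finset.card_pos.2 ⟨l, hlf⟩
    obtain ⟨r, hr⟩ := he
    omega
  simp only [Finset.mem_erase, Finset.mem_filter] at hm
  obtain ⟨hml, hms, hκm⟩ := hm
  have hms' : m ∈ s.erase l := Finset.mem_erase.2 ⟨hml, hms⟩
  rcases hin m hms with ⟨hκ', -⟩ | ⟨d', hdm, hdm0, hκd', ham⟩
  · rw [hκm] at hκ'; simp at hκ'
  have hns : ¬ Sq (Q d) (Q x) := fun h' => hκ (hκd.2 h')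
  have hns' : ¬ Sq (Q d') (Q x) := fun h' => by rw [hκd'.2 h'] at hκm; simp at hκm
  suffices h : ∃ x', S.R x' ∧ (S.Free (act (reflect Q d') (act (reflect Q d) x)) → S.Free x') ∧
      ∀ l, S.pr l x' = a l by
    obtain ⟨x', hx', -, hpr'⟩ := h
    exact ⟨x', hx', fun h => absurd h hf, hpr'⟩
  refine ih _ (lt_of_le_of_lt (Finset.card_le_card (Finset.erase_subset m _)) hlt) ((s.erase l).erase m)
    (act (reflect Q d') (act (reflect Q d) x)) rfl
    (hx.two hdm hd hdm0 hd0 (sq_of_not hx.1 hns' fun h' => hns h'.symm)) (fun p hp => ?_) (fun p hp => ?_)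
    (Or.inr ?_)
  · rcases eq_or_ne p m with rfl | hpm
    · rw [S.pr_reflect hdm _ p, if_pos rfl, hd' p hml]; exact ham
    · rw [S.pr_reflect hdm _ p, if_neg hpm]
      exact hout1 p fun h' => hp (Finset.mem_erase.2 ⟨hpm, h'⟩)
  · have hp' := Finset.mem_of_mem_erase hp
    have := hin1 p hp'
    rw [Chg, S.pr_reflect hdm _ p, if_neg (Finset.ne_of_mem_erase hp), act_map]
    exact this
  · rw [Finset.filter_erase, Finset.filter_erase, Finset.card_erase_of_mem (Finset.mem_erase.2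
      ⟨hml, Finset.mem_filter.2 ⟨hms, hκm⟩⟩), Finset.card_erase_of_mem hlf]
    obtain ⟨r, hr⟩ := he
    exact ⟨r - 1, by omega⟩

end Setup

end Cfsg.Agent.Forms.Max.PlaneBlocks
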