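import Mathlib
import Cfsg.Agent.Lib.Forms.Max.PlaneBlocks.Basic

/-!
# Pairs of reflections as root elements
-/

set_option autoImplicit false
set_option linter.unusedSectionVars false

namespace Cfsg.Agent.Forms.Max.PlaneBlocks

open Matrix Cfsg.Agent.Forms.QuadStd Cfsg.Agent.Forms.Reflections Cfsg.Agent.Classical.Orth
open Cfsg.Agent.Forms.Max.OrthPair (InE inE_add inE_neg inE_map)
open Cfsg.Agent.Forms.Max.OrthBlocks (Dir)

variable {F : Type*} [Field F] [Fintype F] {ι : Type} [Fintype ι] [DecidableEq ι]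
variable {Q : QuadraticForm F (ι → F)} {t : ℕ} {D : Fin t → Submodule F (ι → F)}

local notation "Vec" => (ι → F)
local notation "B" => QuadraticMap.polar Q
set_option quotPrecheck false in
local notation "Iso" => Cfsg.isometryGroup F ⇑Q

/-- two reflections in vectors differing by a singular vector orthogonal to both -/
theorem reflect_pair {w z : Vec} (hw : Q w ≠ 0) (hz : Q z = 0) (hzw : B z w = 0)
    (h : B z ((-(Q w)⁻¹) • w) = 0) :
    reflect Q (w + z) * reflect Q w = eich z ((-(Q w)⁻¹) • w) hz h := by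
  refine act_ext fun y => ?_
  have hQ : Q (w + z) = Q w := by
    rw [Classical.Orth.map_add', hz, QuadraticMap.polar_comm, hzw, add_zero, add_zero]
  rw [act_mul, act_reflect, act_reflect, act_eich, hQ]
  simp only [QuadraticMap.polar_add_left, QuadraticMap.polar_sub_right, QuadraticMap.polar_smul_right,
    polar_self', hzw, Classical.Orth.map_smul', smul_eq_mul, smul_smul, QuadraticMap.polar_comm _ y z,
    QuadraticMap.polar_comm _ y w]
  match_scalars <;> field_simp <;> ring

/-- the root element of a multiple of the centre -/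
theorem inE_smul_left {M : Subgroup Iso} {z w : Vec} (μ : F) (hz : Q z = 0) (hzw : B z w = 0) :
    InE M (μ • z) w ↔ InE M z (μ • w) := by
  have h1 : Q (μ • z) = 0 := by rw [Classical.Orth.map_smul', hz, mul_zero]
  have h2 : B (μ • z) w = 0 := by rw [QuadraticMap.polar_smul_left, hzw, smul_zero]
  have h3 : B z (μ • w) = 0 := by rw [QuadraticMap.polar_smul_right, hzw, smul_zero]
  have e := eich_smul μ h1 h2 hz h3
  exact ⟨fun h _ _ => e ▸ h h1 h2, fun h _ _ => e.symm ▸ h hz h3⟩

namespace Setup

variable {S : Setup Q D}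

/-- two members give a root element -/
theorem R.root {w z : Vec} {μ : F} (hw : S.R w) (hwz : S.R (w + μ • z)) (hz : Q z = 0) (hzw : B z w = 0) :
    InE S.M z ((-(μ / Q w)) • w) := by
  have hμz : Q (μ • z) = 0 := by rw [Classical.Orth.map_smul', hz, mul_zero]
  have hμzw : B (μ • z) w = 0 := by rw [QuadraticMap.polar_smul_left, hzw, smul_zero]
  have h : B (μ • z) ((-(Q w)⁻¹) • w) = 0 := by rw [QuadraticMap.polar_smul_right, hμzw, smul_zero]
  have hQ : Q w = Q (w + μ • z) := by
    rw [Classical.Orth.map_add', hμz, QuadraticMap.polar_comm, hμzw, add_zero, add_zero]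
  have hm : InE S.M (μ • z) ((-(Q w)⁻¹) • w) := fun _ _ => by
    rw [← reflect_pair hw.1 hμz hμzw h]
    exact hwz.pair hw hQ
  have := (inE_smul_left μ hz (by rw [QuadraticMap.polar_smul_right, hzw, smul_zero])).1 hm
  rwa [smul_smul, mul_neg, ← div_eq_mul_inv] at this

/-- a root element moves a member to a member -/
theorem R.shift {w z : Vec} {μ : F} (hw : S.R w) (hz : Q z = 0) (hzw : B z w = 0)
    (h : InE S.M z ((-(μ / Q w)) • w)) : S.R (w + μ • z) := by
  have hμz : Q (μ • z) = 0 := by rw [Classical.Orth.map_smul', hz, mul_zero]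
  have hμzw : B (μ • z) w = 0 := by rw [QuadraticMap.polar_smul_left, hzw, smul_zero]
  have h' : B (μ • z) ((-(Q w)⁻¹) • w) = 0 := by rw [QuadraticMap.polar_smul_right, hμzw, smul_zero]
  refine R.of_pair hw (by rw [Classical.Orth.map_add', hμz, QuadraticMap.polar_comm, hμzw, add_zero, add_zero]) ?_
  rw [reflect_pair hw.1 hμz hμzw h']
  refine (inE_smul_left μ hz (by rw [QuadraticMap.polar_smul_right, hzw, smul_zero])).2 ?_ _ _
  rwa [smul_smul, mul_neg, ← div_eq_mul_inv]

/-- all multiples -/
theorem dir_of {w z : Vec} (hw : S.R w) (hz : Q z = 0) (hzw : B z w = 0)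
    (h : ∀ μ : F, μ ≠ 0 → S.R (w + μ • z)) : Dir S.M z w := by
  refine ⟨hz, hzw, fun s => ?_⟩
  rcases eq_or_ne s 0 with rfl | hs
  · intro hu h0
    rw [eich_congr (zero_smul F w) hu, eich_zero_right]
    exact one_mem S.M
  have := hw.root (h (-(s * Q w)) (neg_ne_zero.2 (mul_ne_zero hs hw.1))) hz hzw
  rwa [neg_div, neg_neg, mul_div_assoc, div_self hw.1, mul_one] at this

theorem Dir_shift {w z : Vec} (hw : S.R w) (h : Dir S.M z w) (μ : F) : S.R (w + μ • z) :=
  hw.shift h.1 h.2.1 (h.2.2 _)

theorem dir_self {z : Vec} (hz : Q z = 0) (s : F) : Dir S.M z (s • z) := by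
  have h : B z (s • z) = 0 := by rw [QuadraticMap.polar_smul_right, polar_self_zero hz, smul_zero]
  refine ⟨hz, h, fun r hu hw => ?_⟩
  have e := eich_add_self (Q := Q) (u := z) (w := 0) (r * s) hu (QuadraticMap.polar_zero_right _ _)
    (by rw [zero_add, QuadraticMap.polar_smul_right, polar_self_zero hz, smul_zero])
  rw [eich_congr (show r • s • z = 0 + (r * s) • z by rw [zero_add, smul_smul]) hu hw, e, eich_zero_right]
  exact one_mem S.M

theorem Dir_sum {z : Vec} (hz : Q z = 0) (f : Fin t → Vec) (h : ∀ i, Dir S.M z (f i)) :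
    Dir S.M z (∑ i, f i) := by
  have key : ∀ s : Finset (Fin t), Dir S.M z (∑ i ∈ s, f i) := fun s => by
    induction s using Finset.induction with
    | empty => rw [Finset.sum_empty, ← zero_smul F z]; exact dir_self hz 0
    | insert i s hi ih => rw [Finset.sum_insert hi]; exact (h i).add ih
  exact key Finset.univ

theorem centre_of {z : Vec} (hz : Q z = 0) (h : ∀ w, B z w = 0 → Dir S.M z w) :
    z ∈ Orth.centres S.M :=
  ⟨hz, fun w _ hzw => (h w hzw).mem⟩

end Setup

end Cfsg.Agent.Forms.Max.PlaneBlocks
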