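import Mathlib
import Cfsg.Agent.Lib.Forms.Max.PlaneBlocks.Root

/-!
# Isometries permuting the planes
-/

set_option autoImplicit false
set_option linter.unusedSectionVars false

namespace Cfsg.Agent.Forms.Max.PlaneBlocks

open Matrix Cfsg.Agent.Forms.QuadStd Cfsg.Agent.Forms.Reflections Cfsg.Agent.Classical.Orth

variable {F : Type*} [Field F] [Fintype F] {ι : Type} [Fintype ι] [DecidableEq ι]
variable {Q : QuadraticForm F (ι → F)} {t : ℕ} {D : Fin t → Submodule F (ι → F)}

local notation "Vec" => (ι → F)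
local notation "B" => QuadraticMap.polar Q
set_option quotPrecheck false in
local notation "Iso" => Cfsg.isometryGroup F ⇑Q

namespace Setup

variable (S : Setup Q D)

/-- a fixed isometry from the first plane -/
noncomputable def ψ (i : Fin t) : (D ⟨0, by have := S.five; omega⟩) ≃ₗ[F] D i :=
  Classical.choose (S.dec.isometric ⟨0, by have := S.five; omega⟩ i)

theorem ψ_map (i : Fin t) (x : D ⟨0, by have := S.five; omega⟩) : Q ((S.ψ i x : D i) : Vec) = Q (x : Vec) :=
  Classical.choose_spec (S.dec.isometric _ i) x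

/-- the transfer between two planes, on the whole space -/
noncomputable def trans (i j : Fin t) : (ι → F) →ₗ[F] (ι → F) :=
  (D j).subtype.comp ((((S.ψ i).symm.trans (S.ψ j)).toLinearMap).comp ((S.pr i).codRestrict (D i) (S.pr_mem i)))

theorem trans_mem (i j : Fin t) (x : Vec) : S.trans i j x ∈ D j :=
  ((((S.ψ i).symm.trans (S.ψ j)).toLinearMap) _).2

theorem trans_map (i j : Fin t) (x : Vec) : Q (S.trans i j x) = Q (S.pr i x) := by
  have h := S.ψ_map i ((S.ψ i).symm ((S.pr i).codRestrict (D i) (S.pr_mem i) x))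
  rw [LinearEquiv.apply_symm_apply] at h
  exact (S.ψ_map j _).trans h.symm

theorem trans_self (i : Fin t) (x : Vec) : S.trans i i x = S.pr i x := by
  simp [trans]

theorem trans_trans (i j l : Fin t) (x : Vec) : S.trans j l (S.trans i j x) = S.trans i l x := by
  have h : (S.pr j).codRestrict (D j) (S.pr_mem j) (S.trans i j x) =
      S.ψ j ((S.ψ i).symm ((S.pr i).codRestrict (D i) (S.pr_mem i) x)) :=
    Subtype.ext (S.pr_self (S.trans_mem i j x))
  simp only [trans, LinearMap.comp_apply, LinearEquiv.coe_coe, LinearEquiv.trans_apply, Submodule.subtype_apply]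
  rw [show (S.pr j).codRestrict (D j) (S.pr_mem j)
      ((S.ψ j ((S.ψ i).symm ((S.pr i).codRestrict (D i) (S.pr_mem i) x)) : D j) : Vec) =
      S.ψ j ((S.ψ i).symm ((S.pr i).codRestrict (D i) (S.pr_mem i) x)) from
    Subtype.ext (S.pr_self (S.ψ j _).2), LinearEquiv.symm_apply_apply]

/-- the linear map permuting the planes -/
noncomputable def permLin (σ : Equiv.Perm (Fin t)) : (ι → F) →ₗ[F] (ι → F) := ∑ i, S.trans i (σ i)

theorem pr_permLin (σ : Equiv.Perm (Fin t)) (j : Fin t) (x : Vec) :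
    S.pr j (S.permLin σ x) = S.trans (σ.symm j) j x := by
  rw [permLin, LinearMap.sum_apply, map_sum, Finset.sum_eq_single (σ.symm j)
    (fun i _ hi => S.pr_other (fun e => hi (by rw [e, Equiv.symm_apply_apply])) (S.trans_mem i (σ i) x))
    (fun h => absurd (Finset.mem_univ _) h), Equiv.apply_symm_apply, S.pr_self (S.trans_mem _ j x)]

theorem permLin_mul (σ τ : Equiv.Perm (Fin t)) (x : Vec) :
    S.permLin σ (S.permLin τ x) = S.permLin (σ * τ) x := by
  refine S.ext_pr fun j => ?_
  rw [S.pr_permLin, S.pr_permLin]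
  have h : ∀ y, S.trans (σ.symm j) j y = S.trans (σ.symm j) j (S.pr (σ.symm j) y) := fun y => by
    simp only [trans, LinearMap.comp_apply]
    rw [show (S.pr (σ.symm j)).codRestrict (D (σ.symm j)) (S.pr_mem _) (S.pr (σ.symm j) y) =
      (S.pr (σ.symm j)).codRestrict (D (σ.symm j)) (S.pr_mem _) y from Subtype.ext (S.pr_self (S.pr_mem _ y))]
  rw [h, S.pr_permLin, S.trans_trans]
  rfl

theorem permLin_one (x : Vec) : S.permLin 1 x = x := S.ext_pr fun j => by
  rw [S.pr_permLin, show (1 : Equiv.Perm (Fin t)).symm j = j from rfl, S.trans_self]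

/-- the isometry permuting the planes -/
noncomputable def perm (σ : Equiv.Perm (Fin t)) : Cfsg.isometryGroup F ⇑Q :=
  QuadStd.isoOfEquiv ⇑Q (LinearEquiv.ofLinearMap (S.permLin σ) (S.permLin σ⁻¹)
    (LinearMap.ext fun x => by rw [LinearMap.comp_apply, S.permLin_mul, mul_inv_cancel, S.permLin_one]; rfl)
    (LinearMap.ext fun x => by rw [LinearMap.comp_apply, S.permLin_mul, inv_mul_cancel, S.permLin_one]; rfl))
    (fun x => by
      show Q (S.permLin σ x) = Q x
      rw [S.Q_sum, S.Q_sum x]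
      refine Fintype.sum_equiv σ.symm _ _ fun j => ?_
      rw [S.pr_permLin, S.trans_map])

theorem act_perm (σ : Equiv.Perm (Fin t)) (x : Vec) : act (S.perm σ) x = S.permLin σ x := by
  rw [act_apply, perm, QuadStd.isoOfEquiv_mulVec]; rfl

theorem pr_perm (σ : Equiv.Perm (Fin t)) (j : Fin t) (x : Vec) :
    S.pr j (act (S.perm σ) x) = S.trans (σ.symm j) j x := by rw [act_perm, pr_permLin]

theorem perm_mem_plane (σ : Equiv.Perm (Fin t)) {i : Fin t} {x : Vec} (hx : x ∈ D i) :
    act (S.perm σ) x ∈ D (σ i) := S.mem_of_pr fun j hj => by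
  rw [S.pr_perm]
  have h : S.pr (σ.symm j) x = 0 := S.pr_other (fun e => hj (by rw [← e, Equiv.apply_symm_apply])) hx
  simp only [trans, LinearMap.comp_apply]
  rw [show (S.pr (σ.symm j)).codRestrict (D (σ.symm j)) (S.pr_mem _) x = 0 from Subtype.ext h, map_zero,
    map_zero]

theorem perm_mul (σ τ : Equiv.Perm (Fin t)) : S.perm (σ * τ) = S.perm σ * S.perm τ :=
  act_ext fun x => by rw [act_mul, act_perm, act_perm, act_perm, permLin_mul]

/-- the homomorphism into the isometries -/
noncomputable def permHom : Equiv.Perm (Fin t) →* Cfsg.isometryGroup F ⇑Q :=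
  MonoidHom.mk' S.perm S.perm_mul

theorem perm_mem {σ : Equiv.Perm (Fin t)} (h : σ.IsThreeCycle) : S.perm σ ∈ S.M := by
  refine S.mem _ ?_ ⟨σ, fun i x hx => S.perm_mem_plane σ hx⟩
  obtain ⟨f⟩ := Orth.exists_frame S.nd S.five'
  have hc : ∀ g : Iso, g ^ 2 ∈ Cfsg.Omega F ⇑Q := fun g => by
    have htop := refGroup_eq_top S.nd (Or.inr (by have := S.five'; omega))
    have h : g ∈ refGroup Q := htop ▸ Subgroup.mem_top g
    let π := Abelianization.of (G := Cfsg.isometryGroup F ⇑Q)
    have key : π g * π g = 1 := by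
      induction h using Subgroup.closure_induction with
      | mem g hg => obtain ⟨v, -, rfl⟩ := hg; rw [← map_mul, reflect_sq, map_one]
      | one => simp
      | mul a b _ _ ha hb => rw [map_mul, mul_mul_mul_comm, ha, hb, one_mul]
      | inv a _ ha => rw [map_inv, ← _root_.mul_inv_rev, ha, inv_one]
    rw [sq]
    rw [← map_mul] at key
    exact (QuotientGroup.eq_one_iff _).1 key
  have h3 : S.perm σ ^ 3 = 1 := by
    rw [show S.perm σ = S.permHom σ from rfl, ← map_pow]
    have := pow_orderOf_eq_one σ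
    rw [h.orderOf] at this
    rw [this, map_one]
  have := mul_mem (hc (S.perm σ)) (hc (S.perm σ))
  rw [← pow_add, pow_succ, h3, one_mul] at this
  exact this

theorem perm_even {σ : Equiv.Perm (Fin t)} (h : σ ∈ alternatingGroup (Fin t)) : S.perm σ ∈ S.M := by
  rw [← Equiv.Perm.closure_three_cycles_eq_alternating] at h
  have hle : Subgroup.closure {σ : Equiv.Perm (Fin t) | σ.IsThreeCycle} ≤ S.M.comap S.permHom :=
    (Subgroup.closure_le _).2 fun τ hτ => S.perm_mem hτ
  exact hle h

/-- an element carrying an ordered pair of planes to another -/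
theorem exists_carry {i l p q : Fin t} (hil : i ≠ l) (hpq : p ≠ q) :
    ∃ σ : Equiv.Perm (Fin t), σ i = p ∧ σ l = q ∧ S.perm σ ∈ S.M := by
  classical
  have := S.five
  set σ₁ := Equiv.swap i p with hσ₁
  set σ₀ := Equiv.swap (σ₁ l) q * σ₁ with hσ₀
  have h1 : σ₁ i = p := Equiv.swap_apply_left _ _
  have hne : σ₁ l ≠ p := fun e => hil (σ₁.injective (h1.trans e.symm))
  have h2 : σ₀ i = p := by
    rw [hσ₀, Equiv.Perm.mul_apply, h1, Equiv.swap_apply_of_ne_of_ne (Ne.symm hne) hpq]
  have h3 : σ₀ l = q := by rw [hσ₀, Equiv.Perm.mul_apply, Equiv.swap_apply_left]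
  by_cases hev : σ₀ ∈ alternatingGroup (Fin t)
  · exact ⟨σ₀, h2, h3, S.perm_even hev⟩
  obtain ⟨a, ha, b, hb, hab⟩ := Finset.one_lt_card.1
    (show 1 < ((Finset.univ.erase p).erase q : Finset (Fin t)).card by
      rw [Finset.card_erase_of_mem (Finset.mem_erase.2 ⟨hpq.symm, Finset.mem_univ _⟩),
        Finset.card_erase_of_mem (Finset.mem_univ p), Finset.card_univ, Fintype.card_fin]
      omega)
  simp only [Finset.mem_erase] at ha hb
  refine ⟨Equiv.swap a b * σ₀, ?_, ?_, S.perm_even ?_⟩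
  · rw [Equiv.Perm.mul_apply, h2, Equiv.swap_apply_of_ne_of_ne (Ne.symm ha.2.1) (Ne.symm hb.2.1)]
  · rw [Equiv.Perm.mul_apply, h3, Equiv.swap_apply_of_ne_of_ne (Ne.symm ha.1) (Ne.symm hb.1)]
  · rw [Equiv.Perm.mem_alternatingGroup, map_mul, Equiv.Perm.sign_swap hab]
    rw [Equiv.Perm.mem_alternatingGroup] at hev
    rw [(Int.units_eq_one_or (Equiv.Perm.sign σ₀)).resolve_left hev]
    rfl

theorem exists_three_cycle {i l m : Fin t} (hil : i ≠ l) (him : i ≠ m) (hlm : l ≠ m) :
    ∃ σ : Equiv.Perm (Fin t), σ i = l ∧ σ l = m ∧ σ m = i ∧ (∀ p, p ≠ i → p ≠ l → p ≠ m → σ p = p) ∧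
      S.perm σ ∈ S.M := by
  refine ⟨Equiv.swap i l * Equiv.swap l m, ?_, ?_, ?_, fun p h1 h2 h3 => ?_, S.perm_mem ?_⟩
  · rw [Equiv.Perm.mul_apply, Equiv.swap_apply_of_ne_of_ne hil him, Equiv.swap_apply_left]
  · rw [Equiv.Perm.mul_apply, Equiv.swap_apply_left, Equiv.swap_apply_of_ne_of_ne (Ne.symm him) (Ne.symm hlm)]
  · rw [Equiv.Perm.mul_apply, Equiv.swap_apply_right, Equiv.swap_apply_right]
  · rw [Equiv.Perm.mul_apply, Equiv.swap_apply_of_ne_of_ne h2 h3, Equiv.swap_apply_of_ne_of_ne h1 h2]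
  · rw [Equiv.swap_comm i l]
    exact Equiv.Perm.isThreeCycle_swap_mul_swap_same (Ne.symm hil) hlm him

end Setup

end Cfsg.Agent.Forms.Max.PlaneBlocks
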