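import Mathlib
import Cfsg.Agent.Lib.Forms.Max.PlaneBlocks.Basic

/-!
# Scalar facts for the descent
-/

set_option autoImplicit false
set_option linter.unusedSectionVars false

namespace Cfsg.Agent.Forms.Max.PlaneBlocks

variable {F : Type*} [Field F] [Fintype F]

/-- square values of a quadratic with a non-square leading coefficient -/
theorem exists_k (h2 : (2 : F) ≠ 0) {c A β : F} (hc : c ≠ 0) (hA : A ≠ 0) (hns : ¬ Sq A c)
    (hβ : β * β ≠ 4 * (A * A)) (h3 : Fintype.card F ≠ 3)
    (hq : 7 ≤ Fintype.card F ∨ ∀ k : F, A - k * β + k * k * A ≠ 0) :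
    ∃ k : F, k ≠ 1 ∧ k ≠ -1 ∧ A - k * β + k * k * A ≠ 0 ∧ Sq (A - k * β + k * k * A) c := by
  classical
  set h := β / (2 * A) with hh
  have h2A : (2 : F) * A ≠ 0 := mul_ne_zero h2 hA
  have hβh : β = 2 * A * h := by rw [hh]; field_simp
  set N := A - A * (h * h) with hN
  have hN0 : N ≠ 0 := fun e => hβ (by
    have : A * (1 - h * h) = 0 := by rw [hN] at e; linear_combination e
    have h1 := (mul_eq_zero.1 this).resolve_left hA
    rw [hβh]; linear_combination -(4 * A * A) * h1)
  obtain ⟨z0, K0, hP⟩ := Cfsg.Agent.Forms.Bases.exists_sq_add_sq h2 hc (neg_ne_zero.2 hA) N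
  have hden : ∀ s : F, c - A * (s * s) ≠ 0 := fun s e => hns ⟨A * s, by
    linear_combination A * (sub_eq_zero.1 e)⟩
  set u : F → F := fun s => -2 * (c * z0 - A * K0 * s) / (c - A * (s * s)) with hu
  set pt : F → F × F := fun s => (z0 + u s, K0 + s * u s + h) with hpt
  have hon : ∀ s, c * ((pt s).1 * (pt s).1) = A - (pt s).2 * β + (pt s).2 * (pt s).2 * A := fun s => by
    have hd := hden s
    have e : u s * (c - A * (s * s)) = -2 * (c * z0 - A * K0 * s) := by
      rw [hu]; exact div_mul_cancel₀ _ hd
    simp only [hpt]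
    rw [hβh]
    linear_combination (u s) * e + hP
  have hinj : Function.Injective pt := by
    intro s s' e
    simp only [hpt, Prod.mk.injEq, add_right_inj, add_left_inj] at e
    obtain ⟨e1, e2⟩ := e
    rw [← e1] at e2
    by_cases hu0 : u s = 0
    · have hz : ∀ r, u r = 0 → c * z0 = A * K0 * r := fun r hr => by
        rw [hu] at hr
        simp only [div_eq_zero_iff, hden r, or_false, mul_eq_zero, neg_eq_zero, h2, false_or, sub_eq_zero] at hr
        exact hr
      have f1 := hz s hu0
      have f2 := hz s' (e1 ▸ hu0)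
      have hAK : A * K0 ≠ 0 := fun e0 => hN0 (by
        rw [e0, zero_mul] at f1
        rw [← hP, (mul_eq_zero.1 f1).resolve_left hc, (mul_eq_zero.1 e0).resolve_left hA]
        ring)
      exact mul_left_cancel₀ hAK (f1.symm.trans f2)
    · exact mul_right_cancel₀ hu0 e2
  by_contra hcon
  push Not at hcon
  have hbadk : ∀ s, (pt s).2 = 1 ∨ (pt s).2 = -1 ∨ (pt s).1 = 0 := fun s => by
    by_contra hcc
    push Not at hcc
    refine hcon _ hcc.1 hcc.2.1 ?_ ⟨c * (pt s).1, by rw [← hon]; ring⟩
    rw [← hon]
    exact mul_ne_zero hc (mul_ne_zero hcc.2.2 hcc.2.2)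
  set C : Finset (F × F) := Finset.univ.filter fun p => c * (p.1 * p.1) = A - p.2 * β + p.2 * p.2 * A with hC
  have hk2 : ∀ k : F, (C.filter fun p => p.2 = k).card ≤ 2 := fun k => by
    by_cases hex : ∃ p ∈ C, p.2 = k
    · obtain ⟨p, hp, rfl⟩ := hex
      refine (Finset.card_le_card (t := {p, (-p.1, p.2)}) fun q hq => ?_).trans Finset.card_le_two
      simp only [Finset.mem_filter, hC, Finset.mem_univ, true_and] at hp hq
      have : (q.1 - p.1) * (q.1 + p.1) = 0 := mul_left_cancel₀ hc (by
        rw [mul_zero]; have e := hq.1; rw [hq.2] at e; linear_combination e - hp)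
      rcases mul_eq_zero.1 this with e | e
      · simp [Prod.ext_iff, sub_eq_zero.1 e, hq.2]
      · simp [Prod.ext_iff, eq_neg_of_add_eq_zero_left e, hq.2]
    · rw [Finset.filter_false_of_mem fun p hp e => hex ⟨p, hp, e⟩]
      simp
  have hz2 : (C.filter fun p => p.1 = 0).card ≤ 2 ∧
      ((∀ k : F, A - k * β + k * k * A ≠ 0) → (C.filter fun p => p.1 = 0).card = 0) := by
    refine ⟨?_, fun hno => ?_⟩
    · by_cases hex : ∃ p ∈ C, p.1 = 0
      · obtain ⟨p, hp, hp1⟩ := hex
        refine (Finset.card_le_card (t := {p, (0, β / A - p.2)}) fun q hq => ?_).trans Finset.card_le_two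
        simp only [Finset.mem_filter, hC, Finset.mem_univ, true_and] at hp hq
        have e := hq.1
        rw [hq.2] at e
        rw [hp1] at hp
        have : (q.2 - p.2) * (A * (q.2 + p.2) - β) = 0 := by linear_combination hp - e
        rcases mul_eq_zero.1 this with e' | e'
        · simp [Prod.ext_iff, sub_eq_zero.1 e', hq.2, hp1]
        · rw [Finset.mem_insert, Finset.mem_singleton]
          refine Or.inr (Prod.ext hq.2 ?_)
          show q.2 = β / A - p.2
          field_simp
          linear_combination e'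
      · rw [Finset.filter_false_of_mem fun p hp e => hex ⟨p, hp, e⟩]
        simp
    · rw [Finset.card_eq_zero, Finset.filter_eq_empty_iff]
      intro p hp e
      simp only [hC, Finset.mem_filter, Finset.mem_univ, true_and] at hp
      refine hno p.2 ?_
      rw [← hp, e]; ring
  have hsub : (Finset.univ : Finset F).image pt ⊆ (C.filter fun p => p.2 = 1) ∪ (C.filter fun p => p.2 = -1) ∪
      (C.filter fun p => p.1 = 0) := fun p hp => by
    obtain ⟨s, -, rfl⟩ := Finset.mem_image.1 hp
    have hmem : pt s ∈ C := Finset.mem_filter.2 ⟨Finset.mem_univ _, hon s⟩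
    simp only [Finset.mem_union, Finset.mem_filter]
    rcases hbadk s with e | e | e
    · exact Or.inl (Or.inl ⟨hmem, e⟩)
    · exact Or.inl (Or.inr ⟨hmem, e⟩)
    · exact Or.inr ⟨hmem, e⟩
  have h1 := Finset.card_le_card hsub
  rw [Finset.card_image_of_injective _ hinj, Finset.card_univ] at h1
  have h2' := h1.trans ((Finset.card_union_le _ _).trans (Nat.add_le_add_right (Finset.card_union_le _ _) _))
  have := hk2 1
  have := hk2 (-1)
  have hodd : Fintype.card F % 2 = 1 :=
    FiniteField.odd_card_of_char_ne_two (fun hh => h2 (by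
      have : CharP F 2 := hh ▸ ringChar.charP F
      exact CharTwo.two_eq_zero))
  have hq1 := Fintype.one_lt_card (α := F)
  rcases hq with hq | hq
  · have := hz2.1; omega
  · have := hz2.2 hq; omega

/-- two additive conditions with a common solution -/
theorem exists_artin_schreier (h2 : (2 : F) = 0) (hq : 5 ≤ Fintype.card F) (K : F) :
    ∃ z z' : F, z * z + z ≠ 0 ∧ z' * z' + z' = K * (z * z + z) := by
  classical
  by_contra hc
  push Not at hc
  let φ : F × F →+ F :=
    { toFun := fun p => p.2 * p.2 + p.2 - K * (p.1 * p.1 + p.1)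
      map_zero' := by simp
      map_add' := fun p q => by
        simp only [Prod.fst_add, Prod.snd_add]
        linear_combination (p.2 * q.2 - K * p.1 * q.1) * h2 }
  have hker : ∀ p ∈ φ.ker, (p.1 = 0 ∨ p.1 = -1) ∧ (p.2 = 0 ∨ p.2 = -1) := fun p hp => by
    have e : p.2 * p.2 + p.2 = K * (p.1 * p.1 + p.1) := sub_eq_zero.1 (AddMonoidHom.mem_ker.1 hp)
    have e1 : p.1 * p.1 + p.1 = 0 := by_contra fun h => hc p.1 p.2 h e
    rw [e1, mul_zero] at e
    have f : ∀ r : F, r * r + r = 0 → r = 0 ∨ r = -1 := fun r hr => by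
      rcases mul_eq_zero.1 (show r * (r + 1) = 0 by linear_combination hr) with h | h
      · exact Or.inl h
      · exact Or.inr (eq_neg_of_add_eq_zero_left h)
    exact ⟨f _ e1, f _ e⟩
  have h1 := φ.ker.card_mul_index
  rw [AddSubgroup.index_ker, Nat.card_prod] at h1
  have h4 : Nat.card φ.ker ≤ 4 := by
    have hsub : (φ.ker : Set (F × F)) ⊆ ↑(({0, -1} : Finset F) ×ˢ ({0, -1} : Finset F)) := fun p hp => by
      have := hker p hp
      simp [this.1, this.2]
    have := Set.ncard_le_ncard hsub (Finset.finite_toSet _)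
    rw [Set.ncard_coe_finset, Finset.card_product] at this
    refine le_trans ?_ (this.trans (Nat.mul_le_mul Finset.card_le_two Finset.card_le_two))
    exact le_of_eq (Nat.card_coe_set_eq _)
  have hr : Nat.card φ.range ≤ Nat.card F := Nat.card_le_card_of_injective _ Subtype.val_injective
  rw [Nat.card_eq_fintype_card (α := F)] at h1 hr
  nlinarith

end Cfsg.Agent.Forms.Max.PlaneBlocks
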