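import Mathlib
import Cfsg.Agent.Lib.Forms.Max.PlaneBlocks.Root

/-!
# A member outside the planes

An element of the subgroup outside the stabiliser gives one fixing a non-zero vector of a plane, and this gives a
member of the class outside the planes.
-/

set_option autoImplicit false
set_option linter.unusedSectionVars false

namespace Cfsg.Agent.Forms.Max.PlaneBlocks

open Matrix Cfsg.Agent.Forms.QuadStd Cfsg.Agent.Forms.Reflections Cfsg.Agent.Classical.Orth
open Cfsg.Agent.Forms.Max.OrthPair (InE inE_add inE_neg inE_map)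

variable {F : Type*} [Field F] [Fintype F] {ι : Type} [Fintype ι] [DecidableEq ι]
variable {Q : QuadraticForm F (ι → F)} {t : ℕ} {D : Fin t → Submodule F (ι → F)}

local notation "Vec" => (ι → F)
local notation "B" => QuadraticMap.polar Q
set_option quotPrecheck false in
local notation "Iso" => Cfsg.isometryGroup F ⇑Q

namespace Setup

variable {S : Setup Q D}

/-- members outside all the planes -/
def Nontriv (_S : Setup Q D) (x : Vec) : Prop := ∀ i : Fin t, x ∉ D i

include S in
theorem perms_of_blocks {g : Iso} (h : ∀ i, ∃ j, ∀ x ∈ D i, act g x ∈ D j) : Perms D g := by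
  choose σ hσ using h
  have hsurj : Function.Surjective σ := by
    intro j
    by_contra hno
    push Not at hno
    obtain ⟨x, hx, hx0⟩ := Submodule.exists_mem_ne_zero_of_ne_bot (p := D j) fun e => by
      have := (S.plane j).rank
      rw [e, finrank_bot] at this
      omega
    refine hx0 (S.nd.1 x fun y => ?_)
    have hle : iSup D ≤ (Orth.ker Q x).comap (act g) :=
      iSup_le fun i z hz => S.orth (Ne.symm (hno i)) hx (hσ i z hz)
    have : act g (act g⁻¹ y) = y := by rw [← act_mul, mul_inv_cancel, act_one]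
    rw [← this]
    exact hle (S.dec.decomp.decomp.iSup_eq_top ▸ Submodule.mem_top)
  exact ⟨Equiv.ofBijective σ (Finite.surjective_iff_bijective.1 hsurj), hσ⟩

include S in
/-- outside the stabiliser some vector of a given value leaves the planes -/
theorem exists_nontriv {g : Iso} (hg : ¬ Perms D g) {d : F} (hd : d ≠ 0) :
    ∃ i, ∃ v ∈ D i, Q v = d ∧ S.Nontriv (act g v) := by
  by_contra hc
  push Not at hc
  refine hg (perms_of_blocks (S := S) fun i => ?_)
  obtain ⟨v, hv, hQv⟩ := (S.plane i).exists_value hd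
  have hv0 : v ≠ 0 := fun e => hd (by rw [← hQv, e, QuadraticMap.map_zero])
  obtain ⟨w, hw, hQw, hwv, -⟩ := (S.plane i).exists_off_lines (S.big' i) S.three hd v v
  have hw0 : w ≠ 0 := fun e => hd (by rw [← hQw, e, QuadraticMap.map_zero])
  obtain ⟨u, hu, hQu, huv, huw⟩ := (S.plane i).exists_off_lines (S.big' i) S.three hd v w
  simp only [Nontriv, not_forall, not_not] at hc
  obtain ⟨p, hp⟩ := hc i v hv hQv
  obtain ⟨q, hq⟩ := hc i w hw hQw
  obtain ⟨r, hr⟩ := hc i u hu hQu
  obtain ⟨α, β, rfl⟩ := (S.plane i).exists_comb hv hw hv0 hwv hu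
  have hβ : β ≠ 0 := fun e => huv (by
    rw [e, zero_smul, add_zero]
    exact Submodule.smul_mem _ α (Submodule.mem_span_singleton_self v))
  have hα : α ≠ 0 := fun e => huw (by
    rw [e, zero_smul, zero_add]
    exact Submodule.smul_mem _ β (Submodule.mem_span_singleton_self w))
  have hpq : p = q := by
    by_contra hpq
    rw [map_add, map_smul, map_smul] at hr
    have ne : ∀ x : Vec, x ≠ 0 → act g x ≠ 0 := fun x hx e =>
      hx (by rw [← Spinor.act_inv_cancel g x, e, map_zero])
    have e1 := S.pr_self hr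
    rw [map_add, map_smul, map_smul] at e1
    by_cases hrp : r = p
    · subst hrp
      rw [S.pr_self hp, S.pr_other hpq hq, smul_zero, add_zero, left_eq_add, smul_eq_zero] at e1
      exact e1.elim hβ (ne w hw0)
    · have e2 := S.pr_other (Ne.symm hrp) hr
      rw [map_add, map_smul, map_smul, S.pr_self hp, S.pr_other hpq hq, smul_zero, add_zero, smul_eq_zero] at e2
      exact e2.elim hα (ne v hv0)
  subst hpq
  refine ⟨p, fun x hx => ?_⟩
  obtain ⟨a, b, rfl⟩ := (S.plane i).exists_comb hv hw hv0 hwv hx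
  rw [map_add, map_smul, map_smul]
  exact Submodule.add_mem _ (Submodule.smul_mem _ _ hp) (Submodule.smul_mem _ _ hq)

include S in
/-- an element of the stabiliser moving two components, with small commutator space -/
theorem moved_pair {h : Iso} {σ : Equiv.Perm (Fin t)} (hσ : ∀ i, ∀ x ∈ D i, act h x ∈ D (σ i))
    {W : Submodule F Vec} (hW : Module.finrank F W = 2) (hWr : ∀ x, act h x - x ∈ W) {l : Fin t}
    (hl : σ l ≠ l) :
    (∀ y ∈ W, ∀ p, p ≠ l → p ≠ σ l → S.pr p y = 0) ∧ ∀ y ∈ W, act h (act h y) = y := by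
  have hrep : ∀ {a : Fin t}, σ a ≠ a → ∀ y ∈ W, ∃ u ∈ D a, y = act h u - u := by
    intro a ha y hy
    let φ : D a →ₗ[F] W := LinearMap.codRestrict W ((act h - LinearMap.id).comp (D a).subtype) fun x => hWr x
    have hinj : Function.Injective φ := by
      rw [injective_iff_map_eq_zero]
      intro x hx
      have h1 : act h (x : Vec) - x = 0 := congrArg Subtype.val hx
      have h2 := congrArg (S.pr a) h1
      rw [map_sub, map_zero, S.pr_other (Ne.symm ha) (hσ a x x.2), S.pr_self x.2, zero_sub, neg_eq_zero] at h2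
      exact Subtype.ext h2
    obtain ⟨u, hu⟩ := (LinearMap.injective_iff_surjective_of_finrank_eq_finrank
      (by rw [hW, (S.plane a).rank])).1 hinj ⟨y, hy⟩
    exact ⟨u, u.2, (congrArg Subtype.val hu).symm⟩
  have hout : ∀ {a : Fin t}, σ a ≠ a → ∀ y ∈ W, ∀ p, p ≠ a → p ≠ σ a → S.pr p y = 0 := by
    intro a ha y hy p hp hp'
    obtain ⟨u, hu, rfl⟩ := hrep ha y hy
    rw [map_sub, S.pr_other hp' (hσ a u hu), S.pr_other hp hu, sub_zero]
  set m := σ l with hm
  have hmm : σ m ≠ m := fun e => hl (σ.injective e)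
  have hml : σ m = l := by
    by_contra hne
    obtain ⟨v, hv, hv0⟩ := Submodule.exists_mem_ne_zero_of_ne_bot (p := D m) fun e => by
      have := (S.plane m).rank
      rw [e, finrank_bot] at this
      omega
    have := hout hl _ (hWr v) (σ m) hne hmm
    rw [map_sub, S.pr_self (hσ m v hv), S.pr_other hmm hv, sub_zero] at this
    exact hv0 (by rw [← Spinor.act_inv_cancel h v, this, map_zero])
  have hswap : ∀ {a b : Fin t}, σ a = b → σ b = a → a ≠ b → ∀ v ∈ D a, act h (act h v) = v := by
    intro a b hab hba hne v hv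
    obtain ⟨u, hu, e⟩ := hrep (a := b) (by rw [hba]; exact hne) _ (hWr v)
    have hhv : act h v ∈ D b := hab ▸ hσ a v hv
    have hhu : act h u ∈ D a := hba ▸ hσ b u hu
    have e1 := congrArg (S.pr b) e
    rw [map_sub, map_sub, S.pr_self hhv, S.pr_other hne.symm hv, S.pr_other hne.symm hhu, S.pr_self hu,
      sub_zero, zero_sub] at e1
    have e2 := congrArg (S.pr a) e
    rw [map_sub, map_sub, S.pr_other hne hhv, S.pr_self hv, S.pr_self hhu, S.pr_other hne hu,
      sub_zero, zero_sub] at e2
    rw [e1, map_neg, ← e2, neg_neg]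
  refine ⟨hout hl, fun y hy => ?_⟩
  obtain ⟨u, hu, rfl⟩ := hrep hl y hy
  rw [map_sub, map_sub, hswap hml (hm.symm) hl _ (hσ l u hu), hswap hm.symm hml (Ne.symm hl) u hu]

include S in
/-- two rotations of a plane without fixed vectors -/
theorem exists_rot (k : Fin t) {d : F} (hd : d ≠ 0) :
    ∃ a b, a ∈ D k ∧ b ∈ D k ∧ Q a = d ∧ Q b = d ∧ b ∉ Submodule.span F {a} ∧ B a b ≠ 0 := by
  obtain ⟨a, ha, hQa⟩ := (S.plane k).exists_value hd
  obtain ⟨p, hp, hp0, hap⟩ := (S.plane k).exists_orth ha
  obtain ⟨b, hb, hQb, hba, hbp⟩ := (S.plane k).exists_off_lines (S.big' k) S.three hd a p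
  refine ⟨a, b, ha, hb, hQa, hQb, hba, fun h => ?_⟩
  obtain ⟨s, rfl⟩ := (S.plane k).orth_line ha (fun e => hd (by rw [← hQa, e, QuadraticMap.map_zero])) hp hp0
    hap hb h
  exact hbp (Submodule.smul_mem _ s (Submodule.mem_span_singleton_self p))

theorem rot_mem {k : Fin t} {a b : Vec} (ha : a ∈ D k) (hb : b ∈ D k) (hA : Q a ≠ 0) (h : Q b = Q a) :
    reflect Q a * reflect Q b ∈ S.M :=
  (triv (S := S) ha hA).pair (triv hb (by rw [h]; exact hA)) h

include S in
theorem rot_fixed {k : Fin t} {a b x : Vec} (ha : a ∈ D k) (hb : b ∈ D k) (hA : Q a ≠ 0) (hQb : Q b ≠ 0)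
    (hba : b ∉ Submodule.span F {a}) (hx : x ∈ D k) (h : act (reflect Q a * reflect Q b) x = x) : x = 0 := by
  have ha0 : a ≠ 0 := fun e => hA (by rw [e, QuadraticMap.map_zero])
  have h' := congrArg (act (reflect Q a)) h
  rw [← act_mul, ← mul_assoc, reflect_sq, one_mul, act_reflect, act_reflect, sub_right_inj] at h'
  have hb1 : (Q b)⁻¹ * B b x = 0 := by
    by_contra hne
    refine hba ((Submodule.smul_mem_iff _ hne).1 ?_)
    rw [h']
    exact Submodule.smul_mem _ _ (Submodule.mem_span_singleton_self a)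
  rw [hb1, zero_smul, eq_comm, smul_eq_zero, or_iff_left ha0, mul_eq_zero, or_iff_right (inv_ne_zero hA)] at h'
  rw [mul_eq_zero, or_iff_right (inv_ne_zero hQb)] at hb1
  by_contra hx0
  obtain ⟨s, hs, hne⟩ := (S.plane k).nd x hx hx0
  obtain ⟨α, β, rfl⟩ := (S.plane k).exists_comb ha hb ha0 hba hs
  apply hne
  rw [B_comb, QuadraticMap.polar_comm, h', QuadraticMap.polar_comm, hb1, mul_zero, mul_zero, add_zero]

theorem rot_sq {a b : Vec} (hA : Q a ≠ 0) (hQb : Q b = Q a) (hba : b ∉ Submodule.span F {a}) (hab : B a b ≠ 0) :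
    act (reflect Q a * reflect Q b) (act (reflect Q a * reflect Q b) a) ≠ a := by
  intro h
  have hinv : (reflect Q a * reflect Q b)⁻¹ = reflect Q b * reflect Q a := by
    rw [_root_.mul_inv_rev, inv_eq_of_mul_eq_one_left (reflect_sq a), inv_eq_of_mul_eq_one_left (reflect_sq b)]
  have h' := congrArg (act (reflect Q a * reflect Q b)⁻¹) h
  rw [Spinor.act_inv_cancel, hinv, act_mul, act_mul, act_reflect b a, act_reflect a a, polar_self',
    show (Q a)⁻¹ * (2 * Q a) = 2 by field_simp, two_smul, map_sub, map_smul, sub_add_cancel_left,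
    map_neg, act_reflect, act_reflect a b, act_reflect b a, hQb, polar_self',
    show (Q a)⁻¹ * (2 * Q a) = 2 by field_simp, two_smul, QuadraticMap.polar_comm _ b a] at h'
  set c := (Q a)⁻¹ * B a b with hc
  have hc0 : c ≠ 0 := mul_ne_zero (inv_ne_zero hA) hab
  have e : (c * c) • a - (2 * c) • b = 0 := by
    rw [← sub_eq_zero] at h'
    rw [← h']
    module
  rcases eq_or_ne (2 : F) 0 with h2 | h2
  · rw [h2, zero_mul, zero_smul, sub_zero, smul_eq_zero, or_iff_right (mul_ne_zero hc0 hc0)] at e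
    exact hA (by rw [e, QuadraticMap.map_zero])
  · refine hba ((Submodule.smul_mem_iff _ (mul_ne_zero h2 hc0)).1 ?_)
    rw [← sub_eq_zero.1 e]
    exact Submodule.smul_mem _ _ (Submodule.mem_span_singleton_self a)

/-- the commutator space of a product of two reflections -/
theorem pair_range {a b : Vec} {W : Submodule F Vec} (ha : a ∈ W) (hb : b ∈ W) (x : Vec) :
    act (reflect Q a * reflect Q b) x - x ∈ W := by
  rw [act_mul, act_reflect, act_reflect, sub_right_comm, sub_sub_cancel_left]
  exact W.sub_mem (W.neg_mem (W.smul_mem _ hb)) (W.smul_mem _ ha)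

theorem pair_conj (g : Iso) (a b : Vec) :
    g * (reflect Q a * reflect Q b) * g⁻¹ = reflect Q (act g a) * reflect Q (act g b) := by
  rw [← Spinor.reflect_conj, ← Spinor.reflect_conj]
  group

include S in
/-- the commutator space of a small element of the stabiliser is spanned by two components -/
theorem not_perms_of_three {h : Iso} {W : Submodule F Vec} (hW : Module.finrank F W = 2)
    (hWr : ∀ x, act h x - x ∈ W) {y : Vec} (hy : y ∈ W) (hy' : ∃ x, act h x - x = y)
    (hfull : ∀ l, S.pr l y ≠ 0) : ¬ Perms D h := by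
  rintro ⟨σ, hσ⟩
  have := S.five
  by_cases hmv : ∃ l, σ l ≠ l
  · obtain ⟨l, hl⟩ := hmv
    obtain ⟨p, hp⟩ := Finset.card_pos.1 (show 0 < ((Finset.univ.erase l).erase (σ l) : Finset (Fin t)).card by
      rw [Finset.card_erase_of_mem (Finset.mem_erase.2 ⟨hl, Finset.mem_univ _⟩),
        Finset.card_erase_of_mem (Finset.mem_univ l), Finset.card_univ, Fintype.card_fin]
      omega)
    simp only [Finset.mem_erase] at hp
    exact hfull p ((moved_pair (S := S) hσ hW hWr hl).1 y hy p hp.2.1 hp.1)
  push Not at hmv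
  obtain ⟨x, hx⟩ := hy'
  have hcl : ∀ l, S.pr l y ∈ W := fun l => by
    have : S.pr l y = act h (S.pr l x) - S.pr l x := by
      rw [← hx, map_sub]
      congr 1
      conv_lhs => rw [← S.sum_pr x, map_sum, map_sum]
      rw [Finset.sum_eq_single l (fun i _ hi => S.pr_other (Ne.symm hi) (by
          have := hσ i _ (S.pr_mem i x); rwa [hmv] at this))
        (fun hh => absurd (Finset.mem_univ l) hh), S.pr_self (by
          have := hσ l _ (S.pr_mem l x); rwa [hmv] at this)]
    rw [this]
    exact hWr _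
  let l₀ : Fin t := ⟨0, by omega⟩
  let l₁ : Fin t := ⟨1, by omega⟩
  let l₂ : Fin t := ⟨2, by omega⟩
  have h01 : l₀ ≠ l₁ := by simp [l₀, l₁]
  have h02 : l₀ ≠ l₂ := by simp [l₀, l₂]
  have h12 : l₁ ≠ l₂ := by simp [l₁, l₂]
  obtain ⟨α, β, e⟩ := comb_of_rank hW (hcl l₀) (hcl l₁) (hfull l₀) (fun hm => hfull l₁ (by
    obtain ⟨r, hr⟩ := Submodule.mem_span_singleton.1 hm
    rw [← S.pr_self (S.pr_mem l₁ y), ← hr, map_smul, S.pr_other h01.symm (S.pr_mem l₀ y), smul_zero]))
    (hcl l₂)
  refine hfull l₂ ?_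
  rw [← S.pr_self (S.pr_mem l₂ y), e, map_add, map_smul, map_smul, S.pr_other h02.symm (S.pr_mem l₀ y),
    S.pr_other h12.symm (S.pr_mem l₁ y), smul_zero, smul_zero, add_zero]

include S in
theorem pr_eq_zero_of_image {g : Iso} {k l : Fin t} {W : Submodule F Vec} (hW : W = (D k).map (act g))
    (hWl : W = D l) {k' : Fin t} (hk : k' ≠ k) {x : Vec} (hx : x ∈ D k') : S.pr l (act g x) = 0 := by
  by_contra h
  obtain ⟨z, hz, hne⟩ := (S.plane l).nd _ (S.pr_mem l _) h
  rw [S.pr_pair l _ hz] at hne
  rw [← hWl, hW] at hz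
  obtain ⟨u, hu, rfl⟩ := hz
  exact hne (by rw [act_polar]; exact S.orth hk hx hu)

include S in
/-- some image of a plane has a vector without component in some plane, or all images have full components -/
theorem exists_deficient_or_full {g : Iso} (hg : ¬ Perms D g) :
    (∃ k i, (∀ l, ∃ x ∈ D k, act g x ∉ D l) ∧ ∃ x ∈ D k, x ≠ 0 ∧ S.pr i (act g x) = 0) ∨
      ∀ k i, ∀ x ∈ D k, S.pr i (act g x) = 0 → x = 0 := by
  by_cases hd : ∃ k i, (∀ l, ∃ x ∈ D k, act g x ∉ D l) ∧ ∃ x ∈ D k, x ≠ 0 ∧ S.pr i (act g x) = 0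
  · exact Or.inl hd
  push Not at hd
  obtain ⟨k₀, hk₀⟩ : ∃ k, ∀ l, ∃ x ∈ D k, act g x ∉ D l := by
    by_contra hc
    push Not at hc
    exact hg (perms_of_blocks (S := S) hc)
  have hinj : Function.Injective (act g) := fun u v h => by
    rw [← Spinor.act_inv_cancel g u, h, Spinor.act_inv_cancel]
  refine Or.inr fun k i x hx h0 => ?_
  by_contra hx0
  by_cases hk : ∀ l, ∃ y ∈ D k, act g y ∉ D l
  · exact hx0 (by_contra fun hne => hd k i hk x hx hne h0)
  push Not at hk
  obtain ⟨l, hl⟩ := hk
  have hkk : k₀ ≠ k := fun e => by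
    subst e
    obtain ⟨y, hy, hy'⟩ := hk₀ l
    exact hy' (hl y hy)
  have hWl : (D k).map (act g) = D l := Submodule.eq_of_le_of_finrank_eq
    (by rintro _ ⟨y, hy, rfl⟩; exact hl y hy)
    (by rw [(Submodule.equivMapOfInjective (act g) hinj (D k)).finrank_eq.symm, (S.plane k).rank,
      (S.plane l).rank])
  obtain ⟨y, hy, hy0⟩ := Submodule.exists_mem_ne_zero_of_ne_bot (p := D k₀) fun e => by
    have := (S.plane k₀).rank
    rw [e, finrank_bot] at this
    omega
  exact hd k₀ l hk₀ y hy hy0 (pr_eq_zero_of_image (S := S) rfl hWl hkk hy)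

/-- first case: an image of a plane with a vector without component in some plane -/
theorem fixer_deficient {g : Iso} (hg : g ∈ S.M) {k i : Fin t} (hk : ∀ l, ∃ x ∈ D k, act g x ∉ D l)
    {x : Vec} (hx : x ∈ D k) (hx0 : x ≠ 0) (hxi : S.pr i (act g x) = 0) :
    ∃ f ∈ S.M, ¬ Perms D f ∧ ∃ j, ∃ u ∈ D j, u ≠ 0 ∧ act f u = u := by
  have hinj : Function.Injective (act g) := fun u v h => by
    rw [← Spinor.act_inv_cancel g u, h, Spinor.act_inv_cancel]
  obtain ⟨d, hd⟩ : ∃ d : F, d ≠ 0 := ⟨1, one_ne_zero⟩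
  obtain ⟨a, b, ha, hb, hQa, hQb, hba, hab⟩ := exists_rot (S := S) k hd
  have hA : Q a ≠ 0 := hQa ▸ hd
  have hQba : Q b = Q a := hQb.trans hQa.symm
  set W := (D k).map (act g) with hWdef
  have hW : Module.finrank F W = 2 := by
    rw [hWdef, (Submodule.equivMapOfInjective (act g) hinj (D k)).finrank_eq.symm, (S.plane k).rank]
  set f := g * (reflect Q a * reflect Q b) * g⁻¹ with hf
  have hfM : f ∈ S.M := mul_mem (mul_mem hg (rot_mem ha hb hA hQba)) (inv_mem hg)
  have hfe : f = reflect Q (act g a) * reflect Q (act g b) := pair_conj g a b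
  have hWr : ∀ z, act f z - z ∈ W := fun z => by
    rw [hfe]; exact pair_range (Submodule.mem_map_of_mem ha) (Submodule.mem_map_of_mem hb) z
  have hfg : ∀ z, act f (act g z) = act g (act (reflect Q a * reflect Q b) z) := fun z => by
    rw [← act_mul, ← act_mul, hf, inv_mul_cancel_right]
  refine ⟨f, hfM, ?_, i, ?_⟩
  swap
  · -- a fixed vector
    obtain ⟨y, hy, hyx⟩ : ∃ y ∈ D k, y ∉ Submodule.span F {x} := by
      by_contra hc
      push Not at hc
      have := Submodule.finrank_mono (show D k ≤ Submodule.span F {x} from hc)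
      rw [(S.plane k).rank, finrank_span_singleton hx0] at this
      omega
    obtain ⟨p, hp, hp0, hpy⟩ := OrthPair.exists_ne_zero_ker ![polB Q (S.pr i (act g y))] (V := D i)
      (by rw [(S.plane i).rank]; omega)
    have hpy' : B (S.pr i (act g y)) p = 0 := hpy 0
    have hpW : ∀ z ∈ D k, B (act g z) p = 0 := fun z hz => by
      obtain ⟨α, β, rfl⟩ := (S.plane k).exists_comb hx hy hx0 hyx hz
      rw [← S.pr_pair i _ hp, map_add, map_smul, map_smul, map_add, map_smul, map_smul, hxi, smul_zero, zero_add,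
        QuadraticMap.polar_smul_left, hpy', smul_zero]
    refine ⟨p, hp, hp0, ?_⟩
    rw [hfe, act_mul, act_reflect (act g b), hpW b hb, mul_zero, zero_smul, sub_zero, act_reflect, hpW a ha,
      mul_zero, zero_smul, sub_zero]
  -- not in the stabiliser
  rintro ⟨σ, hσ⟩
  have hsqa : act f (act f (act g a)) ≠ act g a := fun h => by
    rw [hfg, hfg] at h
    exact rot_sq hA hQba hba hab (hinj h)
  by_cases hmv : ∃ l, σ l ≠ l
  · obtain ⟨l, hl⟩ := hmv
    exact hsqa ((moved_pair (S := S) hσ hW hWr hl).2 _ (Submodule.mem_map_of_mem ha))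
  push Not at hmv
  have hfix : ∀ l, ∀ z ∈ D l, act f z ∈ D l := fun l z hz => by
    have := hσ l z hz; rwa [hmv] at this
  have hcl : ∀ l, ∀ y ∈ W, S.pr l y ∈ W := fun l y hy => by
    let φ : D k →ₗ[F] W := LinearMap.codRestrict W
      (((act f - LinearMap.id).comp (act g)).comp (D k).subtype) fun z => hWr _
    have hφ : Function.Injective φ := by
      rw [injective_iff_map_eq_zero]
      intro z hz
      have h1 : act f (act g (z : Vec)) - act g (z : Vec) = 0 := congrArg Subtype.val hz
      rw [sub_eq_zero, hfg] at h1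
      exact Subtype.ext (rot_fixed (S := S) ha hb hA (by rw [hQba]; exact hA) hba z.2 (hinj h1))
    obtain ⟨u, hu⟩ := (LinearMap.injective_iff_surjective_of_finrank_eq_finrank
      (by rw [hW, (S.plane k).rank])).1 hφ ⟨y, hy⟩
    have hu' : act f (act g (u : Vec)) - act g (u : Vec) = y := congrArg Subtype.val hu
    have : S.pr l y = act f (S.pr l (act g (u : Vec))) - S.pr l (act g (u : Vec)) := by
      rw [← hu', map_sub]
      congr 1
      conv_lhs => rw [← S.sum_pr (act g (u : Vec)), map_sum, map_sum]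
      rw [Finset.sum_eq_single l (fun m _ hm => S.pr_other (Ne.symm hm) (hfix m _ (S.pr_mem m _)))
        (fun hh => absurd (Finset.mem_univ l) hh), S.pr_self (hfix l _ (S.pr_mem l _))]
    rw [this]
    exact hWr _
  -- no element of the commutator space has two components
  have hone : ∀ y ∈ W, ∀ l m, l ≠ m → S.pr l y = 0 ∨ S.pr m y = 0 := by
    intro y hy l m hlm
    by_contra hc
    push Not at hc
    obtain ⟨hl0, hm0⟩ := hc
    set p := S.pr l y with hp
    set q := S.pr m y with hq
    have hqp : q ∉ Submodule.span F {p} := fun hm' => by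
      obtain ⟨r, hr⟩ := Submodule.mem_span_singleton.1 hm'
      refine hm0 ?_
      rw [hq, ← S.pr_self (S.pr_mem m y), ← hq, ← hr, map_smul, hp, S.pr_other (Ne.symm hlm) (S.pr_mem l y),
        smul_zero]
    have hWp : ∀ {c : Fin t} (z : Vec), z ∈ W → z ∈ D c → z ≠ 0 → c = l ∨ c = m := by
      intro c z hz hzc hz0
      by_contra hcc
      push Not at hcc
      obtain ⟨α, β, e⟩ := comb_of_rank hW (hcl l y hy) (hcl m y hy) hl0 hqp hz
      refine hz0 ?_
      rw [← S.pr_self hzc, e, map_add, map_smul, map_smul, S.pr_other hcc.1 (S.pr_mem l y),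
        S.pr_other hcc.2 (S.pr_mem m y), smul_zero, smul_zero, add_zero]
    have horth : B p q = 0 := S.orth hlm (S.pr_mem l y) (S.pr_mem m y)
    have hsc : ∀ {c c' : Fin t} {z z' : Vec}, c ≠ c' → z ∈ W → z' ∈ W → z ∈ D c → z' ∈ D c' → z ≠ 0 →
        z' ∉ Submodule.span F {z} → z' ≠ 0 → B z z' = 0 → act f (act f z) = z := by
      intro c c' z z' hcc hz hz' hzc hzc' hz0 hzz hz'0 hzz'
      have hfzW : act f z ∈ W := by
        have := W.add_mem (hWr z) hz
        rwa [sub_add_cancel] at this
      obtain ⟨α, β, e⟩ := comb_of_rank hW hz hz' hz0 hzz hfzW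
      have e' := congrArg (S.pr c') e
      rw [S.pr_other (Ne.symm hcc) (hfix c z hzc), map_add, map_smul, map_smul, S.pr_other (Ne.symm hcc) hzc,
        S.pr_self hzc', smul_zero, zero_add, eq_comm, smul_eq_zero, or_iff_left hz'0] at e'
      rw [e', zero_smul, add_zero] at e
      have hQz : Q z ≠ 0 := by
        intro h0
        obtain ⟨w, hw, hne⟩ : ∃ w ∈ W, B z w ≠ 0 := by
          obtain ⟨z0, hz0', rfl⟩ := hz
          obtain ⟨w0, hw0, hne⟩ := (S.plane k).nd z0 hz0' (fun e0 => hz0 (by rw [e0, map_zero]))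
          exact ⟨act g w0, Submodule.mem_map_of_mem hw0, by rwa [act_polar]⟩
        obtain ⟨α', β', rfl⟩ := comb_of_rank hW hz hz' hz0 hzz hw
        exact hne (by rw [B_comb, polar_self_zero h0, hzz', mul_zero, mul_zero, add_zero])
      have hα : α * α = 1 := mul_right_cancel₀ hQz (by
        rw [one_mul, ← Classical.Orth.map_smul', ← e, act_map])
      rw [e, map_smul, e, smul_smul, hα, one_smul]
    apply hsqa
    obtain ⟨α, β, e⟩ := comb_of_rank hW (hcl l y hy) (hcl m y hy) hl0 hqp
      (show act g a ∈ W from Submodule.mem_map_of_mem ha)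
    have hpq' : p ∉ Submodule.span F {q} := fun hm' => by
      obtain ⟨r, hr⟩ := Submodule.mem_span_singleton.1 hm'
      refine hl0 ?_
      rw [hp, ← S.pr_self (S.pr_mem l y), ← hp, ← hr, map_smul, hq, S.pr_other hlm (S.pr_mem m y), smul_zero]
    rw [e, map_add, map_add, map_smul, map_smul, map_smul, map_smul,
      hsc hlm (hcl l y hy) (hcl m y hy) (S.pr_mem l y) (S.pr_mem m y) hl0 hqp hm0 horth,
      hsc hlm.symm (hcl m y hy) (hcl l y hy) (S.pr_mem m y) (S.pr_mem l y) hm0 hpq' hl0
        (by rw [QuadraticMap.polar_comm]; exact horth)]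
  have ha0 : a ≠ 0 := fun e => hA (by rw [e, QuadraticMap.map_zero])
  have hin : ∀ y ∈ W, ∀ l, S.pr l y ≠ 0 → y ∈ D l := fun y hy l hl => S.mem_of_pr fun m hm =>
    (hone y hy m l hm).resolve_right hl
  obtain ⟨l, hl⟩ : ∃ l, S.pr l (act g a) ≠ 0 := by
    by_contra hc
    push Not at hc
    exact ha0 (hinj ((S.ext_pr fun l => (hc l).trans (map_zero _).symm).trans (map_zero _).symm))
  obtain ⟨z, hz, hzl⟩ := hk l
  refine hzl ?_
  have hal := hin _ (Submodule.mem_map_of_mem ha) l hl
  rcases eq_or_ne (S.pr l (act g z)) 0 with h0 | h0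
  · have hsum : act g a + act g z ∈ D l := by
      refine hin _ (W.add_mem (Submodule.mem_map_of_mem ha) (Submodule.mem_map_of_mem hz)) l ?_
      rwa [map_add, h0, add_zero]
    have := Submodule.sub_mem _ hsum hal
    rwa [add_sub_cancel_left] at this
  · exact hin _ (Submodule.mem_map_of_mem hz) l h0

include S in
/-- three planes and a vector of a fourth with non-singular preimages -/
theorem exists_avoid (i : Fin t) (φ : Fin 3 → Vec →ₗ[F] Vec) (k : Fin 3 → Fin t)
    (hφ : ∀ r, ∀ u ∈ D (k r), φ r u ∈ D i) :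
    ∃ a ∈ D i, a ≠ 0 ∧ ∀ r, ∀ u ∈ D (k r), φ r u = a → Q u ≠ 0 := by
  classical
  obtain ⟨a₀, ha₀, hQa₀⟩ := (S.plane i).exists_value (one_ne_zero (α := F))
  have ha00 : a₀ ≠ 0 := fun e => one_ne_zero (α := F) (by rw [← hQa₀, e, QuadraticMap.map_zero])
  obtain ⟨w, hw, -, hwa, -⟩ := (S.plane i).exists_off_lines (S.big' i) S.three (one_ne_zero (α := F)) a₀ a₀
  have hne : ∀ s : F, a₀ + s • w ≠ 0 := fun s e => by
    rcases eq_or_ne s 0 with rfl | hs
    · exact ha00 (by simpa using e)
    · exact hwa ((Submodule.smul_mem_iff _ hs).1 (by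
        rw [eq_neg_of_add_eq_zero_right e]
        exact Submodule.neg_mem _ (Submodule.mem_span_singleton_self a₀)))
  rcases S.big with han | h7
  · exact ⟨a₀, ha₀, ha00, fun r u hu e h0 => ha00 (by rw [← e, han (k r) u hu h0, map_zero])⟩
  set bad : Fin 3 → Finset F := fun r => Finset.univ.filter fun s =>
    ∃ u ∈ D (k r), φ r u = a₀ + s • w ∧ Q u = 0 with hbad
  have hline : ∀ (c : Vec), (Finset.univ.filter fun s : F => ∃ r : F, a₀ + s • w = r • c).card ≤ 1 := by
    intro c
    refine Finset.card_le_one.2 fun s hs s' hs' => ?_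
    simp only [Finset.mem_filter, Finset.mem_univ, true_and] at hs hs'
    obtain ⟨r, hr⟩ := hs
    obtain ⟨r', hr'⟩ := hs'
    have hr0 : r ≠ 0 := fun e => hne s (by rw [hr, e, zero_smul])
    have h1 : a₀ + s' • w = (r' / r) • (a₀ + s • w) := by
      rw [hr, hr', smul_smul, div_mul_cancel₀ r' hr0]
    rcases eq_or_ne (r' / r) 1 with h | h
    · rw [h, one_smul, add_right_inj] at h1
      by_contra hss
      have hw0 : w ≠ 0 := fun e => hwa (by rw [e]; exact Submodule.zero_mem _)
      exact hss (smul_left_injective F hw0 h1.symm)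
    · exfalso
      have h2 : (1 - r' / r) • a₀ = (r' / r * s - s') • w := by
        rw [sub_smul, sub_smul, one_smul, mul_smul, sub_eq_sub_iff_add_eq_add, h1, smul_add, add_comm]
      rcases eq_or_ne (r' / r * s - s') 0 with h3 | h3
      · rw [h3, zero_smul, smul_eq_zero] at h2
        exact h2.elim (fun e => h (sub_eq_zero.1 e).symm) ha00
      · exact hwa ((Submodule.smul_mem_iff _ h3).1 (by
          rw [← h2]; exact Submodule.smul_mem _ _ (Submodule.mem_span_singleton_self a₀)))
  have hcard : ∀ r, (bad r).card ≤ 2 := by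
    intro r
    by_cases hs : ∃ e ∈ D (k r), e ≠ 0 ∧ Q e = 0
    · obtain ⟨e, he, he0, hQe⟩ := hs
      obtain ⟨f, hf, hp⟩ := (S.plane (k r)).pair_of_sing he he0 hQe
      refine (Finset.card_le_card (t := (Finset.univ.filter fun s : F => ∃ c : F, a₀ + s • w = c • φ r e) ∪
        (Finset.univ.filter fun s : F => ∃ c : F, a₀ + s • w = c • φ r f)) fun s hs => ?_).trans
        ((Finset.card_union_le _ _).trans (Nat.add_le_add (hline _) (hline _)))
      simp only [hbad, Finset.mem_filter, Finset.mem_univ, true_and] at hs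
      obtain ⟨u, hu, hu1, hu0⟩ := hs
      simp only [Finset.mem_union, Finset.mem_filter, Finset.mem_univ, true_and]
      rcases (S.plane (k r)).singular_unique he hf hp hu hu0 with ⟨c, rfl⟩ | ⟨c, rfl⟩
      · exact Or.inl ⟨c, by rw [← hu1, map_smul]⟩
      · exact Or.inr ⟨c, by rw [← hu1, map_smul]⟩
    · push Not at hs
      have h0 : bad r = ∅ := by
        refine Finset.filter_eq_empty_iff.2 fun s _ ⟨u, hu, hu1, hu0⟩ => ?_
        rcases eq_or_ne u 0 with rfl | hne0
        · exact hne s (by rw [← hu1, map_zero])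
        · exact hs u hu hne0 hu0
      rw [h0, Finset.card_empty]
      exact Nat.zero_le 2
  obtain ⟨s, hs⟩ : ∃ s, s ∉ Finset.univ.biUnion bad := by
    by_contra hc
    push Not at hc
    have h1 := Finset.card_le_card (show (Finset.univ : Finset F) ⊆ Finset.univ.biUnion bad from fun s _ => hc s)
    have h2 := Finset.card_biUnion_le (s := (Finset.univ : Finset (Fin 3))) (t := bad)
    have h3 : ∑ r, (bad r).card ≤ ∑ _r : Fin 3, 2 := Finset.sum_le_sum fun r _ => hcard r
    simp only [Finset.sum_const, Finset.card_univ, Fintype.card_fin, smul_eq_mul] at h3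
    rw [Finset.card_univ] at h1
    omega
  refine ⟨a₀ + s • w, Submodule.add_mem _ ha₀ (Submodule.smul_mem _ _ hw), hne s, fun r u hu e h0 => hs ?_⟩
  rw [Finset.mem_biUnion]
  exact ⟨r, Finset.mem_univ _, by simp only [hbad, Finset.mem_filter, Finset.mem_univ, true_and]; exact ⟨u, hu, e, h0⟩⟩

/-- second case: all images have all components -/
theorem fixer_full {g : Iso} (hg : g ∈ S.M) (hfull : ∀ k i, ∀ x ∈ D k, S.pr i (act g x) = 0 → x = 0) :
    ∃ f ∈ S.M, ¬ Perms D f ∧ ∃ j, ∃ u ∈ D j, u ≠ 0 ∧ act f u = u := by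
  have := S.five
  let k : Fin 3 → Fin t := fun r => ⟨r.val, by omega⟩
  have hk : Function.Injective k := fun r r' h => Fin.ext (by simpa [k] using h)
  let i : Fin t := ⟨0, by omega⟩
  let φ : Fin 3 → Vec →ₗ[F] Vec := fun _ => (S.pr i).comp (act g)
  obtain ⟨a, ha, ha0, hns⟩ := exists_avoid (S := S) i φ k fun r u _ => S.pr_mem i _
  have hsurj : ∀ r, ∃ u ∈ D (k r), S.pr i (act g u) = a := by
    intro r
    let ψ : D (k r) →ₗ[F] D i := LinearMap.codRestrict (D i) (((S.pr i).comp (act g)).comp (D (k r)).subtype)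
      fun u => S.pr_mem i _
    have hψ : Function.Injective ψ := by
      rw [injective_iff_map_eq_zero]
      intro u hu
      exact Subtype.ext (hfull _ i u u.2 (congrArg Subtype.val hu))
    obtain ⟨u, hu⟩ := (LinearMap.injective_iff_surjective_of_finrank_eq_finrank
      (by rw [(S.plane (k r)).rank, (S.plane i).rank])).1 hψ ⟨a, ha⟩
    exact ⟨u, u.2, congrArg Subtype.val hu⟩
  choose u hu hua using hsurj
  have hQu : ∀ r, Q (u r) ≠ 0 := fun r => hns r _ (hu r) (hua r)
  obtain ⟨r, r', hrr, hsq⟩ : ∃ r r', r ≠ r' ∧ Sq (Q (u r)) (Q (u r')) := by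
    by_cases h1 : Sq (Q (u 0)) (Q (u 1))
    · exact ⟨0, 1, by decide, h1⟩
    by_cases h2 : Sq (Q (u 1)) (Q (u 2))
    · exact ⟨1, 2, by decide, h2⟩
    exact ⟨0, 2, by decide, sq_of_not (hQu 1) h1 h2⟩
  have hkk : k r ≠ k r' := fun e => hrr (hk e)
  set x := u r
  set y := u r'
  have hx : x ∈ D (k r) := hu r
  have hy : y ∈ D (k r') := hu r'
  have hxy : B x y = 0 := S.orth hkk hx hy
  have hxi : S.pr i (act g x) = a := hua r
  have hyi : S.pr i (act g y) = a := hua r'
  have hp := perms_mul (S.perms_reflect hx) (S.perms_reflect hy)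
  set f := g * (reflect Q x * reflect Q y) * g⁻¹ with hf
  have hfM : f ∈ S.M := mul_mem (mul_mem hg (S.mem _ (S.pair_omega (hQu r) (hQu r') hsq) hp)) (inv_mem hg)
  have hfe : f = reflect Q (act g x) * reflect Q (act g y) := pair_conj g x y
  have hx0 : x ≠ 0 := fun e => hQu r (by rw [show u r = 0 from e, QuadraticMap.map_zero])
  have hgyx : act g y ∉ Submodule.span F {act g x} := fun hm => by
    obtain ⟨c, hc⟩ := Submodule.mem_span_singleton.1 hm
    have e := congrArg (fun z => S.pr (k r') (act g⁻¹ z)) hc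
    simp only [map_smul, Spinor.act_inv_cancel, S.pr_other hkk.symm hx, smul_zero, S.pr_self hy] at e
    exact hQu r' (by rw [show u r' = 0 from e.symm, QuadraticMap.map_zero])
  set W := Submodule.span F ({act g x, act g y} : Set Vec) with hWdef
  have hW : Module.finrank F W = 2 := by
    have hli : LinearIndependent F ![act g x, act g y] := LinearIndependent.pair_iff.2 fun s t' hst => by
      rcases eq_or_ne t' 0 with rfl | ht
      · rw [zero_smul, add_zero, smul_eq_zero] at hst
        exact ⟨hst.resolve_right fun e => hx0 (by rw [← Spinor.act_inv_cancel g x, e, map_zero]), rfl⟩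
      · refine absurd (Submodule.mem_span_singleton.2 ⟨-(t'⁻¹ * s), ?_⟩) hgyx
        rw [neg_smul, mul_smul, eq_neg_of_add_eq_zero_left hst, smul_neg, neg_neg, smul_smul,
          inv_mul_cancel₀ ht, one_smul]
    have h := finrank_span_eq_card hli
    rw [Matrix.range_cons_cons_empty] at h
    exact h
  have hxW : act g x ∈ W := Submodule.subset_span (by simp)
  have hyW : act g y ∈ W := Submodule.subset_span (by simp)
  refine ⟨f, hfM, ?_, i, ?_⟩
  · refine not_perms_of_three (S := S) hW (fun z => hfe ▸ pair_range hxW hyW z) hxW ?_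
      (fun l h => hx0 (hfull _ l x hx h))
    obtain ⟨w, hw, hxw⟩ := (S.plane (k r)).exists_meet hx hx0
    refine ⟨-(Q x) • act g w, ?_⟩
    rw [hfe, act_mul, act_reflect (act g y), QuadraticMap.polar_smul_right, act_polar, S.orth hkk.symm hy hw,
      smul_zero, mul_zero, zero_smul, sub_zero, act_reflect, QuadraticMap.polar_smul_right, act_polar, hxw,
      act_map, smul_eq_mul, mul_one, mul_neg, inv_mul_cancel₀ (hQu r), neg_smul, neg_smul, one_smul]
    abel
  · obtain ⟨p, hp', hp0, hap⟩ := (S.plane i).exists_orth ha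
    refine ⟨p, hp', hp0, ?_⟩
    have h1 : B (act g x) p = 0 := by rw [← S.pr_pair i _ hp', hxi, hap]
    have h2 : B (act g y) p = 0 := by rw [← S.pr_pair i _ hp', hyi, hap]
    rw [hfe, act_mul, act_reflect (act g y), h2, mul_zero, zero_smul, sub_zero, act_reflect, h1, mul_zero,
      zero_smul, sub_zero]

/-- a member outside the planes from an element fixing a non-singular vector of a plane -/
theorem member_of_fixed {f : Iso} (hf : f ∈ S.M) (hfp : ¬ Perms D f) {j : Fin t} {u : Vec} (hu : u ∈ D j)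
    (hU : Q u ≠ 0) (hfu : act f u = u) : ∃ x, S.R x ∧ S.Nontriv x := by
  obtain ⟨i, v, hv, hQv, hn⟩ := exists_nontriv (S := S) hfp hU
  refine ⟨_, R.of_pair (triv hu hU) (by rw [act_map, hQv]) ?_, hn⟩
  have := mul_mem (mul_mem hf ((triv hv (by rw [hQv]; exact hU)).pair (triv hu hU) hQv.symm)) (inv_mem hf)
  rwa [pair_conj, hfu] at this

/-- a member outside the planes -/
theorem exists_member {g : Iso} (hg : g ∈ S.M) (hgp : ¬ Perms D g) : ∃ x, S.R x ∧ S.Nontriv x := by
  obtain ⟨f, hf, hfp, j, u, hu, hu0, hfu⟩ : ∃ f ∈ S.M, ¬ Perms D f ∧ ∃ j, ∃ u ∈ D j, u ≠ 0 ∧ act f u = u := by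
    rcases exists_deficient_or_full (S := S) hgp with ⟨k, i, hk, x, hx, hx0, hxi⟩ | hfull
    · exact fixer_deficient hg hk hx hx0 hxi
    · exact fixer_full hg hfull
  by_cases hU : Q u = 0
  swap
  · exact member_of_fixed hf hfp hu hU hfu
  have h7 : 7 ≤ Fintype.card F := (S.big' j).resolve_left fun han => hu0 (han u hu hU)
  obtain ⟨v, hv, hp⟩ := (S.plane j).pair_of_sing hu hu0 hU
  have hinj : Function.Injective (act f) := fun a b h => by
    rw [← Spinor.act_inv_cancel f a, h, Spinor.act_inv_cancel]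
  set y := act f v with hy
  have hyv : S.pr j y = v + B v y • u := by
    have hvu : v ∉ Submodule.span F {u} := fun hm => by
      obtain ⟨s, rfl⟩ := Submodule.mem_span_singleton.1 hm
      have := hp.huv
      rw [QuadraticMap.polar_smul_right, polar_self_zero hU, smul_zero] at this
      exact zero_ne_one this
    obtain ⟨α, β, e⟩ := (S.plane j).exists_comb hu hv hu0 hvu (S.pr_mem j y)
    have e1 := congrArg (fun z => B u z) e
    have e2 := congrArg (fun z => B v z) e
    simp only [B_comb, polar_self_zero hU, polar_self_zero hp.hv, hp.huv, hp.hvu, mul_zero, mul_one,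
      zero_add, add_zero, S.pair_pr j y hu, S.pair_pr j y hv] at e1 e2
    have h1 : B u y = 1 := by
      conv_lhs => rw [← hfu]
      rw [hy, act_polar, hp.huv]
    rw [e, ← e1, h1, ← e2, one_smul, add_comm]
  set w := y - S.pr j y with hw
  have hwj : ∀ z ∈ D j, B z w = 0 := fun z hz => by
    rw [hw, QuadraticMap.polar_sub_right, S.pair_pr j y hz, sub_self]
  have huw : B u w = 0 := hwj u hu
  by_cases hw0 : w = 0
  · -- the element fixes the whole pair
    have hQy : Q y = 0 := by rw [hy, act_map, hp.hv]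
    rw [hw, sub_eq_zero] at hw0
    rw [← hw0] at hyv
    rw [hyv, Classical.Orth.map_add', Classical.Orth.map_smul', hp.hv, hU, QuadraticMap.polar_smul_right, hp.hvu,
      mul_zero, zero_add, zero_add, smul_eq_mul, mul_one] at hQy
    rw [hyv, hQy, zero_smul, add_zero] at hy
    refine member_of_fixed hf hfp (u := u + v) ((D j).add_mem hu hv) ?_ (by rw [map_add, hfu, ← hy])
    rw [Classical.Orth.map_add', hU, hp.hv, hp.huv, zero_add, zero_add]
    exact one_ne_zero
  -- a scalar different from the inverse of its square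
  classical
  obtain ⟨c, hc⟩ : ∃ c, c ∉ ({0, 1, -1} : Finset F) := by
    by_contra hc
    push Not at hc
    have h1 := Finset.card_le_card (show (Finset.univ : Finset F) ⊆ {0, 1, -1} from fun s _ => hc s)
    have h2 := Finset.card_le_three (a := (0 : F)) (b := 1) (c := -1)
    rw [Finset.card_univ] at h1
    omega
  simp only [Finset.mem_insert, Finset.mem_singleton, not_or] at hc
  obtain ⟨hc0, hc1, hc2⟩ := hc
  set a := u + v with ha
  set b := c • u + c⁻¹ • v with hb
  have haD : a ∈ D j := (D j).add_mem hu hv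
  have hbD : b ∈ D j := (D j).add_mem ((D j).smul_mem _ hu) ((D j).smul_mem _ hv)
  have hQa : Q a = 1 := by rw [ha, Classical.Orth.map_add', hU, hp.hv, hp.huv]; ring
  have hQb : Q b = 1 := by
    rw [hb, Q_comb, hU, hp.hv, hp.huv]; field_simp; ring
  set tt := reflect Q a * reflect Q b with htt
  have httM : tt ∈ S.M := rot_mem haD hbD (by rw [hQa]; exact one_ne_zero) (hQb.trans hQa.symm)
  have htu : act tt u = (c * c)⁻¹ • u := by
    rw [htt, act_mul, act_reflect b u, hQb, hb, QuadraticMap.polar_add_left, QuadraticMap.polar_smul_left,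
      QuadraticMap.polar_smul_left, polar_self_zero hU, hp.hvu, map_sub, map_smul, map_add, map_smul, map_smul,
      act_reflect, act_reflect, hQa, ha, QuadraticMap.polar_add_left, QuadraticMap.polar_add_left,
      polar_self_zero hU, polar_self_zero hp.hv, hp.huv, hp.hvu]
    simp only [smul_eq_mul]
    match_scalars <;> field_simp <;> ring
  have httfix : ∀ z, (∀ p ∈ D j, B p z = 0) → act tt z = z := fun z hz => by
    rw [htt, act_mul, act_reflect b, hz b hbD, mul_zero, zero_smul, sub_zero, act_reflect, hz a haD, mul_zero,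
      zero_smul, sub_zero]
  set E := eich u w hU huw with hE
  have hEv : act E v = y := by
    rw [hE, act_eich, hp.hvu, hwj v hv]
    have hQy : Q y = 0 := by rw [hy, act_map, hp.hv]
    have hQy' : Q y = B v y + Q w := by
      conv_lhs => rw [show y = S.pr j y + w by rw [hw]; abel]
      rw [Classical.Orth.map_add', hwj _ (S.pr_mem j y), hyv, Classical.Orth.map_add', Classical.Orth.map_smul',
        QuadraticMap.polar_smul_right, hp.hv, hU, hp.hvu, smul_eq_mul]
      ring
    have : Q w = -(B v y) := by linear_combination hQy - hQy'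
    rw [this, hw, hyv]
    module
  have hcomm : (E⁻¹ * f) * tt = tt * (E⁻¹ * f) := by
    have hk0u : act (E⁻¹ * f) u = u := by
      rw [act_mul, hfu]
      conv_lhs => rw [← act_eich_self hU huw]
      rw [Spinor.act_inv_cancel]
    have hk0v : act (E⁻¹ * f) v = v := by rw [act_mul, ← hy, ← hEv, Spinor.act_inv_cancel]
    have hvu : v ∉ Submodule.span F {u} := fun hm => by
      obtain ⟨s, rfl⟩ := Submodule.mem_span_singleton.1 hm
      have := hp.huv
      rw [QuadraticMap.polar_smul_right, polar_self_zero hU, smul_zero] at this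
      exact zero_ne_one this
    have hk0 : ∀ z ∈ D j, act (E⁻¹ * f) z = z := fun z hz => by
      obtain ⟨α, β, rfl⟩ := (S.plane j).exists_comb hu hv hu0 hvu hz
      rw [map_add, map_smul, map_smul, hk0u, hk0v]
    refine act_ext fun z => ?_
    set r := z - S.pr j z with hr
    have hrj : ∀ p ∈ D j, B p r = 0 := fun p hp' => by
      rw [hr, QuadraticMap.polar_sub_right, S.pair_pr j z hp', sub_self]
    have hkr : ∀ p ∈ D j, B p (act (E⁻¹ * f) r) = 0 := fun p hp' => by
      rw [← hk0 p hp', act_polar]; exact hrj p hp'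
    have htD : act tt (S.pr j z) ∈ D j := by
      rw [htt, act_mul]
      exact act_reflect_mem haD (act_reflect_mem hbD (S.pr_mem j z))
    rw [show z = S.pr j z + r by rw [hr]; abel, act_mul _ tt, act_mul tt]
    simp only [map_add]
    rw [hk0 _ (S.pr_mem j z), httfix r hrj, httfix _ hkr, hk0 _ htD]
  have hconj : f * tt * f⁻¹ * tt⁻¹ = E * tt * E⁻¹ * tt⁻¹ := by
    have h1 : f = E * (E⁻¹ * f) := by group
    conv_lhs => rw [h1]
    rw [_root_.mul_inv_rev, mul_assoc E (E⁻¹ * f) tt, hcomm]
    group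
  have htw : act tt w = w := httfix w hwj
  have hmem : InE S.M u ((1 - (c * c)⁻¹) • w) := fun h1 h2 => by
    have := mul_mem (mul_mem (mul_mem hf httM) (inv_mem hf)) (inv_mem httM)
    rw [hconj, mul_assoc E, mul_assoc E, hE, eich_inv, eich_conj] at this
    have e1 : act tt u = (c * c)⁻¹ • u := htu
    have e2 : act tt (-w) = -w := by rw [map_neg, htw]
    simp only [e1, e2] at this
    rw [eich_smul _ _ _ hU (by rw [QuadraticMap.polar_smul_right, QuadraticMap.polar_neg_right, huw, neg_zero,
      smul_zero]), eich_mul] at this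
    rwa [eich_congr (show (1 - (c * c)⁻¹) • w = w + (c * c)⁻¹ • -w by module)]
  set w₁ := (1 - (c * c)⁻¹) • w with hw₁
  have hc' : (1 - (c * c)⁻¹) ≠ 0 := fun e => by
    have h1 : c * c = 1 := by rw [← inv_inv (c * c), ← sub_eq_zero.1 e, inv_one]
    rcases mul_eq_zero.1 (show (c - 1) * (c + 1) = 0 by linear_combination h1) with h | h
    · exact hc1 (sub_eq_zero.1 h)
    · exact hc2 (eq_neg_of_add_eq_zero_left h)
  obtain ⟨k, hk⟩ : ∃ k, S.pr k w₁ ≠ 0 := by
    by_contra hcc
    push Not at hcc
    exact smul_ne_zero hc' hw0 (S.ext_pr fun l => (hcc l).trans (map_zero _).symm)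
  have hkj : k ≠ j := fun e => hk (by
    subst e
    by_contra hne
    obtain ⟨s, hs, hne'⟩ := (S.plane k).nd _ (S.pr_mem k w₁) hne
    exact hne' (by rw [S.pr_pair k w₁ hs, hw₁, QuadraticMap.polar_smul_left, QuadraticMap.polar_comm, hwj s hs,
      smul_zero]))
  obtain ⟨p, q, hpD, hqD, hQp, hQq, hqp, -⟩ := exists_rot (S := S) k (one_ne_zero (α := F))
  have hPn : Q p ≠ 0 := by rw [hQp]; exact one_ne_zero
  set gg := reflect Q p * reflect Q q with hgg
  have hggu : act gg u = u := by
    rw [hgg, act_mul, act_reflect q, S.orth hkj hqD hu, mul_zero, zero_smul, sub_zero, act_reflect,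
      S.orth hkj hpD hu, mul_zero, zero_smul, sub_zero]
  have h2 := inE_map hmem (rot_mem hpD hqD hPn (hQq.trans hQp.symm))
  rw [← hgg, hggu] at h2
  have huw₁ : B u w₁ = 0 := by rw [hw₁, QuadraticMap.polar_smul_right, huw, smul_zero]
  have hugw : B u (act gg w₁) = 0 := by rw [← hggu, act_polar]; exact huw₁
  have h3 := inE_add hmem (inE_neg h2) huw₁ (by rw [QuadraticMap.polar_neg_right, hugw, neg_zero])
  have hout : ∀ l, l ≠ k → S.pr l (w₁ + -act gg w₁) = 0 := fun l hl => by
    rw [map_add, map_neg, hgg, act_mul, S.pr_reflect hpD, if_neg hl, S.pr_reflect hqD, if_neg hl,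
      add_neg_cancel]
  set w₂ := w₁ + -act gg w₁ with hw₂
  have hw₂D : w₂ ∈ D k := S.mem_of_pr hout
  have hw₂0 : w₂ ≠ 0 := fun e => hk (by
    have e1 := congrArg (S.pr k) e
    rw [hw₂, map_zero, map_add, map_neg, hgg, act_mul, S.pr_reflect hpD, if_pos rfl, S.pr_reflect hqD,
      if_pos rfl, add_neg_eq_zero, eq_comm, ← act_mul] at e1
    exact rot_fixed (S := S) hpD hqD hPn (by rw [hQq]; exact one_ne_zero) hqp (S.pr_mem k w₁) e1)
  have huw₂ : B u w₂ = 0 := by
    rw [hw₂, QuadraticMap.polar_add_right, QuadraticMap.polar_neg_right, huw₁, hugw, neg_zero, add_zero]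
  obtain ⟨l, hl⟩ := Finset.card_pos.1 (show 0 < ((Finset.univ.erase j).erase k : Finset (Fin t)).card by
    rw [Finset.card_erase_of_mem (Finset.mem_erase.2 ⟨hkj, Finset.mem_univ _⟩),
      Finset.card_erase_of_mem (Finset.mem_univ j), Finset.card_univ, Fintype.card_fin]
    have := S.five
    omega)
  simp only [Finset.mem_erase] at hl
  obtain ⟨z, hz, hQz⟩ := (S.plane l).exists_value (one_ne_zero (α := F))
  refine member_of_fixed (h3 hU huw₂) ?_ hz (by rw [hQz]; exact one_ne_zero)
    (act_eich_fix hU huw₂ (S.orth hl.2.1 hz hu) (S.orth hl.1 hz hw₂D))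
  rintro ⟨σ, hσ⟩
  have hm := hσ j v hv
  rw [act_eich, hp.hvu, S.orth (Ne.symm hkj) hv hw₂D] at hm
  simp only [one_smul, zero_smul, sub_zero, mul_one] at hm
  by_cases e : σ j = j
  · have := S.pr_other hkj (e ▸ hm)
    rw [map_sub, map_add, map_smul, S.pr_other hkj hv, S.pr_other hkj hu, S.pr_self hw₂D, zero_add, smul_zero,
      sub_zero] at this
    exact hw₂0 this
  · have := S.pr_other (Ne.symm e) hm
    rw [map_sub, map_add, map_smul, S.pr_self hv, S.pr_self hu, S.pr_other (Ne.symm hkj) hw₂D, add_zero] at this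
    have h5 := congrArg (fun z => B u z) this
    simp only [QuadraticMap.polar_sub_right, QuadraticMap.polar_smul_right, polar_self_zero hU, hp.huv,
      smul_zero, sub_zero, QuadraticMap.polar_zero_right] at h5
    exact one_ne_zero h5

end Setup

end Cfsg.Agent.Forms.Max.PlaneBlocks
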