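import Mathlib
import Cfsg.Agent.Lib.Forms.Max.PlaneBlocks.Root

/-!
# Products with changed vectors

Changing two components reaches every value of the product; with the square classes prescribed, four components
among five do.
-/

set_option autoImplicit false
set_option linter.unusedSectionVars false

namespace Cfsg.Agent.Forms.Max.PlaneBlocks

open Matrix Cfsg.Agent.Forms.QuadStd Cfsg.Agent.Forms.Reflections Cfsg.Agent.Classical.Orth

variable {F : Type*} [Field F] [Fintype F] {ι : Type} [Fintype ι] [DecidableEq ι]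
variable {Q : QuadraticForm F (ι → F)} {t : ℕ} {D : Fin t → Submodule F (ι → F)}

local notation "Vec" => (ι → F)
local notation "B" => QuadraticMap.polar Q

theorem two_sums (X Y : Finset F) (h : Fintype.card F < X.card + Y.card) (T : F) :
    ∃ x ∈ X, ∃ y ∈ Y, x + y = T := by
  classical
  by_contra hc
  push Not at hc
  have hd : Disjoint X (Y.image fun y => T - y) := Finset.disjoint_left.2 fun z hz hz' => by
    obtain ⟨y, hy, rfl⟩ := Finset.mem_image.1 hz'
    exact hc _ hz y hy (sub_add_cancel T y)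
  have h1 := Finset.card_le_univ (X ∪ Y.image fun y => T - y)
  rw [Finset.card_union_of_disjoint hd, Finset.card_image_of_injective _ (sub_right_injective)] at h1
  omega

/-- two neighbours in a cycle of five agree -/
theorem five_cycle : ∀ b : Fin 5 → Bool, ∃ r, b r = b (r + 2) := by decide

namespace Setup

variable {S : Setup Q D}

theorem chg_of {x a : Vec} {l : Fin t} (ha : a ∈ D l) (hQ : Q a = Q (S.pr l x))
    (h : a = S.pr l x ∨ Q (a - S.pr l x) ≠ 0) : ∃ κ, S.Chg x l κ a := by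
  classical
  rcases h with rfl | h
  · exact ⟨false, chg_self x l⟩
  refine ⟨if Sq (Q (a - S.pr l x)) (Q x) then false else true, Or.inr ⟨a - S.pr l x,
    Submodule.sub_mem _ ha (S.pr_mem l x), h, ?_, ?_⟩⟩
  · by_cases hs : Sq (Q (a - S.pr l x)) (Q x) <;> simp [hs]
  · have hB : B (a - S.pr l x) (S.pr l x) = -Q (a - S.pr l x) := by
      rw [QuadraticMap.polar_sub_left, polar_self', Classical.Orth.map_sub', hQ]; ring
    rw [act_reflect, hB, mul_neg, inv_mul_cancel₀ h, neg_smul, one_smul, sub_neg_eq_add, add_sub_cancel]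

theorem Chg.zero {x a : Vec} {l : Fin t} {κ : Bool} (h : S.Chg x l κ a) (h0 : S.pr l x = 0) : a = 0 := by
  rcases h with ⟨-, rfl⟩ | ⟨d, -, -, -, rfl⟩
  · exact h0
  · rw [h0, map_zero]

/-- a changed component does not vanish -/
theorem Chg.sub_ne {x a : Vec} {l : Fin t} {κ : Bool} (h : S.Chg x l κ a) (h0 : S.pr l x ≠ 0) {k : F}
    (h1 : k ≠ 1) (h1' : k ≠ -1) : a - k • S.pr l x ≠ 0 := by
  intro e
  rw [sub_eq_zero] at e
  rcases h with ⟨-, rfl⟩ | ⟨d, hd, hd0, -, rfl⟩
  · conv_lhs at e => rw [← one_smul F (S.pr l x)]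
    exact h1 (smul_left_injective F h0 e).symm
  rw [act_reflect] at e
  set c := (Q d)⁻¹ * B d (S.pr l x) with hc
  have e' : c • d = (1 - k) • S.pr l x := by rw [sub_smul, one_smul, ← e, sub_sub_cancel]
  rcases eq_or_ne c 0 with hc0 | hc0
  · rw [hc0, zero_smul, eq_comm, smul_eq_zero, sub_eq_zero] at e'
    exact e'.elim (fun h => h1 h.symm) h0
  have hk : (1 - k) ≠ 0 := sub_ne_zero.2 (Ne.symm h1)
  obtain ⟨μ, hμc, hd'⟩ : ∃ μ, μ * c = 1 - k ∧ d = μ • S.pr l x :=
    ⟨(1 - k) / c, div_mul_cancel₀ _ hc0, by rw [div_eq_inv_mul, mul_smul, ← e', inv_smul_smul₀ hc0]⟩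
  have hA : Q (S.pr l x) ≠ 0 := fun h => hd0 (by rw [hd', Classical.Orth.map_smul', h, mul_zero])
  have hμ : μ ≠ 0 := fun h => hd0 (by rw [hd', h, zero_smul, QuadraticMap.map_zero])
  have hc2 : μ * c = 2 := by
    rw [hc, hd', Classical.Orth.map_smul', QuadraticMap.polar_smul_left, polar_self', smul_eq_mul]
    field_simp
  exact h1' (by linear_combination hμc - hc2)

variable (S) in
open scoped _root_.Classical in
/-- products of a component with its changes -/
noncomputable def ach (x : ι → F) (l : Fin t) (κ : Bool) : Finset F :=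
  Finset.univ.filter fun β => ∃ a, S.Chg x l κ a ∧ QuadraticMap.polar Q (S.pr l x) a = β

theorem mem_ach {x : Vec} {l : Fin t} {κ : Bool} {β : F} :
    β ∈ S.ach x l κ ↔ ∃ a, S.Chg x l κ a ∧ B (S.pr l x) a = β := by
  classical
  simp [ach]

theorem ach_large {x : Vec} {l : Fin t} (h0 : S.pr l x ≠ 0) (hc : (2 : F) ≠ 0 ∨ Aniso Q (D l)) :
    ∀ [DecidableEq F], Fintype.card F < 2 * (S.ach x l false ∪ S.ach x l true).card := by
  intro _
  classical
  have hmem : ∀ a ∈ D l, Q a = Q (S.pr l x) → (a = S.pr l x ∨ Q (a - S.pr l x) ≠ 0) →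
      B (S.pr l x) a ∈ S.ach x l false ∪ S.ach x l true := fun a ha hQa h => by
    obtain ⟨κ, hκ⟩ := chg_of ha hQa h
    rw [Finset.mem_union]
    cases κ
    · exact Or.inl (mem_ach.2 ⟨a, hκ, rfl⟩)
    · exact Or.inr (mem_ach.2 ⟨a, hκ, rfl⟩)
  by_cases hA : Q (S.pr l x) = 0
  · obtain ⟨f, hf, hp⟩ := (S.plane l).pair_of_sing (S.pr_mem l x) h0 hA
    have hall : (S.ach x l false ∪ S.ach x l true) = Finset.univ := Finset.eq_univ_of_forall fun β => by
      rcases eq_or_ne β 0 with rfl | hβ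
      · convert hmem _ (S.pr_mem l x) rfl (Or.inl rfl) using 1
        rw [polar_self_zero hA]
      · convert hmem (β • f) ((D l).smul_mem _ hf) (by rw [Classical.Orth.map_smul', hp.hv, mul_zero, hA])
          (Or.inr ?_) using 1
        · rw [QuadraticMap.polar_smul_right, hp.huv, smul_eq_mul, mul_one]
        · rw [Classical.Orth.map_sub', Classical.Orth.map_smul', hp.hv, hA, QuadraticMap.polar_smul_left, hp.hvu,
            smul_eq_mul, mul_zero, zero_add, zero_sub, mul_one, neg_ne_zero]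
          exact hβ
    rw [hall, Finset.card_univ]
    have := Fintype.card_pos (α := F)
    omega
  have hle : betas Q (D l) (S.pr l x) ⊆ S.ach x l false ∪ S.ach x l true := fun β hβ => by
    obtain ⟨a, ha, hQa, rfl⟩ := mem_betas.1 hβ
    refine hmem a ha hQa ?_
    by_cases e : a = S.pr l x
    · exact Or.inl e
    · exact Or.inr ((S.plane l).sub_nonsing (S.pr_mem l x) ha hA hQa e)
  have h1 := Finset.card_le_card hle
  rcases eq_or_ne (2 : F) 0 with h2 | h2
  · have := ((S.plane l).betas_two h2 (S.pr_mem l x) hA).2 (hc.resolve_left fun h => h h2)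
    omega
  · have := ((S.plane l).betas_odd h2 (S.pr_mem l x) hA).1
    omega

/-- the vector moved by the reflection of a member -/
theorem move {x : Vec} (hx : S.R x) (a : Fin t → Vec) (κ : Fin t → Bool) (h : ∀ l, S.Chg x l (κ l) (a l))
    (hpar : S.Free x ∨ Even (Finset.univ.filter fun l => κ l = true).card) {k : F}
    (hk : ∑ l, B (S.pr l x) (a l) = k * Q x) :
    ∃ y, S.R y ∧ Q y = Q x ∧ (S.Free x → S.Free y) ∧ ∀ l, S.pr l y = a l - k • S.pr l x := by
  obtain ⟨x', hx', hfx', hpr⟩ := change hx a κ h hpar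
  have hQ : Q x' = Q x := by
    rw [S.Q_sum x', S.Q_sum x]
    exact Finset.sum_congr rfl fun l _ => by rw [hpr]; exact (h l).mem.2
  refine ⟨_, hx.refl hx' hQ, by rw [act_map, hQ], fun hf => hf.refl hx hx' hQ (hfx' hf), fun l => ?_⟩
  have hB : B x x' = k * Q x := by rw [S.B_sum, ← hk]; simp only [hpr]
  rw [act_reflect, map_sub, map_smul, hB, hpr, mul_comm k, ← mul_assoc, inv_mul_cancel₀ hx.1, one_mul]

/-- changes on a few components -/
theorem assemble (x : Vec) {n : ℕ} (v : Fin n → Fin t) (hv : Function.Injective v) (g : Fin n → Vec)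
    (γ : Fin n → Bool) (h : ∀ r, S.Chg x (v r) (γ r) (g r)) :
    ∃ (a : Fin t → Vec) (κ : Fin t → Bool), (∀ l, S.Chg x l (κ l) (a l)) ∧ (∀ r, a (v r) = g r) ∧
      (∀ r, κ (v r) = γ r) ∧ (∀ l, (∀ r, v r ≠ l) → a l = S.pr l x) ∧
      (Finset.univ.filter fun l => κ l = true).card = (Finset.univ.filter fun r => γ r = true).card ∧
      ∑ l, B (S.pr l x) (a l) = 2 * Q x + ∑ r, (B (S.pr (v r) x) (g r) - 2 * Q (S.pr (v r) x)) := by
  classical
  refine ⟨Function.extend v g fun l => S.pr l x, Function.extend v γ fun _ => false, fun l => ?_,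
    fun r => hv.extend_apply _ _ r, fun r => hv.extend_apply _ _ r,
    fun l hl => Function.extend_apply' _ _ _ fun ⟨r, hr⟩ => hl r hr, ?_, ?_⟩
  · by_cases hl : ∃ r, v r = l
    · obtain ⟨r, rfl⟩ := hl
      rw [hv.extend_apply, hv.extend_apply]
      exact h r
    · rw [Function.extend_apply' _ _ _ hl, Function.extend_apply' _ _ _ hl]
      exact chg_self x l
  · rw [← Finset.card_image_of_injective (Finset.univ.filter fun r => γ r = true) hv]
    congr 1
    ext l
    by_cases hl : ∃ r, v r = l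
    · obtain ⟨r, rfl⟩ := hl
      simp [hv.extend_apply, hv.eq_iff]
    · simp only [Finset.mem_filter, Finset.mem_univ, true_and, Finset.mem_image,
        Function.extend_apply' _ _ _ hl]
      exact ⟨fun h => by simp at h, fun ⟨r, _, hr⟩ => absurd ⟨r, hr⟩ hl⟩
  · have h2 : (2 : F) * Q x = ∑ l, B (S.pr l x) (S.pr l x) := by
      rw [S.Q_sum x, Finset.mul_sum]; simp only [polar_self']
    rw [h2, ← sub_eq_iff_eq_add', ← Finset.sum_sub_distrib]
    rw [← Finset.sum_subset (Finset.subset_univ (Finset.univ.image v)) fun l _ hl => ?_]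
    · rw [Finset.sum_image fun r _ r' _ e => hv e]
      exact Finset.sum_congr rfl fun r _ => by rw [hv.extend_apply, polar_self']
    · rw [Function.extend_apply' _ _ _ fun ⟨r, hr⟩ => hl (Finset.mem_image.2 ⟨r, Finset.mem_univ r, hr⟩), sub_self]

variable (S) in
/-- any product can be prescribed with one component changed in a given way -/
def Good (x : ι → F) (j : Fin t) : Prop :=
  ∀ a₀, S.Chg x j false a₀ → ∀ k : F, ∃ (a : Fin t → ι → F) (κ : Fin t → Bool),
    (∀ l, S.Chg x l (κ l) (a l)) ∧ a j = a₀ ∧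
    (S.Free x ∨ Even (Finset.univ.filter fun l => κ l = true).card) ∧
    ∑ l, QuadraticMap.polar Q (S.pr l x) (a l) = k * Q x

theorem good_free {x : Vec} (hf : S.Free x) {j l m : Fin t} (hjl : j ≠ l) (hjm : j ≠ m) (hlm : l ≠ m)
    (hl : S.pr l x ≠ 0) (hm : S.pr m x ≠ 0) (hc : (2 : F) ≠ 0 ∨ ∀ i, Aniso Q (D i)) : S.Good x j := by
  classical
  intro a₀ ha₀ k
  have h1 := ach_large (S := S) hl (hc.imp id fun h => h l)
  have h2 := ach_large (S := S) hm (hc.imp id fun h => h m)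
  obtain ⟨β, hβ, β', hβ', e⟩ := two_sums (S.ach x l false ∪ S.ach x l true) (S.ach x m false ∪ S.ach x m true)
    (by omega) (k * Q x - 2 * Q x - B (S.pr j x) a₀ + 2 * Q (S.pr j x) + 2 * Q (S.pr l x) + 2 * Q (S.pr m x))
  obtain ⟨κ₁, a₁, h₁, e₁⟩ : ∃ κ a, S.Chg x l κ a ∧ B (S.pr l x) a = β := by
    rcases Finset.mem_union.1 hβ with h | h <;> exact ⟨_, mem_ach.1 h⟩
  obtain ⟨κ₂, a₂, h₂, e₂⟩ : ∃ κ a, S.Chg x m κ a ∧ B (S.pr m x) a = β' := by
    rcases Finset.mem_union.1 hβ' with h | h <;> exact ⟨_, mem_ach.1 h⟩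
  have hv : Function.Injective ![j, l, m] := by
    intro r r' h
    fin_cases r <;> fin_cases r' <;> simp_all
  obtain ⟨a, κ, hC, hav, -, -, -, hsum⟩ := assemble x ![j, l, m] hv ![a₀, a₁, a₂] ![false, κ₁, κ₂]
    (fun r => by fin_cases r <;> assumption)
  refine ⟨a, κ, hC, hav 0, Or.inl hf, ?_⟩
  rw [hsum, Fin.sum_univ_three]
  simp only [Matrix.cons_val_zero, Matrix.cons_val_one, Matrix.cons_val_two, Matrix.tail_cons, Matrix.head_cons]
  linear_combination e₁ + e₂ + e

/-- pairs of changes with a given joint class -/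
theorem exists_pairs {x : Vec} {l m : Fin t} (hl : S.pr l x ≠ 0) (hm : S.pr m x ≠ 0) (h2 : (2 : F) ≠ 0) :
    ∃ (P : Bool) (K : Finset F), Fintype.card F < 2 * K.card ∧ ∀ T ∈ K, ∃ (κ κ' : Bool) (a a' : Vec),
      S.Chg x l κ a ∧ S.Chg x m κ' a' ∧ xor κ κ' = P ∧ B (S.pr l x) a + B (S.pr m x) a' = T := by
  classical
  let K : Bool → Finset F := fun P => Finset.univ.filter fun T => ∃ (κ κ' : Bool) (a a' : Vec),
      S.Chg x l κ a ∧ S.Chg x m κ' a' ∧ xor κ κ' = P ∧ B (S.pr l x) a + B (S.pr m x) a' = T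
  have hcov : (Finset.univ : Finset F) ⊆ K false ∪ K true := by
    intro T _
    have h1 := ach_large (S := S) hl (Or.inl h2)
    have h1' := ach_large (S := S) hm (Or.inl h2)
    obtain ⟨β, hβ, β', hβ', e⟩ := two_sums (S.ach x l false ∪ S.ach x l true) (S.ach x m false ∪ S.ach x m true)
      (by omega) T
    obtain ⟨κ₁, a₁, h₁, e₁⟩ : ∃ κ a, S.Chg x l κ a ∧ B (S.pr l x) a = β := by
      rcases Finset.mem_union.1 hβ with h | h <;> exact ⟨_, mem_ach.1 h⟩
    obtain ⟨κ₂, a₂, h₂, e₂⟩ : ∃ κ a, S.Chg x m κ a ∧ B (S.pr m x) a = β' := by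
      rcases Finset.mem_union.1 hβ' with h | h <;> exact ⟨_, mem_ach.1 h⟩
    rw [Finset.mem_union]
    rcases Bool.eq_false_or_eq_true (xor κ₁ κ₂) with hx | hx
    · exact Or.inr (Finset.mem_filter.2 ⟨Finset.mem_univ _, κ₁, κ₂, a₁, a₂, h₁, h₂, hx, by rw [e₁, e₂, e]⟩)
    · exact Or.inl (Finset.mem_filter.2 ⟨Finset.mem_univ _, κ₁, κ₂, a₁, a₂, h₁, h₂, hx, by rw [e₁, e₂, e]⟩)
  have hle := (Finset.card_le_card hcov).trans (Finset.card_union_le _ _)
  rw [Finset.card_univ] at hle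
  have hodd : Fintype.card F % 2 = 1 :=
    FiniteField.odd_card_of_char_ne_two (fun hh => h2 (by
      have : CharP F 2 := hh ▸ ringChar.charP F
      exact CharTwo.two_eq_zero))
  by_cases hb : Fintype.card F < 2 * (K false).card
  · exact ⟨false, K false, hb, fun T hT => (Finset.mem_filter.1 hT).2⟩
  · exact ⟨true, K true, by omega, fun T hT => (Finset.mem_filter.1 hT).2⟩

theorem good_full {x : Vec} (hfull : ∀ l, S.pr l x ≠ 0) (h2 : (2 : F) ≠ 0) : ∃ j, S.Good x j := by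
  classical
  have := S.five
  let v : Fin 5 → Fin t := fun r => ⟨r.val, by omega⟩
  have hv : Function.Injective v := fun r r' h => Fin.ext (by simpa [v] using h)
  choose P K hK hmem using fun r : Fin 5 => exists_pairs (S := S) (x := x) (hfull (v r)) (hfull (v (r + 1))) h2
  obtain ⟨r, hr⟩ := five_cycle P
  refine ⟨v (r + 4), fun a₀ ha₀ k => ?_⟩
  obtain ⟨T, hT, T', hT', e⟩ := two_sums (K r) (K (r + 2)) (by have := hK r; have := hK (r + 2); omega)
    (k * Q x - 2 * Q x - B (S.pr (v (r + 4)) x) a₀ + 2 * Q (S.pr (v (r + 4)) x) + 2 * Q (S.pr (v r) x)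
      + 2 * Q (S.pr (v (r + 1)) x) + 2 * Q (S.pr (v (r + 2)) x) + 2 * Q (S.pr (v (r + 2 + 1)) x))
  obtain ⟨κ₁, κ₂, a₁, a₂, h₁, h₂, hx₁, e₁⟩ := hmem r T hT
  obtain ⟨κ₃, κ₄, a₃, a₄, h₃, h₄, hx₂, e₂⟩ := hmem (r + 2) T' hT'
  let w : Fin 5 → Fin 5 := ![r + 4, r, r + 1, r + 2, r + 2 + 1]
  have hw : Function.Injective w := by
    have : ∀ r : Fin 5, Function.Injective ![r + 4, r, r + 1, r + 2, r + 2 + 1] := by decide
    exact this r
  obtain ⟨a, κ, hC, hav, -, -, hcard, hsum⟩ := assemble x (v ∘ w) (hv.comp hw) ![a₀, a₁, a₂, a₃, a₄]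
    ![false, κ₁, κ₂, κ₃, κ₄] (fun i => by fin_cases i <;> assumption)
  refine ⟨a, κ, hC, hav 0, Or.inr ?_, ?_⟩
  · rw [hcard]
    have key : ∀ b₁ b₂ b₃ b₄ : Bool, xor b₁ b₂ = xor b₃ b₄ →
        Even (Finset.univ.filter fun i : Fin 5 => ![false, b₁, b₂, b₃, b₄] i = true).card := by decide
    exact key κ₁ κ₂ κ₃ κ₄ (by rw [hx₁, hx₂, hr])
  · rw [hsum, Fin.sum_univ_five]
    show 2 * Q x + ((B (S.pr (v (r + 4)) x) a₀ - 2 * Q (S.pr (v (r + 4)) x)) + (B (S.pr (v (r)) x) a₁ - 2 * Q (S.pr (v (r)) x)) + (B (S.pr (v (r + 1)) x) a₂ - 2 * Q (S.pr (v (r + 1)) x)) + (B (S.pr (v (r + 2)) x) a₃ - 2 * Q (S.pr (v (r + 2)) x)) + (B (S.pr (v (r + 2 + 1)) x) a₄ - 2 * Q (S.pr (v (r + 2 + 1)) x))) = _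
    linear_combination e₁ + e₂ + e

end Setup

end Cfsg.Agent.Forms.Max.PlaneBlocks
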