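import Mathlib
import Cfsg.Agent.Lib.Forms.Max.PlaneBlocks.Perm
import Cfsg.Agent.Lib.Forms.Max.PlaneBlocks.Sums
import Cfsg.Agent.Lib.Forms.Max.PlaneBlocks.Quad
import Cfsg.Agent.Lib.Forms.Max.PlaneBlocks.Start

/-!
# A member with a component of full value

From a member outside the planes, one whose component in some plane has the value of the member.
-/

set_option autoImplicit false
set_option linter.unusedSectionVars false

namespace Cfsg.Agent.Forms.Max.PlaneBlocks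

open Matrix Cfsg.Agent.Forms.QuadStd Cfsg.Agent.Forms.Reflections Cfsg.Agent.Classical.Orth

variable {F : Type*} [Field F] [Fintype F] {ι : Type} [Fintype ι] [DecidableEq ι]
variable {Q : QuadraticForm F (ι → F)} {t : ℕ} {D : Fin t → Submodule F (ι → F)}

local notation "Vec" => (ι → F)
local notation "B" => QuadraticMap.polar Q
set_option quotPrecheck false in
local notation "Iso" => Cfsg.isometryGroup F ⇑Q

namespace Setup

variable {S : Setup Q D}

variable (S) in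
/-- a member outside the planes with a component of its own value -/
def HasExact (fr : Prop) : Prop :=
  ∃ (x : ι → F) (i : Fin t), S.R x ∧ x ∉ D i ∧ Q (S.pr i x) = Q x ∧ (fr → S.Free x)

theorem nontriv_of_two {x : Vec} {l m : Fin t} (h : l ≠ m) (hl : S.pr l x ≠ 0) (hm : S.pr m x ≠ 0) :
    S.Nontriv x := fun i hi => by
  rcases eq_or_ne l i with rfl | hli
  · exact hm (S.pr_other (Ne.symm h) hi)
  · exact hl (S.pr_other hli hi)

theorem two_of_nontriv {x : Vec} (hn : S.Nontriv x) {j : Fin t} : ∃ l, l ≠ j ∧ S.pr l x ≠ 0 := by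
  by_contra hc
  push Not at hc
  exact hn j (S.mem_of_pr hc)

/-- two non-singular components, or a component of full value -/
theorem two_nonsing {fr : Prop} {x : Vec} (hx : S.R x) (hn : S.Nontriv x) (hfr : fr → S.Free x) (hno : ¬ S.HasExact fr) :
    ∃ l m, l ≠ m ∧ Q (S.pr l x) ≠ 0 ∧ Q (S.pr m x) ≠ 0 := by
  obtain ⟨j, hj⟩ : ∃ j, Q (S.pr j x) ≠ 0 := by
    by_contra hc
    push Not at hc
    exact hx.1 (by rw [S.Q_sum x]; exact Finset.sum_eq_zero fun l _ => hc l)
  by_contra hc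
  push Not at hc
  refine hno ⟨x, j, hx, hn j, ?_, hfr⟩
  rw [S.Q_sum x, Finset.sum_eq_single j (fun l _ hl => hc j l (Ne.symm hl) hj)
    (fun h => absurd (Finset.mem_univ j) h)]

include S in
theorem sing_all {i : Fin t} (h : ¬ Aniso Q (D i)) (l : Fin t) : ∃ e ∈ D l, e ≠ 0 ∧ Q e = 0 := by
  simp only [Aniso, not_forall] at h
  obtain ⟨x, hx, hQx, hx0⟩ := h
  obtain ⟨e, he⟩ := S.dec.isometric i l
  exact ⟨e ⟨x, hx⟩, (e ⟨x, hx⟩).2, fun h0 => hx0 (congrArg Subtype.val
    (e.map_eq_zero_iff.1 (Subtype.ext h0) : (⟨x, hx⟩ : D i) = 0)), (he ⟨x, hx⟩).trans hQx⟩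

include S in
theorem exists_diag {l : Fin t} {a : Vec} (ha : a ∈ D l) (hA : Q a ≠ 0) (hs : ¬ Aniso Q (D l)) :
    ∃ (e f : Vec) (α δ : F), e ∈ D l ∧ f ∈ D l ∧ IsPair Q e f ∧ a = α • e + δ • f ∧ α * δ = Q a ∧
      α ≠ 0 ∧ δ ≠ 0 := by
  obtain ⟨e, he, he0, hQe⟩ := sing_all (S := S) hs l
  obtain ⟨f, hf, hp⟩ := (S.plane l).pair_of_sing he he0 hQe
  have hfe : f ∉ Submodule.span F {e} := fun hm => by
    obtain ⟨r, rfl⟩ := Submodule.mem_span_singleton.1 hm
    have := hp.huv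
    rw [QuadraticMap.polar_smul_right, polar_self_zero hQe, smul_zero] at this
    exact zero_ne_one this
  obtain ⟨α, δ, e'⟩ := (S.plane l).exists_comb he hf he0 hfe ha
  have h1 : α * δ = Q a := by rw [e', Q_comb, hQe, hp.hv, hp.huv]; ring
  exact ⟨e, f, α, δ, he, hf, hp, e', h1, left_ne_zero_of_mul (h1 ▸ hA), right_ne_zero_of_mul (h1 ▸ hA)⟩

/-- characteristic two, hyperbolic planes: a singular component -/
theorem exists_sing_comp {fr : Prop} (h2 : (2 : F) = 0) (hplus : ∀ i, ¬ Aniso Q (D i)) {x : Vec} (hx : S.R x)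
    (hn : S.Nontriv x) (hfr : fr → S.Free x) (hno : ¬ S.HasExact fr) :
    ∃ y, S.R y ∧ (fr → S.Free y) ∧ S.Nontriv y ∧ ∃ l, S.pr l y ≠ 0 ∧ Q (S.pr l y) = 0 := by
  classical
  obtain ⟨l, j, hlj, hl, hj⟩ := two_nonsing hx hn hfr hno
  have hlc : Q (S.pr l x) ≠ Q x := fun e => hno ⟨x, l, hx, hn l, e, hfr⟩
  set c := Q x with hcdef
  set A := Q (S.pr l x) with hAdef
  set Aj := Q (S.pr j x) with hAjdef
  have hcA : c + A ≠ 0 := fun e => hlc (by linear_combination A * h2 - e)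
  have hch : ringChar F = 2 := CharP.ringChar_of_prime_eq_zero Nat.prime_two (by exact_mod_cast h2)
  obtain ⟨σ, hσ⟩ := FiniteField.isSquare_of_char_two hch (A / (c + A))
  set ρ := σ * (c + A) with hρdef
  have hρA : ρ * σ = A := by rw [hρdef, mul_right_comm, ← hσ, div_mul_cancel₀ _ hcA]
  have hσ0 : σ ≠ 0 := fun e => hl (by rw [← hρA, e, mul_zero])
  have hρ0 : ρ ≠ 0 := mul_ne_zero hσ0 hcA
  have h5 : 5 ≤ Fintype.card F := by
    have := (S.big' l).resolve_left (hplus l); omega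
  obtain ⟨z, z', hz, hz'⟩ := exists_artin_schreier h2 h5 (Aj * Aj / (ρ * ρ))
  obtain ⟨s, hs⟩ := FiniteField.isSquare_of_char_two hch (z * z + z)
  have hs0 : s ≠ 0 := fun e => hz (by rw [hs, e, mul_zero])
  set τ := s⁻¹ with hτdef
  set ν := ρ * τ / Aj * z' with hνdef
  have hν : ν * ν + (ρ * τ / Aj) * ν + 1 = 0 := by
    have e : (ρ * τ / Aj) * (ρ * τ / Aj) * (z' * z' + z') = 1 := by
      rw [hz', hs, hτdef]; field_simp
    rw [hνdef]
    linear_combination e + h2
  have hν0 : ν ≠ 0 := fun e => by rw [e] at hν; simp at hν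
  have hκ : (τ * z) * (τ * z) + τ * (τ * z) + 1 = 0 := by
    have e : τ * τ * (z * z + z) = 1 := by rw [hs, hτdef]; field_simp
    linear_combination e + h2
  have hκ0 : τ * z ≠ 0 := fun e => by rw [e] at hκ; simp at hκ
  -- the multiplier
  obtain ⟨k, hk0, hk1, hk⟩ : ∃ k, k ≠ 0 ∧ k ≠ 1 ∧ k * (c + A) + A / k = ρ * τ := by
    obtain ⟨κ, hκdef⟩ : ∃ κ, κ = τ * z := ⟨_, rfl⟩
    rw [← hκdef] at hκ hκ0
    have hκτ : κ + κ⁻¹ = τ := mul_right_cancel₀ hκ0 (by
      rw [add_mul, inv_mul_cancel₀ hκ0]; linear_combination hκ - τ * κ * h2)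
    by_cases hne : σ * κ = 1
    · refine ⟨σ / κ, div_ne_zero hσ0 hκ0, fun e => ?_, ?_⟩
      · have : σ * σ = 1 := by
          rw [div_eq_one_iff_eq hκ0] at e
          conv_lhs => arg 2; rw [e]
          exact hne
        rw [← hσ, div_eq_one_iff_eq hcA, right_eq_add] at this
        exact hx.1 this
      · have e1 : σ / κ * (c + A) = ρ * κ⁻¹ := by rw [hρdef]; ring
        have e2 : A / (σ / κ) = ρ * κ := by rw [← hρA]; field_simp
        linear_combination e1 + e2 + ρ * hκτ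
    · refine ⟨σ * κ, mul_ne_zero hσ0 hκ0, hne, ?_⟩
      have e1 : σ * κ * (c + A) = ρ * κ := by rw [hρdef]; ring
      have e2 : A / (σ * κ) = ρ * κ⁻¹ := by rw [← hρA]; field_simp
      linear_combination e1 + e2 + ρ * hκτ
  obtain ⟨e₁, f₁, α, δ, he₁, hf₁, hp₁, hxl, hαδ, hα, hδ⟩ := exists_diag (S := S) (S.pr_mem l x) hl (hplus l)
  obtain ⟨e₂, f₂, α', δ', he₂, hf₂, hp₂, hxj, hαδ', hα', hδ'⟩ := exists_diag (S := S) (S.pr_mem j x) hj (hplus j)
  set al := (k * α) • e₁ + (δ / k) • f₁ with haldef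
  set aj := (ν * α') • e₂ + (δ' / ν) • f₂ with hajdef
  have hQal : Q al = A := by rw [haldef, Q_comb, hp₁.hu, hp₁.hv, hp₁.huv, hAdef, ← hαδ]; field_simp; ring
  have hQaj : Q aj = Aj := by rw [hajdef, Q_comb, hp₂.hu, hp₂.hv, hp₂.huv, hAjdef, ← hαδ']; field_simp; ring
  have hchg : ∀ {p : Fin t} {a : Vec}, a ∈ D p → Q a = Q (S.pr p x) → Q (S.pr p x) ≠ 0 →
      ∃ κ, S.Chg x p κ a := fun {p a} ha hQa hA0 => chg_of ha hQa (by
    by_cases e : a = S.pr p x
    · exact Or.inl e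
    · exact Or.inr ((S.plane p).sub_nonsing (S.pr_mem p x) ha hA0 hQa e))
  obtain ⟨κl, hκl⟩ := hchg (Submodule.add_mem _ ((D l).smul_mem _ he₁) ((D l).smul_mem _ hf₁)) hQal hl
  obtain ⟨κj, hκj⟩ := hchg (Submodule.add_mem _ ((D j).smul_mem _ he₂) ((D j).smul_mem _ hf₂)) hQaj hj
  have hv : Function.Injective ![l, j] := by
    intro r r' h
    fin_cases r <;> fin_cases r' <;> simp_all
  obtain ⟨a, κ, hC, hav, -, -, -, hsum⟩ := assemble x ![l, j] hv ![al, aj] ![κl, κj]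
    (fun r => by fin_cases r <;> assumption)
  have hBl : B (S.pr l x) al = A * k + A / k := by
    rw [haldef, hAdef, ← hαδ, hxl]
    simp only [B_comb, QuadraticMap.polar_add_left, QuadraticMap.polar_smul_left, polar_self_zero hp₁.hu,
      polar_self_zero hp₁.hv, hp₁.huv, hp₁.hvu, smul_eq_mul]
    field_simp
    ring
  have hBj : B (S.pr j x) aj = Aj * ν + Aj / ν := by
    rw [hajdef, hAjdef, ← hαδ', hxj]
    simp only [B_comb, QuadraticMap.polar_add_left, QuadraticMap.polar_smul_left, polar_self_zero hp₂.hu,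
      polar_self_zero hp₂.hv, hp₂.huv, hp₂.hvu, smul_eq_mul]
    field_simp
    ring
  have hντ : Aj * ν + Aj / ν = ρ * τ := by
    have e : Aj * (ν * ν + 1) = ρ * τ * ν := by
      have e' : Aj * (ρ * τ / Aj * ν) = ρ * τ * ν := by field_simp
      linear_combination Aj * hν - e' + (-(ρ * τ * ν)) * h2 + 0 * hν
    field_simp
    linear_combination e
  obtain ⟨y, hy, -, -, hpr⟩ := move hx a κ hC (Or.inl (free_two h2 hx)) (k := k) (by
    rw [hsum, Fin.sum_univ_two]
    simp only [Matrix.cons_val_zero, Matrix.cons_val_one]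
    rw [← hcdef, ← hAdef, ← hAjdef]
    linear_combination hBl + hBj + hντ - hk + (c - A - Aj + A * k + A / k) * h2)
  have hprl : S.pr l y = (δ / k - k * δ) • f₁ := by
    rw [hpr, show a l = al from hav 0, hxl, haldef]
    module
  refine ⟨y, hy, fun _ => free_two h2 hy, nontriv_of_two hlj ?_ ?_, l, ?_, ?_⟩
  · rw [hprl, smul_ne_zero_iff]
    refine ⟨fun e => hk1 ?_, hp₁.ne_zero.2⟩
    have e' : δ * ((k - 1) * (k - 1)) = 0 := by
      field_simp at e
      linear_combination -e - δ * (k - 1) * h2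
    rcases mul_eq_zero.1 e' with h | h
    · exact absurd h hδ
    · exact sub_eq_zero.1 (mul_self_eq_zero.1 h)
  · rw [hpr, show a j = aj from hav 1]
    exact hκj.sub_ne (fun e => hj (by rw [hAjdef, e, QuadraticMap.map_zero])) hk1
      (fun e => hk1 (by linear_combination e - h2))
  · rw [hprl, smul_ne_zero_iff]
    refine ⟨fun e => hk1 ?_, hp₁.ne_zero.2⟩
    have e' : δ * ((k - 1) * (k - 1)) = 0 := by
      field_simp at e
      linear_combination -e - δ * (k - 1) * h2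
    rcases mul_eq_zero.1 e' with h | h
    · exact absurd h hδ
    · exact sub_eq_zero.1 (mul_self_eq_zero.1 h)
  · rw [hprl, Classical.Orth.map_smul', hp₁.hv, mul_zero]

/-- characteristic two, hyperbolic planes: a component of full value -/
theorem exact_of_sing {fr : Prop} (h2 : (2 : F) = 0) {x : Vec} (hx : S.R x) (hn : S.Nontriv x) {l : Fin t}
    (hl : S.pr l x ≠ 0) (hQl : Q (S.pr l x) = 0) : S.HasExact fr := by
  have hfr : fr → S.Free x := fun _ => free_two h2 hx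
  classical
  by_contra hno
  obtain ⟨i, -, -, hi, -⟩ := two_nonsing hx hn hfr hno
  have hil : i ≠ l := fun e => hi (by rw [e]; exact hQl)
  have hch : ringChar F = 2 := CharP.ringChar_of_prime_eq_zero Nat.prime_two (by exact_mod_cast h2)
  obtain ⟨ρ, hρ⟩ := FiniteField.isSquare_of_char_two hch (Q (S.pr i x) / Q x)
  have hAρ : Q (S.pr i x) = ρ * ρ * Q x := by rw [← hρ, div_mul_cancel₀ _ hx.1]
  have hρ0 : ρ ≠ 0 := fun e => hi (by rw [hAρ, e, mul_zero, zero_mul])
  set k := 1 + ρ⁻¹ with hkdef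
  have hk1 : k ≠ 1 := fun e => inv_ne_zero hρ0 (by linear_combination e - hkdef)
  have hk0 : k ≠ 0 := fun e => hno ⟨x, i, hx, hn i, (by
    have h1 : ρ⁻¹ = 1 := by linear_combination e - hkdef - h2
    rw [hAρ, inv_eq_one.1 h1, one_mul, one_mul]), hfr⟩
  obtain ⟨f, hf, hp⟩ := (S.plane l).pair_of_sing (S.pr_mem l x) hl hQl
  have hμ : k * Q x ≠ 0 := mul_ne_zero hk0 hx.1
  obtain ⟨κ₁, hκ₁⟩ := chg_of (S := S) (x := x) (a := (k * Q x) • f) ((D l).smul_mem _ hf)
    (by rw [Classical.Orth.map_smul', hp.hv, mul_zero, hQl]) (Or.inr (by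
      rw [Classical.Orth.map_sub', Classical.Orth.map_smul', hp.hv, hQl, QuadraticMap.polar_smul_left, hp.hvu,
        smul_eq_mul, mul_zero, zero_add, zero_sub, mul_one, neg_ne_zero]
      exact hμ))
  obtain ⟨a, κ, hC, hav, -, hout, -, hsum⟩ := assemble x ![l] (fun r r' _ => Subsingleton.elim r r')
    ![(k * Q x) • f] ![κ₁] (fun r => by fin_cases r; exact hκ₁)
  obtain ⟨y, hy, hQy, hfy, hpr⟩ := move hx a κ hC (Or.inl (free_two h2 hx)) (k := k) (by
    rw [hsum, Fin.sum_univ_one]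
    simp only [Matrix.cons_val_zero, QuadraticMap.polar_smul_right, hp.huv, hQl, smul_eq_mul]
    linear_combination Q x * h2)
  have hyl : S.pr l y ≠ 0 := by
    rw [hpr, show a l = (k * Q x) • f from hav 0]
    intro e
    have := congrArg (fun z => B (S.pr l x) z) e
    simp only [QuadraticMap.polar_sub_right, QuadraticMap.polar_smul_right, hp.huv, polar_self_zero hQl,
      smul_eq_mul, mul_one, mul_zero, sub_zero, QuadraticMap.polar_zero_right] at this
    exact hμ this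
  refine hno ⟨y, i, hy, fun h => hyl (S.pr_other (Ne.symm hil) h), ?_, fun _ => free_two h2 hy⟩
  rw [hpr, hout i (fun r => by fin_cases r; exact Ne.symm hil), hQy, show S.pr i x - k • S.pr i x =
    (1 - k) • S.pr i x by rw [sub_smul, one_smul], Classical.Orth.map_smul', hAρ, hkdef]
  field_simp
  ring

variable (S) in
/-- three components -/
def Three (x : ι → F) : Prop :=
  ∃ i l m : Fin t, i ≠ l ∧ i ≠ m ∧ l ≠ m ∧ S.pr i x ≠ 0 ∧ S.pr l x ≠ 0 ∧ S.pr m x ≠ 0

theorem exists_three {fr : Prop} {x : Vec} (hx : S.R x) (hn : S.Nontriv x) (hfr : fr → S.Free x) (hno : ¬ S.HasExact fr) :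
    ∃ y, S.R y ∧ (fr → S.Free y) ∧ S.Three y := by
  classical
  obtain ⟨i, l, hil, hi, hl⟩ := two_nonsing hx hn hfr hno
  have hi0 : S.pr i x ≠ 0 := fun e => hi (by rw [e, QuadraticMap.map_zero])
  have hl0 : S.pr l x ≠ 0 := fun e => hl (by rw [e, QuadraticMap.map_zero])
  by_cases hm : ∃ m, m ≠ i ∧ m ≠ l ∧ S.pr m x ≠ 0
  · obtain ⟨m, hmi, hml, hm⟩ := hm
    exact ⟨x, hx, hfr, i, l, m, hil, Ne.symm hmi, Ne.symm hml, hi0, hl0, hm⟩
  push Not at hm
  obtain ⟨m, hm'⟩ := Finset.card_pos.1 (show 0 < ((Finset.univ.erase i).erase l : Finset (Fin t)).card by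
    rw [Finset.card_erase_of_mem (Finset.mem_erase.2 ⟨hil.symm, Finset.mem_univ _⟩),
      Finset.card_erase_of_mem (Finset.mem_univ i), Finset.card_univ, Fintype.card_fin]
    have := S.five
    omega)
  simp only [Finset.mem_erase] at hm'
  obtain ⟨hml, hmi, -⟩ := hm'
  obtain ⟨σ, h1, h2, h3, -, hσM⟩ := S.exists_three_cycle hil hmi.symm hml.symm
  set x' := act (S.perm σ) x
  have hx' : S.R x' := hx.map hσM ⟨σ, fun _ _ hz => S.perm_mem_plane σ hz⟩
  have hQx' : Q x' = Q x := act_map _ _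
  have hs : ∀ {p q : Fin t}, σ p = q → S.pr q x' = S.trans p q x := fun {p q} e => by
    rw [S.pr_perm, show σ.symm q = p by rw [← e, Equiv.symm_apply_apply]]
  have hpi : S.pr i x' = 0 := by
    have h0 : Q (S.trans m i x) = 0 := by rw [S.trans_map, hm m hmi hml, QuadraticMap.map_zero]
    rw [hs h3, Setup.trans, LinearMap.comp_apply, LinearMap.comp_apply,
      show (S.pr m).codRestrict (D m) (S.pr_mem m) x = 0 from Subtype.ext (hm m hmi hml), map_zero, map_zero]
  obtain ⟨p, hp, hp0, hap⟩ := (S.plane l).exists_orth (S.pr_mem l x)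
  obtain ⟨a', ha', hQa', ha1, ha2⟩ := (S.plane l).exists_off_lines (S.big' l) S.three hi (S.pr l x) p
  have hQl' : Q (S.pr l x') = Q (S.pr i x) := by rw [hs h1, S.trans_map]
  obtain ⟨κ₁, hκ₁⟩ := chg_of (S := S) (x := x') ha' (hQa'.trans hQl'.symm) (by
    by_cases e : a' = S.pr l x'
    · exact Or.inl e
    · exact Or.inr ((S.plane l).sub_nonsing (S.pr_mem l x') ha' (by rw [hQl']; exact hi)
        (hQa'.trans hQl'.symm) e))
  obtain ⟨a, κ, hC, hav, -, hout, -, -⟩ := assemble x' ![l] (fun r r' _ => Subsingleton.elim r r')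
    ![a'] ![κ₁] (fun r => by fin_cases r; exact hκ₁)
  obtain ⟨x₂, hx₂, hfx₂, hpr₂⟩ := change hx' a κ hC (Or.inl (free_of_zero hx' hpi))
  have hQ₂ : Q x₂ = Q x := by
    rw [← hQx', S.Q_sum x₂, S.Q_sum x']
    exact Finset.sum_congr rfl fun q _ => by rw [hpr₂]; exact (hC q).mem.2
  set k := (Q x)⁻¹ * B x x₂
  have hB : B x x₂ = B (S.pr l x) a' := by
    rw [S.B_sum, Finset.sum_eq_single l ?_ (fun h => absurd (Finset.mem_univ l) h), hpr₂, show a l = a' from hav 0]
    intro q _ hql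
    rcases eq_or_ne q i with rfl | hqi
    · rw [hpr₂, hout q (fun r => by fin_cases r; exact Ne.symm hql), hpi, QuadraticMap.polar_zero_right]
    · rw [hm q hqi hql, QuadraticMap.polar_zero_left]
  have hk : k ≠ 0 := by
    refine mul_ne_zero (inv_ne_zero hx.1) ?_
    rw [hB]
    intro h0
    obtain ⟨r, rfl⟩ := (S.plane l).orth_line (S.pr_mem l x) hl0 hp hp0 hap ha' h0
    exact ha2 (Submodule.smul_mem _ r (Submodule.mem_span_singleton_self p))
  refine ⟨_, hx.refl hx₂ hQ₂, fun h => (hfr h).refl hx hx₂ hQ₂ (hfx₂ (free_of_zero hx' hpi)), i, l, m, hil, hmi.symm, hml.symm, ?_, ?_, ?_⟩ <;>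
    rw [act_reflect, map_sub, map_smul, hpr₂]
  · rw [hout i (fun r => by fin_cases r; exact Ne.symm hil), hpi, zero_sub, neg_ne_zero]
    exact smul_ne_zero hk hi0
  · rw [show a l = a' from hav 0, sub_ne_zero]
    exact fun e => ha1 (by rw [e]; exact Submodule.smul_mem _ _ (Submodule.mem_span_singleton_self _))
  · rw [hout m (fun r => by fin_cases r; exact Ne.symm hml), hm m hmi hml, smul_zero, sub_zero, hs h2]
    exact fun e => hl (by rw [← S.trans_map l m, e, QuadraticMap.map_zero])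

variable (S) in
/-- every component can be prescribed, or none is singular -/
def Ready (x : ι → F) : Prop :=
  S.Free x ∨ ((2 : F) ≠ 0 ∧ ∀ l, Q (S.pr l x) ≠ 0)

theorem exists_ready : ∀ (n : ℕ) {x : Vec}, S.R x → S.Three x →
    {l | S.pr l x ≠ 0 ∧ Q (S.pr l x) = 0}.ncard = n →
    ∃ y, S.R y ∧ (S.Free x → S.Free y) ∧ S.Three y ∧ S.Ready y ∧
      ((∃ l, Q (S.pr l x) ≠ 0 ∧ Sq (Q (S.pr l x)) (Q x)) → ∃ l, Q (S.pr l y) ≠ 0 ∧ Sq (Q (S.pr l y)) (Q y)) := by
  intro n
  induction n using Nat.strong_induction_on with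
  | _ n ih =>
  intro x hx h3 hn
  classical
  by_cases hf : S.Free x
  · exact ⟨x, hx, id, h3, Or.inl hf, id⟩
  have h2 : (2 : F) ≠ 0 := fun h => hf (free_two h hx)
  have hne : ∀ l, S.pr l x ≠ 0 := fun l h => hf (free_of_zero hx h)
  by_cases hs : ∀ l, Q (S.pr l x) ≠ 0
  · exact ⟨x, hx, id, h3, Or.inr ⟨h2, hs⟩, id⟩
  push Not at hs
  obtain ⟨l, hl⟩ := hs
  have h7 : 7 ≤ Fintype.card F := (S.big' l).resolve_left fun h => hne l (h _ (S.pr_mem l x) hl)
  obtain ⟨f, hf', hp⟩ := (S.plane l).pair_of_sing (S.pr_mem l x) (hne l) hl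
  obtain ⟨s, hs⟩ : ∃ s : F, s ∉ ({0, 1, -1} : Finset F) ∪ Finset.univ.filter fun r => r * r = 2 := by
    by_contra hc
    push Not at hc
    have e1 := Finset.card_le_card (show (Finset.univ : Finset F) ⊆
      ({0, 1, -1} : Finset F) ∪ Finset.univ.filter fun r => r * r = 2 from fun s _ => hc s)
    have e2 : (Finset.univ.filter fun r : F => r * r = 2).card ≤ 2 := by
      by_cases hex : ∃ r : F, r * r = 2
      · obtain ⟨r, hr⟩ := hex
        refine (Finset.card_le_card (t := {r, -r}) fun z hz => ?_).trans Finset.card_le_two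
        simp only [Finset.mem_filter, Finset.mem_univ, true_and] at hz
        rcases mul_eq_zero.1 (show (z - r) * (z + r) = 0 by linear_combination hz - hr) with h | h
        · simp [sub_eq_zero.1 h]
        · simp [eq_neg_of_add_eq_zero_left h]
      · rw [Finset.filter_false_of_mem fun r _ h => hex ⟨r, h⟩]
        simp
    have e3 := Finset.card_le_three (a := (0 : F)) (b := 1) (c := -1)
    have e4 := Finset.card_union_le ({0, 1, -1} : Finset F) (Finset.univ.filter fun r => r * r = 2)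
    rw [Finset.card_univ] at e1
    omega
  simp only [Finset.mem_union, Finset.mem_insert, Finset.mem_singleton, Finset.mem_filter, Finset.mem_univ,
    true_and, not_or] at hs
  obtain ⟨⟨hs0, hs1, hs2⟩, hs3⟩ := hs
  set μ := -(Q x * (s * s)) with hμdef
  set k := 2 - s * s with hkdef
  have hμ : μ ≠ 0 := neg_ne_zero.2 (mul_ne_zero hx.1 (mul_ne_zero hs0 hs0))
  have hk0 : k ≠ 0 := sub_ne_zero.2 (Ne.symm hs3)
  have hk1 : k ≠ 1 := fun e => by
    rcases mul_eq_zero.1 (show (s - 1) * (s + 1) = 0 by linear_combination -(hkdef.symm.trans e)) with h | h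
    · exact hs1 (sub_eq_zero.1 h)
    · exact hs2 (eq_neg_of_add_eq_zero_left h)
  set e₀ := S.pr l x with he₀
  have hQd : Q (μ • f - e₀) = -μ := by
    rw [Classical.Orth.map_sub', Classical.Orth.map_smul', hp.hv, hl, QuadraticMap.polar_smul_left, hp.hvu,
      smul_eq_mul]
    ring
  have hchg : S.Chg x l false (μ • f) := by
    refine Or.inr ⟨μ • f - e₀, (D l).sub_mem ((D l).smul_mem _ hf') (S.pr_mem l x), (by rw [hQd]; exact neg_ne_zero.2 hμ),
      iff_of_true rfl ⟨Q x * s, by rw [hQd, hμdef]; ring⟩, ?_⟩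
    have hB : B (μ • f - e₀) e₀ = μ := by
      rw [QuadraticMap.polar_sub_left, QuadraticMap.polar_smul_left, hp.hvu, polar_self_zero hl, smul_eq_mul,
        mul_one, sub_zero]
    rw [act_reflect, ← he₀, hB, hQd, inv_neg, neg_mul, inv_mul_cancel₀ hμ]
    module
  obtain ⟨a, κ, hC, hav, -, hout, hcard, hsum⟩ := assemble x ![l] (fun r r' _ => Subsingleton.elim r r')
    ![μ • f] ![false] (fun r => by fin_cases r; exact hchg)
  obtain ⟨y, hy, hQy, hfy, hpr⟩ := move hx a κ hC (Or.inr (by rw [hcard]; simp)) (k := k) (by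
    rw [hsum, Fin.sum_univ_one]
    simp only [Matrix.cons_val_zero, QuadraticMap.polar_smul_right, hp.huv, hl, smul_eq_mul, ← he₀]
    rw [hμdef, hkdef]; ring)
  have hyl : Q (S.pr l y) ≠ 0 := by
    rw [hpr, show a l = μ • f from hav 0, ← he₀, Classical.Orth.map_sub', Classical.Orth.map_smul',
      Classical.Orth.map_smul', hp.hv, hl, QuadraticMap.polar_smul_left, QuadraticMap.polar_smul_right, hp.hvu,
      smul_eq_mul, smul_eq_mul, mul_zero, mul_zero, add_zero, zero_sub, mul_one, neg_ne_zero]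
    exact mul_ne_zero hμ hk0
  have hyp : ∀ p, p ≠ l → S.pr p y = (1 - k) • S.pr p x := fun p hpl => by
    rw [hpr, hout p (fun r => by fin_cases r; exact Ne.symm hpl), sub_smul (1 : F) k, one_smul]
  have hyne : ∀ p, S.pr p y ≠ 0 := fun p => by
    rcases eq_or_ne p l with rfl | hpl
    · exact fun e => hyl (by rw [e, QuadraticMap.map_zero])
    · rw [hyp p hpl]; exact smul_ne_zero (sub_ne_zero.2 (Ne.symm hk1)) (hne p)
  have h3y : S.Three y := by
    obtain ⟨i, i', m, g1, g2, g3, -⟩ := h3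
    exact ⟨i, i', m, g1, g2, g3, hyne i, hyne i', hyne m⟩
  have hlt : {p | S.pr p y ≠ 0 ∧ Q (S.pr p y) = 0}.ncard < n := by
    rw [← hn]
    refine Set.ncard_lt_ncard ⟨fun p hp' => ?_, fun h => hyl (h (⟨hne l, hl⟩ : l ∈ {p | S.pr p x ≠ 0 ∧ Q (S.pr p x) = 0})).2⟩
    have hpl : p ≠ l := fun e => hyl (e ▸ hp'.2)
    have := hp'.2
    rw [hyp p hpl, Classical.Orth.map_smul'] at this
    exact ⟨hne p, (mul_eq_zero.1 this).resolve_left
      (mul_ne_zero (sub_ne_zero.2 (Ne.symm hk1)) (sub_ne_zero.2 (Ne.symm hk1)))⟩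
  obtain ⟨z, hz, -, hz3, hzr, hzs⟩ := ih _ hlt hy h3y rfl
  refine ⟨z, hz, fun h => absurd h hf, hz3, hzr, fun ⟨p, hp0, hp1⟩ => hzs ⟨p, ?_⟩⟩
  have hpl : p ≠ l := fun e => hp0 (e ▸ hl)
  rw [hyp p hpl, Classical.Orth.map_smul', hQy]
  exact ⟨mul_ne_zero (mul_ne_zero (sub_ne_zero.2 (Ne.symm hk1)) (sub_ne_zero.2 (Ne.symm hk1))) hp0,
    sq_mul_sq _ hp1⟩

theorem exists_good {x : Vec} (hr : S.Ready x) (h3 : S.Three x) (hc : (2 : F) ≠ 0 ∨ ∀ i, Aniso Q (D i)) :
    ∃ j, S.Good x j ∧ ∀ j', S.Free x → S.Good x j' := by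
  have hfree : S.Free x → ∀ j, S.Good x j := by
    intro hf j
    obtain ⟨i, l, m, g1, g2, g3, gi, gl, gm⟩ := h3
    rcases eq_or_ne j i with rfl | hji
    · exact good_free hf g1 g2 g3 gl gm hc
    rcases eq_or_ne j l with rfl | hjl
    · exact good_free hf g1.symm g3 g2 gi gm hc
    exact good_free hf hji hjl g1 gi gl hc
  rcases hr with hf | ⟨h2, hfull⟩
  · obtain ⟨i, -⟩ := h3
    exact ⟨i, hfree hf i, fun j' hf' => hfree hf' j'⟩
  · obtain ⟨j, hj⟩ := good_full (fun l e => hfull l (by rw [e, QuadraticMap.map_zero])) h2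
    exact ⟨j, hj, fun j' hf' => hfree hf' j'⟩

theorem keep_three {x y : Vec} (h3 : S.Three x) {k : F} (hk : k ≠ 1) (hk' : k ≠ -1) {a : Fin t → Vec}
    {κ : Fin t → Bool} (hC : ∀ l, S.Chg x l (κ l) (a l)) (hpr : ∀ l, S.pr l y = a l - k • S.pr l x) :
    S.Three y := by
  obtain ⟨i, l, m, g1, g2, g3, gi, gl, gm⟩ := h3
  exact ⟨i, l, m, g1, g2, g3, by rw [hpr]; exact (hC i).sub_ne gi hk hk',
    by rw [hpr]; exact (hC l).sub_ne gl hk hk', by rw [hpr]; exact (hC m).sub_ne gm hk hk'⟩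

/-- a component in the square class of the value -/
theorem exists_square_comp (hc : (2 : F) ≠ 0 ∨ ∀ i, Aniso Q (D i)) {x : Vec} (hx : S.R x) (h3 : S.Three x) :
    ∃ y, S.R y ∧ (S.Free x → S.Free y) ∧ S.Three y ∧ S.Ready y ∧ ∃ l, Q (S.pr l y) ≠ 0 ∧ Sq (Q (S.pr l y)) (Q y) := by
  obtain ⟨y, hy, hfxy, h3y, hry, hsq⟩ := exists_ready _ hx h3 rfl
  by_cases hh : ∃ l, Q (S.pr l y) ≠ 0 ∧ Sq (Q (S.pr l y)) (Q y)
  · exact ⟨y, hy, hfxy, h3y, hry, hh⟩
  push Not at hh
  obtain ⟨l, hl⟩ : ∃ l, Q (S.pr l y) ≠ 0 := by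
    by_contra h
    push Not at h
    exact hy.1 (by rw [S.Q_sum y]; exact Finset.sum_eq_zero fun p _ => h p)
  have h2 : (2 : F) ≠ 0 := fun h => hh l hl (sq_char_two h _ _)
  obtain ⟨j₀, hj₀, hfree⟩ := exists_good hry h3y hc
  obtain ⟨j, hj, hjA⟩ : ∃ j, S.Good y j ∧ Q (S.pr j y) ≠ 0 := by
    rcases hry with hf | ⟨-, hfull⟩
    · exact ⟨l, hfree l hf, hl⟩
    · exact ⟨j₀, hj₀, hfull j₀⟩
  obtain ⟨p, hp, hp0, hap⟩ := (S.plane j).exists_orth (S.pr_mem j y)
  obtain ⟨v, hv, hQv, hv1, hv2⟩ := (S.plane j).exists_off_lines (S.big' j) S.three hy.1 (S.pr j y) p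
  have hv0 : Q v ≠ 0 := by rw [hQv]; exact hy.1
  have hBv : B v (S.pr j y) ≠ 0 := fun h0 => by
    obtain ⟨r, rfl⟩ := (S.plane j).orth_line (S.pr_mem j y)
      (fun e => hjA (by rw [e, QuadraticMap.map_zero])) hp hp0 hap hv (by rw [QuadraticMap.polar_comm]; exact h0)
    exact hv2 (Submodule.smul_mem _ r (Submodule.mem_span_singleton_self p))
  set a₀ := act (reflect Q v) (S.pr j y) with ha₀
  have hchg : S.Chg y j false a₀ := Or.inr ⟨v, hv, hv0, iff_of_true rfl (by rw [hQv]; exact Sq.refl _), rfl⟩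
  set A := Q (S.pr j y) with hAdef
  set β := B (S.pr j y) a₀ with hβdef
  have hβeq : β = 2 * A - (Q v)⁻¹ * (B v (S.pr j y) * B v (S.pr j y)) := by
    rw [hβdef, ha₀, act_reflect, QuadraticMap.polar_sub_right, QuadraticMap.polar_smul_right, polar_self',
      smul_eq_mul, QuadraticMap.polar_comm _ (S.pr j y) v]
    ring
  have hform : ∀ k : F, Q (a₀ - k • S.pr j y) = A - k * β + k * k * A := fun k => by
    rw [Classical.Orth.map_sub', Classical.Orth.map_smul', ha₀, act_map, QuadraticMap.polar_smul_right, ← ha₀,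
      QuadraticMap.polar_comm _ a₀, smul_eq_mul, ← hβdef, ← hAdef]
    ring
  have hβ : β * β ≠ 4 * (A * A) := fun e => by
    rcases mul_eq_zero.1 (show (β - 2 * A) * (β + 2 * A) = 0 by linear_combination e) with h | h
    · have : (Q v)⁻¹ * (B v (S.pr j y) * B v (S.pr j y)) = 0 := by linear_combination hβeq - h
      exact mul_ne_zero (inv_ne_zero hv0) (mul_ne_zero hBv hBv) this
    · refine hh j hjA ⟨B v (S.pr j y) / 2, ?_⟩
      have : (Q v)⁻¹ * (B v (S.pr j y) * B v (S.pr j y)) = 4 * A := by linear_combination hβeq - h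
      rw [inv_mul_eq_iff_eq_mul₀ hv0, hQv] at this
      field_simp
      linear_combination -this
  obtain ⟨k, hk1, hk2, hk0, hksq⟩ := exists_k h2 hy.1 hjA (hh j hjA) hβ S.three (by
    rcases S.big' j with h | h
    · refine Or.inr fun k h0 => ?_
      have hz := h (a₀ - k • S.pr j y) ((D j).sub_mem (act_reflect_mem hv (S.pr_mem j y))
        ((D j).smul_mem _ (S.pr_mem j y))) (by rw [hform]; exact h0)
      rw [sub_eq_zero] at hz
      have hk : k * k = 1 := mul_right_cancel₀ hjA (by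
        have e := congrArg (fun z => Q z) hz
        simp only [Classical.Orth.map_smul', ha₀, act_map] at e
        linear_combination -e)
      have : β = 2 * k * A := by
        rw [hβdef, hz, QuadraticMap.polar_smul_right, polar_self', smul_eq_mul]; ring
      exact hβ (by rw [this]; linear_combination 4 * A * A * hk)
    · exact Or.inl h)
  obtain ⟨a, κ, hC, haj, hpar, hsum⟩ := hj a₀ hchg k
  obtain ⟨y', hy', hQy', hfy', hpr⟩ := move hy a κ hC hpar hsum
  have hsq' : ∃ l, Q (S.pr l y') ≠ 0 ∧ Sq (Q (S.pr l y')) (Q y') :=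
    ⟨j, by rw [hpr, haj, hform]; exact hk0, by rw [hpr, haj, hform, hQy']; exact hksq⟩
  obtain ⟨z, hz, hfz, h3z, hrz, hzs⟩ := exists_ready _ hy' (keep_three h3y hk1 hk2 hC hpr) rfl
  exact ⟨z, hz, fun h => hfz (hfy' (hfxy h)), h3z, hrz, hzs hsq'⟩

/-- anisotropic planes or odd characteristic: a component of full value -/
theorem exact_of_three {fr : Prop} (hc : (2 : F) ≠ 0 ∨ ∀ i, Aniso Q (D i)) {x : Vec} (hx : S.R x) (h3 : S.Three x)
    (hfr : fr → S.Free x) : S.HasExact fr := by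
  classical
  by_contra hno
  obtain ⟨y, hy, hfxy, h3y, hry, l, hl, hlsq⟩ := exists_square_comp hc hx h3
  have hnt : S.Nontriv y := by
    obtain ⟨i, i', m, g1, -, -, gi, gl, -⟩ := h3y
    exact nontriv_of_two g1 gi gl
  obtain ⟨j₀, hj₀, hfree⟩ := exists_good hry h3y hc
  obtain ⟨j, hj, hjA, hjsq⟩ : ∃ j, S.Good y j ∧ Q (S.pr j y) ≠ 0 ∧ Sq (Q (S.pr j y)) (Q y) := by
    rcases hry with hf | ⟨-, hfull⟩
    · exact ⟨l, hfree l hf, hl, hlsq⟩
    by_cases hs : Sq (Q (S.pr j₀ y)) (Q y)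
    · exact ⟨j₀, hj₀, hfull j₀, hs⟩
    · exact ⟨l, hfree l (free_of_mixed hy hlsq hl (hfull j₀) hs), hl, hlsq⟩
  obtain ⟨r, hr⟩ := hjsq
  set ρ := r / Q y with hρ
  have hAρ : Q (S.pr j y) = ρ * ρ * Q y := by
    have := hy.1
    rw [hρ]; field_simp; linear_combination hr
  have hρ0 : ρ ≠ 0 := fun e => hjA (by rw [hAρ, e, mul_zero, zero_mul])
  have hA1 : ∀ ρ' : F, ρ' * ρ' = 1 → ρ ≠ ρ' := fun ρ' h e => hno ⟨y, j, hy, hnt j, (by rw [hAρ, e, h, one_mul]), fun hr => hfxy (hfr hr)⟩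
  obtain ⟨k, hk1, hk2, hkρ⟩ : ∃ k, k ≠ 1 ∧ k ≠ -1 ∧ (1 - k) * (1 - k) * (ρ * ρ) = 1 := by
    by_cases h : 1 + ρ⁻¹ = -1
    · refine ⟨1 - ρ⁻¹, fun e => inv_ne_zero hρ0 (by linear_combination -e), fun e => ?_, by field_simp; ring⟩
      have h0 : (2 : F) * ρ⁻¹ = 0 := by linear_combination h - e
      rcases eq_or_ne (2 : F) 0 with h2 | h2
      · exact inv_ne_zero hρ0 (by linear_combination h - h2)
      · exact inv_ne_zero hρ0 ((mul_eq_zero.1 h0).resolve_left h2)
    · exact ⟨1 + ρ⁻¹, fun e => inv_ne_zero hρ0 (by linear_combination e), h, by field_simp; ring⟩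
  obtain ⟨a, κ, hC, haj, hpar, hsum⟩ := hj _ (chg_self y j) k
  obtain ⟨z, hz, hQz, hfz, hpr⟩ := move hy a κ hC hpar hsum
  have h3z := keep_three h3y hk1 hk2 hC hpr
  have hnz : S.Nontriv z := by
    obtain ⟨i, i', m, g1, -, -, gi, gl, -⟩ := h3z
    exact nontriv_of_two g1 gi gl
  refine hno ⟨z, j, hz, hnz j, ?_, fun hr => hfz (hfxy (hfr hr))⟩
  rw [hpr, haj, show S.pr j y - k • S.pr j y = (1 - k) • S.pr j y by rw [sub_smul, one_smul],
    Classical.Orth.map_smul', hAρ, hQz, ← mul_assoc, hkρ, one_mul]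

/-- from a member outside the planes -/
theorem exact_of_member {fr : Prop} {x : Vec} (hx : S.R x) (hn : S.Nontriv x) (hfr : fr → S.Free x) :
    S.HasExact fr := by
  classical
  by_contra hno
  by_cases hc : (2 : F) ≠ 0 ∨ ∀ i, Aniso Q (D i)
  · obtain ⟨y, hy, hfy, h3⟩ := exists_three hx hn hfr hno
    exact hno (exact_of_three hc hy h3 hfy)
  push Not at hc
  obtain ⟨h2, i₀, hi₀⟩ := hc
  have hplus : ∀ i, ¬ Aniso Q (D i) := fun i h => by
    obtain ⟨e, he, he0, hQe⟩ := sing_all (S := S) hi₀ i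
    exact he0 (h e he hQe)
  obtain ⟨y, hy, -, hny, l, hl, hQl⟩ := exists_sing_comp h2 hplus hx hn hfr hno
  exact hno (exact_of_sing h2 hy hny hl hQl)

/-- a member with a component of full value -/
theorem exists_exact {g : Iso} (hg : g ∈ S.M) (hgp : ¬ Perms D g) : S.HasExact False := by
  obtain ⟨x, hx, hn⟩ := exists_member hg hgp
  exact exact_of_member hx hn False.elim

end Setup

end Cfsg.Agent.Forms.Max.PlaneBlocks
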