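import Mathlib
import Cfsg.Agent.Lib.Forms.Max.PlaneBlocks.Descent

/-!
# Nine elements

There the changes of components in the square class of the value reach a member with a vanishing component.
-/

set_option autoImplicit false
set_option linter.unusedSectionVars false

namespace Cfsg.Agent.Forms.Max.PlaneBlocks

open Matrix Cfsg.Agent.Forms.QuadStd Cfsg.Agent.Forms.Reflections Cfsg.Agent.Classical.Orth

variable {F : Type*} [Field F] [Fintype F] {ι : Type} [Fintype ι] [DecidableEq ι]
variable {Q : QuadraticForm F (ι → F)} {t : ℕ} {D : Fin t → Submodule F (ι → F)}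

local notation "Vec" => (ι → F)
local notation "B" => QuadraticMap.polar Q

namespace Setup

variable {S : Setup Q D}

theorem three_zero (h9 : Fintype.card F = 9) : (3 : F) = 0 := by
  have h := FiniteField.cast_card_eq_zero F
  rw [h9] at h
  have e : (3 : F) * 3 = 0 := by rw [← h]; norm_num
  exact mul_self_eq_zero.1 e

set_option maxHeartbeats 800000 in
/-- nine elements: a free member outside the planes -/
theorem free_member_nine (h9 : Fintype.card F = 9) {x : Vec} {i : Fin t} (hx : S.R x)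
    (hA : Q (S.pr i x) = Q x) (hf : ¬ S.Free x) : ∃ y, S.R y ∧ S.Free y ∧ S.Nontriv y := by
  classical
  have h3 := three_zero (F := F) h9
  have h2 : (2 : F) ≠ 0 := fun h => one_ne_zero (α := F) (by linear_combination h3 - h)
  have hm1 : IsSquare (-1 : F) := FiniteField.isSquare_neg_one_iff.2 (by rw [h9]; decide)
  obtain ⟨j, hj⟩ := hm1
  have hj0 : j ≠ 0 := fun e => by rw [e, mul_zero, neg_eq_zero] at hj; exact one_ne_zero hj
  have hne : ∀ l, S.pr l x ≠ 0 := fun l h => hf (free_of_zero hx h)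
  have hsq : ∀ l, Q (S.pr l x) ≠ 0 → Sq (Q (S.pr l x)) (Q x) := fun l h => by
    by_contra hn
    exact hf (free_of_mixed hx (m := l) (by rw [hA]; exact Sq.refl _) (by rw [hA]; exact hx.1) h hn)
  -- the changes of a single component
  have hplus : ∀ l, Q (S.pr l x) ≠ 0 → ¬ Aniso Q (D l) := by
    intro l hl han
    obtain ⟨p, hp, hp0, hap⟩ := (S.plane l).exists_orth (S.pr_mem l x)
    have hP := (S.plane l).orth_nonsing (S.pr_mem l x) hl hp hp0 hap
    refine hf (free_of_fix hx hp hP (fun hs => ?_) (by rw [← S.pair_pr l x hp, QuadraticMap.polar_comm]; exact hap))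
    obtain ⟨r, hr⟩ := Sq.trans hx.1 hs (hsq l hl).symm
    have hy := han ((j * r / Q p) • p + S.pr l x) ((D l).add_mem ((D l).smul_mem _ hp) (S.pr_mem l x)) (by
      rw [Classical.Orth.map_add', Classical.Orth.map_smul', QuadraticMap.polar_smul_left, QuadraticMap.polar_comm,
        hap, smul_zero, add_zero]
      field_simp
      linear_combination (-(r * r)) * hj + hr)
    have := congrArg (fun z => B (S.pr l x) z) hy
    simp only [QuadraticMap.polar_add_right, QuadraticMap.polar_smul_right, hap, smul_zero, zero_add, polar_self',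
      QuadraticMap.polar_zero_right] at this
    exact mul_ne_zero h2 hl this
  have hneg : ∀ l, Q (S.pr l x) ≠ 0 → ∃ a, S.Chg x l false a ∧ a ≠ S.pr l x ∧
      2 * Q (S.pr l x) - B (S.pr l x) a = Q (S.pr l x) := fun l hl => by
    refine ⟨-S.pr l x, Or.inr ⟨S.pr l x, S.pr_mem l x, hl, iff_of_true rfl (hsq l hl), ?_⟩, fun e => hne l ?_, ?_⟩
    · rw [act_reflect, polar_self', show (Q (S.pr l x))⁻¹ * (2 * Q (S.pr l x)) = 2 by field_simp, two_smul]
      abel
    · have e' : (2 : F) • S.pr l x = 0 := by rw [two_smul]; nth_rw 1 [← e]; exact neg_add_cancel _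
      exact (smul_eq_zero.1 e').resolve_left h2
    · rw [QuadraticMap.polar_neg_right, polar_self']
      linear_combination Q (S.pr l x) * h3
  have hrot : ∀ l, Q (S.pr l x) ≠ 0 → ∃ a, S.Chg x l false a ∧ a ≠ S.pr l x ∧
      2 * Q (S.pr l x) - B (S.pr l x) a = -Q (S.pr l x) := fun l hl => by
    obtain ⟨e, f, α, δ, he, hf', hp, hxl, hαδ, hα, hδ⟩ := exists_diag (S := S) (S.pr_mem l x) hl (hplus l hl)
    set a := (j * α) • e + (δ / j) • f with ha
    have haD : a ∈ D l := (D l).add_mem ((D l).smul_mem _ he) ((D l).smul_mem _ hf')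
    have hQa : Q a = Q (S.pr l x) := by rw [ha, Q_comb, hp.hu, hp.hv, hp.huv, ← hαδ]; field_simp; ring
    have hB : B (S.pr l x) a = 0 := by
      rw [hxl, ha]
      simp only [B_comb, QuadraticMap.polar_add_left, QuadraticMap.polar_smul_left, polar_self_zero hp.hu,
        polar_self_zero hp.hv, hp.huv, hp.hvu, smul_eq_mul]
      field_simp
      linear_combination (-(α * δ)) * hj
    have hd : Q (a - S.pr l x) = 2 * Q (S.pr l x) := by
      rw [Classical.Orth.map_sub', hQa, QuadraticMap.polar_comm, hB]; ring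
    refine ⟨a, Or.inr ⟨a - S.pr l x, (D l).sub_mem haD (S.pr_mem l x), by rw [hd]; exact mul_ne_zero h2 hl,
      iff_of_true rfl ?_, ?_⟩, fun e' => hl ?_, ?_⟩
    · obtain ⟨r, hr⟩ := hsq l hl
      exact ⟨j * r, by rw [hd]; linear_combination (r * r) * hj + (Q (S.pr l x) * Q x) * h3 - hr⟩
    · have hB' : B (a - S.pr l x) (S.pr l x) = -Q (a - S.pr l x) := by
        rw [QuadraticMap.polar_sub_left, polar_self', hd, QuadraticMap.polar_comm, hB]; ring
      rw [act_reflect, hB', mul_neg, inv_mul_cancel₀ (by rw [hd]; exact mul_ne_zero h2 hl)]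
      module
    · have h0 := hB
      rw [e', polar_self'] at h0
      exact (mul_eq_zero.1 h0).resolve_left h2
    · rw [hB]; linear_combination Q (S.pr l x) * h3
  have hchoice : ∀ l, Q (S.pr l x) ≠ 0 → ∀ δ : F, δ * δ = Q (S.pr l x) * Q (S.pr l x) →
      ∃ a, S.Chg x l false a ∧ a ≠ S.pr l x ∧ 2 * Q (S.pr l x) - B (S.pr l x) a = δ := fun l hl δ hδ => by
    rcases mul_eq_zero.1 (show (δ - Q (S.pr l x)) * (δ + Q (S.pr l x)) = 0 by linear_combination hδ) with h | h
    · rw [sub_eq_zero.1 h]; exact hneg l hl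
    · rw [eq_neg_of_add_eq_zero_left h]; exact hrot l hl
  -- the fourth powers
  have hfour : ∀ a : F, Sq a (Q x) → a ≠ 0 → a * a = Q x * Q x ∨ a * a = -(Q x * Q x) := by
    rintro a ⟨r, hr⟩ ha
    have hc := hx.1
    set ρ := r / Q x with hρ
    have ea : a = ρ * ρ * Q x := by rw [hρ]; field_simp; linear_combination hr
    have hρ0 : ρ ≠ 0 := fun e => ha (by rw [ea, e, mul_zero, zero_mul])
    have h8 : ρ ^ 8 = 1 := by
      have := FiniteField.pow_card_sub_one_eq_one ρ hρ0
      rwa [h9] at this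
    rcases mul_eq_zero.1 (show (ρ ^ 4 - 1) * (ρ ^ 4 + 1) = 0 by linear_combination h8) with h | h
    · exact Or.inl (by rw [ea]; linear_combination (Q x * Q x) * h)
    · exact Or.inr (by rw [ea]; linear_combination (Q x * Q x) * h)
  have hi0 : Q (S.pr i x) ≠ 0 := hA ▸ hx.1
  have := S.five
  -- members from a few changes
  have hbuild : ∀ {n : ℕ} (v : Fin n → Fin t) (g : Fin n → Vec), Function.Injective v → n < t →
      (∀ r, S.Chg x (v r) false (g r) ∧ g r ≠ S.pr (v r) x) → (∀ r : Fin n, ∃ r' : Fin n, r' ≠ r) → Nonempty (Fin n) →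
      ∑ r, (2 * Q (S.pr (v r) x) - B (S.pr (v r) x) (g r)) = Q x →
      ∃ y, S.R y ∧ S.Free y ∧ S.Nontriv y := by
    intro n v g hv hn hg htwo hne' hsum'
    obtain ⟨a, κ, hC, hav, -, hout, hcard, hsum⟩ := assemble x v hv g (fun _ => false) (fun r => (hg r).1)
    obtain ⟨y, hy, -, -, hpr⟩ := move hx a κ hC (Or.inr (by rw [hcard]; simp)) (k := 1) (by
      rw [hsum, one_mul]
      have : ∑ r, (B (S.pr (v r) x) (g r) - 2 * Q (S.pr (v r) x)) =
          -∑ r, (2 * Q (S.pr (v r) x) - B (S.pr (v r) x) (g r)) := by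
        rw [← Finset.sum_neg_distrib]
        exact Finset.sum_congr rfl fun r _ => by ring
      rw [this, hsum']
      linear_combination (0 : F) * h3)
    obtain ⟨z, hz⟩ : ∃ z, ∀ r, v r ≠ z := by
      by_contra hcc
      push Not at hcc
      have := Fintype.card_le_of_surjective v hcc
      simp only [Fintype.card_fin] at this
      omega
    have hval : ∀ r, S.pr (v r) y ≠ 0 := fun r => by
      rw [hpr, hav, one_smul, sub_ne_zero]; exact (hg r).2
    obtain ⟨r⟩ := hne'
    obtain ⟨r', hr'⟩ := htwo r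
    exact ⟨y, hy, free_of_zero hy (l := z) (by rw [hpr, hout z hz, one_smul, sub_self]),
      nontriv_of_two (fun e => hr' (hv e)) (hval r') (hval r)⟩
  by_cases hcase : ∃ l, l ≠ i ∧ (Q (S.pr l x) = 0 ∨ Q (S.pr l x) * Q (S.pr l x) = Q x * Q x)
  · obtain ⟨l, hli, hl⟩ := hcase
    obtain ⟨b, hb1, hb2, hb3⟩ : ∃ b, S.Chg x l false b ∧ b ≠ S.pr l x ∧
        2 * Q (S.pr l x) - B (S.pr l x) b = -Q x := by
      by_cases h0 : Q (S.pr l x) = 0
      swap
      · exact hchoice l h0 _ (by rw [hl.resolve_left h0]; ring)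
      obtain ⟨f, hf', hp⟩ := (S.plane l).pair_of_sing (S.pr_mem l x) (hne l) h0
      have hd : Q (Q x • f - S.pr l x) = -Q x := by
        rw [Classical.Orth.map_sub', Classical.Orth.map_smul', hp.hv, h0, QuadraticMap.polar_smul_left, hp.hvu,
          smul_eq_mul]
        ring
      refine ⟨Q x • f, Or.inr ⟨Q x • f - S.pr l x, (D l).sub_mem ((D l).smul_mem _ hf') (S.pr_mem l x),
        by rw [hd]; exact neg_ne_zero.2 hx.1, iff_of_true rfl ⟨j * Q x, by rw [hd]; linear_combination (Q x * Q x) * hj⟩,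
        ?_⟩, fun e => hx.1 ?_, ?_⟩
      · have hB : B (Q x • f - S.pr l x) (S.pr l x) = Q x := by
          rw [QuadraticMap.polar_sub_left, QuadraticMap.polar_smul_left, hp.hvu, polar_self_zero h0, smul_eq_mul,
            mul_one, sub_zero]
        rw [act_reflect, hB, hd, inv_neg, neg_mul, inv_mul_cancel₀ hx.1]
        module
      · have := congrArg (fun z => B (S.pr l x) z) e
        simpa [QuadraticMap.polar_smul_right, hp.huv, polar_self_zero h0] using this
      · rw [h0, QuadraticMap.polar_smul_right, hp.huv, smul_eq_mul]; ring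
    obtain ⟨a, ha1, ha2, ha3⟩ := hchoice i hi0 (-Q x) (by rw [hA]; ring)
    refine hbuild ![i, l] ![a, b] ?_ (by omega) ?_ (fun r => by fin_cases r <;> first | exact ⟨1, by decide⟩ | exact ⟨0, by decide⟩) inferInstance ?_
    · intro r r' h; fin_cases r <;> fin_cases r' <;> simp_all
    · intro r; fin_cases r
      exacts [⟨ha1, ha2⟩, ⟨hb1, hb2⟩]
    · rw [Fin.sum_univ_two]
      simp only [Matrix.cons_val_zero, Matrix.cons_val_one]
      linear_combination ha3 + hb3 + (-Q x) * h3
  push Not at hcase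
  obtain ⟨l, hl, m, hm, hlm⟩ := Finset.one_lt_card.1 (show 1 < (Finset.univ.erase i : Finset (Fin t)).card by
    rw [Finset.card_erase_of_mem (Finset.mem_univ i), Finset.card_univ, Fintype.card_fin]; omega)
  simp only [Finset.mem_erase] at hl hm
  have hl' := hcase l hl.1
  have hm' := hcase m hm.1
  have el := (hfour _ (hsq l hl'.1) hl'.1).resolve_left hl'.2
  have em := (hfour _ (hsq m hm'.1) hm'.1).resolve_left hm'.2
  obtain ⟨a, ha1, ha2, ha3⟩ := hchoice i hi0 (Q x) (by rw [hA])
  obtain ⟨b, hb1, hb2, hb3⟩ := hchoice l hl'.1 (Q (S.pr l x)) rfl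
  obtain ⟨b', hb1', hb2', hb3'⟩ := hchoice m hm'.1 (-Q (S.pr l x)) (by rw [em, ← el]; ring)
  refine hbuild ![i, l, m] ![a, b, b'] ?_ (by omega) ?_ (fun r => by fin_cases r <;> first | exact ⟨1, by decide⟩ | exact ⟨0, by decide⟩) inferInstance ?_
  · intro r r' h; fin_cases r <;> fin_cases r' <;> simp_all
  · intro r; fin_cases r
    exacts [⟨ha1, ha2⟩, ⟨hb1, hb2⟩, ⟨hb1', hb2'⟩]
  · rw [Fin.sum_univ_three]
    simp only [Matrix.cons_val_zero, Matrix.cons_val_one, Matrix.cons_val_two, Matrix.tail_cons, Matrix.head_cons]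
    linear_combination ha3 + hb3 + hb3'

end Setup

end Cfsg.Agent.Forms.Max.PlaneBlocks
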