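import Mathlib
import Cfsg.Agent.Lib.Forms.Max.PlaneBlocks.Nine

/-!
# All root elements from a plane to a singular vector orthogonal to it

The directions found form an additive group closed under reflections of the plane; its multipliers form a subfield
with more elements than the square root of the order of the field.
-/

set_option autoImplicit false
set_option linter.unusedSectionVars false

namespace Cfsg.Agent.Forms.Max.PlaneBlocks

open Matrix Cfsg.Agent.Forms.QuadStd Cfsg.Agent.Forms.Reflections Cfsg.Agent.Classical.Orth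
open Cfsg.Agent.Forms.Max.OrthPair (InE inE_add inE_neg)
open Cfsg.Agent.Forms.Max.OrthBlocks (Dir)

variable {F : Type*} [Field F] [Fintype F] {ι : Type} [Fintype ι] [DecidableEq ι]
variable {Q : QuadraticForm F (ι → F)} {t : ℕ} {D : Fin t → Submodule F (ι → F)}

local notation "Vec" => (ι → F)
local notation "B" => QuadraticMap.polar Q
set_option quotPrecheck false in
local notation "Iso" => Cfsg.isometryGroup F ⇑Q

/-- multipliers of an additive subgroup -/
def mults (T : AddSubgroup (ι → F)) : Subring F where
  carrier := {κ | ∀ w ∈ T, κ • w ∈ T}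
  mul_mem' {a b} ha hb := fun w hw => by rw [mul_smul]; exact ha _ (hb w hw)
  one_mem' := fun w hw => by rwa [one_smul]
  add_mem' {a b} ha hb := fun w hw => by rw [add_smul]; exact T.add_mem (ha w hw) (hb w hw)
  zero_mem' := fun w _ => by rw [zero_smul]; exact T.zero_mem
  neg_mem' {a} ha := fun w hw => by rw [neg_smul]; exact T.neg_mem (ha w hw)

/-- a large subring of a finite field is everything -/
theorem subring_top (K : Subring F) (s : Finset F) (hs : ∀ x ∈ s, x ∈ K)
    (h : Fintype.card F < s.card * s.card) : ∀ y, y ∈ K := by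
  classical
  intro y
  by_contra hy
  have hinj : Set.InjOn (fun p : F × F => p.1 + p.2 * y) ↑(s ×ˢ s) := by
    intro p hp p' hp' e
    simp only [Finset.coe_product, Set.mem_prod, Finset.mem_coe] at hp hp'
    simp only at e
    by_contra hne
    have hd : p.2 - p'.2 ≠ 0 := fun h0 => hne (by
      have h2 := sub_eq_zero.1 h0
      rw [h2, add_left_inj] at e
      exact Prod.ext e h2)
    refine hy ?_
    have hinv : (p.2 - p'.2)⁻¹ ∈ K := by
      have hpow := FiniteField.pow_card_sub_one_eq_one _ hd
      have hc := Fintype.one_lt_card (α := F)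
      rw [show Fintype.card F - 1 = (Fintype.card F - 2) + 1 by omega, pow_succ] at hpow
      rw [← eq_inv_of_mul_eq_one_left hpow]
      exact K.pow_mem (K.sub_mem (hs _ hp.2) (hs _ hp'.2)) _
    rw [show y = (p'.1 - p.1) * (p.2 - p'.2)⁻¹ by field_simp; linear_combination e]
    exact K.mul_mem (K.sub_mem (hs _ hp'.1) (hs _ hp.1)) hinv
  have := Finset.card_le_card (Finset.subset_univ ((s ×ˢ s).image fun p : F × F => p.1 + p.2 * y))
  rw [Finset.card_image_of_injOn hinj, Finset.card_product, Finset.card_univ] at this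
  omega

theorem natCast_surj (hp : (Fintype.card F).Prime) (y : F) : ∃ k : ℕ, (k : F) = y := by
  have : Fact (Fintype.card F).Prime := ⟨hp⟩
  have : CharP F (Fintype.card F) := charP_of_card_eq_prime rfl
  obtain ⟨k, hk⟩ := ((Fintype.bijective_iff_injective_and_card _).2
    ⟨(ZMod.castHom (dvd_refl (Fintype.card F)) F).injective, by rw [ZMod.card]⟩).2 y
  exact ⟨k.val, by rw [← hk, ZMod.castHom_apply, ZMod.natCast_val]⟩

namespace Setup

variable {S : Setup Q D}

include S in
/-- two reflections of a plane in both orders -/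
theorem pair_sum {i : Fin t} {a v z : Vec} (ha : a ∈ D i) (hv : v ∈ D i) (hA : Q a ≠ 0) (hV : Q v ≠ 0)
    (hva : v ∉ Submodule.span F {a}) (hz : z ∈ D i) :
    act (reflect Q a) (act (reflect Q v) z) + act (reflect Q v) (act (reflect Q a) z) =
      (B a v * B a v / (Q a * Q v) - 2) • z := by
  have ha0 : a ≠ 0 := fun e => hA (by rw [e, QuadraticMap.map_zero])
  obtain ⟨α, β, rfl⟩ := (S.plane i).exists_comb ha hv ha0 hva hz
  simp only [act_reflect, map_add, map_sub, map_smul, polar_self', QuadraticMap.polar_comm _ v a]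
  match_scalars <;> field_simp <;> ring

/-- the directions of an exact member fill its plane -/
theorem dir_plane {x : Vec} {i : Fin t} (hx : S.R x) (hA : Q (S.pr i x) = Q x) (h2f : (2 : F) = 0 → S.Free x)
    (h9 : Fintype.card F = 9 → S.Free x) :
    ∀ w ∈ D i, Dir S.M (x - S.pr i x) w := by
  classical
  set a := S.pr i x with ha
  set b := x - a with hb
  have hbi : ∀ w ∈ D i, B b w = 0 := fun w hw => by
    rw [hb, ha, QuadraticMap.polar_sub_left, S.pr_pair i x hw, sub_self]
  have haD : a ∈ D i := S.pr_mem i x
  have hab : x = a + b := by rw [hb]; abel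
  have hQb : Q b = 0 := by
    have h := congrArg (fun z => Q z) hab
    simp only [Classical.Orth.map_add', hA, QuadraticMap.polar_comm _ a b, hbi a haD, add_zero] at h
    exact left_eq_add.1 h
  set c := Q x with hc
  have hA0 : Q a ≠ 0 := by rw [hA]; exact hx.1
  have ha0 : a ≠ 0 := fun e => hA0 (by rw [e, QuadraticMap.map_zero])
  let G : Set Vec := {w | ∃ a' ∈ D i, Q a' = c ∧ S.R (a' + b) ∧ (S.Free x → S.Free (a' + b)) ∧
    w = (-c⁻¹) • a'}
  set T := AddSubgroup.closure G with hT
  have hTD : ∀ w ∈ T, w ∈ D i ∧ InE S.M b w := by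
    intro w hw
    induction hw using AddSubgroup.closure_induction with
    | mem w hw =>
      obtain ⟨a', ha', hQa', hR, -, rfl⟩ := hw
      refine ⟨(D i).smul_mem _ ha', ?_⟩
      have := (triv (S := S) ha' (by rw [hQa']; exact hx.1)).root (μ := 1) (z := b) (by rwa [one_smul]) hQb
        (hbi a' ha')
      rwa [hQa', one_div] at this
    | zero =>
      refine ⟨(D i).zero_mem, fun hu h0 => ?_⟩
      rw [eich_zero_right hu h0]
      exact one_mem _
    | add u v _ _ hu hv =>
      exact ⟨(D i).add_mem hu.1 hv.1, inE_add hu.2 hv.2 (hbi u hu.1) (hbi v hv.1)⟩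
    | neg u _ hu => exact ⟨(D i).neg_mem hu.1, inE_neg hu.2⟩
  let Ok : Vec → Prop := fun v => v ∈ D i ∧ Q v ≠ 0 ∧ (Sq (Q v) c ∨ S.Free x)
  have hrefl : ∀ {v}, Ok v → ∀ a', a' ∈ D i → Q a' = c → S.R (a' + b) → (S.Free x → S.Free (a' + b)) →
      act (reflect Q v) (a' + b) = act (reflect Q v) a' + b ∧ S.R (act (reflect Q v) a' + b) ∧
        (S.Free x → S.Free (act (reflect Q v) a' + b)) := by
    rintro v ⟨hv, hv0, hk⟩ a' ha' hQa' hR hfr
    have e : act (reflect Q v) (a' + b) = act (reflect Q v) a' + b := by
      rw [map_add, act_reflect v b, QuadraticMap.polar_comm _ v b, hbi v hv, mul_zero, zero_smul, sub_zero]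
    have hQ : Q (a' + b) = c := by
      rw [Classical.Orth.map_add', hQa', hQb, QuadraticMap.polar_comm, hbi a' ha', add_zero, add_zero]
    refine ⟨e, e ▸ ?_, fun hf => e ▸ (hfr hf).step hR hv hv0⟩
    rcases hk with hk | hk
    · exact hR.one hv hv0 (by rw [hQ]; exact hk)
    · exact hfr hk i v hv hv0
  have hTst : ∀ {v}, Ok v → ∀ w ∈ T, act (reflect Q v) w ∈ T := by
    intro v hv w hw
    induction hw using AddSubgroup.closure_induction with
    | mem w hw =>
      obtain ⟨a', ha', hQa', hR, hfr, rfl⟩ := hw
      obtain ⟨-, hR', hfr'⟩ := hrefl hv a' ha' hQa' hR hfr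
      exact AddSubgroup.subset_closure ⟨_, act_reflect_mem hv.1 ha', by rw [act_map, hQa'], hR', hfr',
        map_smul _ _ _⟩
    | zero => rw [map_zero]; exact T.zero_mem
    | add u v _ _ hu hv => rw [map_add]; exact T.add_mem hu hv
    | neg u _ hu => rw [map_neg]; exact T.neg_mem hu
  have haG : (-c⁻¹) • a ∈ T := AddSubgroup.subset_closure ⟨a, haD, hA, hab ▸ hx, fun h => hab ▸ h, rfl⟩
  have hokA : Ok a := ⟨haD, hA0, Or.inl (by rw [hA]; exact Sq.refl _)⟩
  have hη : ∀ {v}, Ok v → v ∉ Submodule.span F {a} → B a v * B a v / (Q a * Q v) ∈ mults T := by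
    intro v hv hva
    have h : B a v * B a v / (Q a * Q v) - 2 ∈ mults T := fun w hw => by
      rw [← pair_sum (S := S) haD hv.1 hA0 hv.2.1 hva (hTD w hw).1]
      exact T.add_mem (hTst hokA _ (hTst hv w hw)) (hTst hv _ (hTst hokA w hw))
    have := (mults T).add_mem h (show (2 : F) ∈ mults T by exact_mod_cast (natCast_mem (mults T) 2))
    rwa [sub_add_cancel] at this
  have hbetas : ∀ β ∈ betas Q (D i) a, (S.Free x → β / c ∈ mults T) ∧ (β / c) * (β / c) ∈ mults T := by
    intro β hβ
    obtain ⟨a', ha', hQa', rfl⟩ := mem_betas.1 hβ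
    by_cases hm : a' ∈ Submodule.span F {a}
    · obtain ⟨r, rfl⟩ := Submodule.mem_span_singleton.1 hm
      rw [Classical.Orth.map_smul'] at hQa'
      have hr : r * r = 1 := mul_right_cancel₀ hA0 (by rw [one_mul]; exact hQa')
      have hB : B a (r • a) / c = r * 2 := by
        rw [QuadraticMap.polar_smul_right, polar_self', hA, smul_eq_mul]
        have : c ≠ 0 := hx.1
        field_simp
      have h2' : (2 : F) ∈ mults T := by exact_mod_cast (natCast_mem (mults T) 2)
      have hr' : r ∈ mults T := by
        rcases mul_eq_zero.1 (show (r - 1) * (r + 1) = 0 by linear_combination hr) with h | h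
        · rw [sub_eq_zero.1 h]; exact (mults T).one_mem
        · rw [eq_neg_of_add_eq_zero_left h]; exact (mults T).neg_mem (mults T).one_mem
      rw [hB]
      exact ⟨fun _ => (mults T).mul_mem hr' h2',
        (mults T).mul_mem ((mults T).mul_mem hr' h2') ((mults T).mul_mem hr' h2')⟩
    refine ⟨fun hf => ?_, ?_⟩
    · have hne : a' ≠ a := fun e => hm (by rw [e]; exact Submodule.mem_span_singleton_self a)
      have hd := (S.plane i).sub_nonsing haD ha' hA0 hQa' hne
      have h := hη (v := a' - a) ⟨(D i).sub_mem ha' haD, hd, Or.inr hf⟩ (fun h => hm (by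
        have := Submodule.add_mem _ h (Submodule.mem_span_singleton_self a)
        rwa [sub_add_cancel] at this))
      have e : B a (a' - a) * B a (a' - a) / (Q a * Q (a' - a)) = 2 - B a a' / c := by
        have hd' : Q (a' - a) = 2 * c - B a a' := by
          rw [Classical.Orth.map_sub', hQa', hA, QuadraticMap.polar_comm _ a' a]; ring
        rw [hd'] at hd
        rw [QuadraticMap.polar_sub_right, polar_self', hd', hA]
        have : c ≠ 0 := hx.1
        field_simp
        ring
      rw [e] at h
      have := (mults T).sub_mem (show (2 : F) ∈ mults T by exact_mod_cast (natCast_mem (mults T) 2)) h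
      rwa [sub_sub_cancel] at this
    · have h := hη (v := a') ⟨ha', by rw [hQa']; exact hA0, Or.inl (by rw [hQa', hA]; exact Sq.refl _)⟩ hm
      rwa [hQa', hA, ← div_mul_div_comm] at h
  have hK : ∀ y, y ∈ mults T := by
    by_cases hf : S.Free x
    · refine subring_top _ ((betas Q (D i) a).image fun β => β / c) (fun y hy => ?_) ?_
      · obtain ⟨β, hβ, rfl⟩ := Finset.mem_image.1 hy
        exact (hbetas β hβ).1 hf
      rw [Finset.card_image_of_injective _ (fun u v h => (div_left_inj' hx.1).1 h)]
      have hq := Fintype.one_lt_card (α := F)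
      rcases eq_or_ne (2 : F) 0 with h2 | h2
      · obtain ⟨h1, h1'⟩ := (S.plane i).betas_two h2 haD hA0
        rcases S.big' i with h | h
        · have := h1' h; nlinarith
        · nlinarith
      · have := ((S.plane i).betas_odd h2 haD hA0).1
        have h3 := S.three
        nlinarith
    have h2 : (2 : F) ≠ 0 := fun h => hf (h2f h)
    by_cases h14 : 14 ≤ Fintype.card F
    · refine subring_top _ ((betas Q (D i) a).image fun β => (β / c) * (β / c)) (fun y hy => ?_) ?_
      · obtain ⟨β, hβ, rfl⟩ := Finset.mem_image.1 hy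
        exact (hbetas β hβ).2
      have hfib : (betas Q (D i) a).card ≤ 2 * ((betas Q (D i) a).image fun β => (β / c) * (β / c)).card := by
        refine Finset.card_le_mul_card_image _ 2 fun y hy => ?_
        obtain ⟨β, -, rfl⟩ := Finset.mem_image.1 hy
        refine (Finset.card_le_card (t := {β, -β}) fun z hz => ?_).trans Finset.card_le_two
        have e := (Finset.mem_filter.1 hz).2
        have hc0 : c ≠ 0 := hx.1
        field_simp at e
        rcases mul_eq_zero.1 (show (z - β) * (z + β) = 0 by linear_combination e) with h | h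
        · simp [sub_eq_zero.1 h]
        · simp [eq_neg_of_add_eq_zero_left h]
      have := ((S.plane i).betas_odd h2 haD hA0).1
      nlinarith
    intro y
    have hp : (Fintype.card F).Prime := by
      have hodd : Fintype.card F % 2 = 1 :=
        FiniteField.odd_card_of_char_ne_two (fun hh => h2 (by
          have : CharP F 2 := hh ▸ ringChar.charP F
          exact CharTwo.two_eq_zero))
      have h9' : Fintype.card F ≠ 9 := fun h => hf (h9 h)
      have h3 := S.three
      have hq := Fintype.one_lt_card (α := F)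
      generalize Fintype.card F = q at *
      interval_cases q <;> first | omega | norm_num
    obtain ⟨k, rfl⟩ := natCast_surj hp y
    exact natCast_mem (mults T) k
  have hall : ∀ w ∈ D i, w ∈ T := by
    intro w hw
    obtain ⟨p, hp, hp0, hap⟩ := (S.plane i).exists_orth haD
    obtain ⟨v, hv, hQv, hv1, hv2⟩ := (S.plane i).exists_off_lines (S.big' i) S.three hx.1 a p
    have hv0 : Q v ≠ 0 := by rw [hQv]; exact hx.1
    have hB : B v a ≠ 0 := fun h0 => hv2 (by
      obtain ⟨r, rfl⟩ := (S.plane i).orth_line haD ha0 hp hp0 hap hv (by rw [QuadraticMap.polar_comm]; exact h0)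
      exact Submodule.smul_mem _ r (Submodule.mem_span_singleton_self p))
    have hav : act (reflect Q v) a ∉ Submodule.span F {a} := fun h => hv1 (by
      rw [act_reflect] at h
      have := Submodule.sub_mem _ (Submodule.mem_span_singleton_self a) h
      rw [sub_sub_cancel, Submodule.smul_mem_iff _ (mul_ne_zero (inv_ne_zero hv0) hB)] at this
      exact this)
    have hvT := hTst (v := v) ⟨hv, hv0, Or.inl (by rw [hQv]; exact Sq.refl _)⟩ _ haG
    rw [map_smul] at hvT
    obtain ⟨α, β, rfl⟩ := (S.plane i).exists_comb haD (act_reflect_mem hv haD) ha0 hav hw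
    have hc' : (-c⁻¹ : F) ≠ 0 := neg_ne_zero.2 (inv_ne_zero hx.1)
    have e : ∀ (u : Vec) (r : F), r • u = (r / -c⁻¹) • (-c⁻¹) • u := fun u r => by
      rw [smul_smul, div_mul_cancel₀ _ hc']
    rw [e a, e (act (reflect Q v) a)]
    exact T.add_mem (hK _ _ haG) (hK _ _ hvT)
  exact fun w hw => ⟨hQb, hbi w hw, fun s => (hTD _ (hall _ ((D i).smul_mem s hw))).2⟩

end Setup

end Cfsg.Agent.Forms.Max.PlaneBlocks
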