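import Mathlib
import Cfsg.Agent.Lib.Forms.Max.PlaneBlocks.Dirs

/-!
# Members with components in two or three planes

Root elements from a plane to one singular vector give all members of the corresponding norms in two planes.
-/

set_option autoImplicit false
set_option linter.unusedSectionVars false

namespace Cfsg.Agent.Forms.Max.PlaneBlocks

open Matrix Cfsg.Agent.Forms.QuadStd Cfsg.Agent.Forms.Reflections Cfsg.Agent.Classical.Orth
open Cfsg.Agent.Forms.Max.OrthBlocks (Dir)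

variable {F : Type*} [Field F] [Fintype F] {ι : Type} [Fintype ι] [DecidableEq ι]
variable {Q : QuadraticForm F (ι → F)} {t : ℕ} {D : Fin t → Submodule F (ι → F)}

local notation "Vec" => (ι → F)
local notation "B" => QuadraticMap.polar Q
set_option quotPrecheck false in
local notation "Iso" => Cfsg.isometryGroup F ⇑Q

theorem exists_notin (s : Finset F) (h : s.card < Fintype.card F) : ∃ x : F, x ∉ s := by
  obtain ⟨x, -, hx⟩ := Finset.exists_mem_notMem_of_card_lt_card (show s.card < Finset.univ.card by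
    rwa [Finset.card_univ])
  exact ⟨x, hx⟩

theorem exists_other (hn : 5 ≤ t) (s : Finset (Fin t)) (h : s.card ≤ 4) : ∃ i, i ∉ s := by
  obtain ⟨x, -, hx⟩ := Finset.exists_mem_notMem_of_card_lt_card (show s.card < Finset.univ.card by
    rw [Finset.card_univ, Fintype.card_fin]; omega)
  exact ⟨x, hx⟩

namespace Setup

variable {S : Setup Q D}

include S in
/-- meeting a vector -/
theorem exists_meet_value {i : Fin t} {u : Vec} (hu : u ∈ D i) (hu0 : u ≠ 0) {d : F} (hd : d ≠ 0) :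
    ∃ v ∈ D i, Q v = d ∧ B u v ≠ 0 := by
  obtain ⟨p, hp, hp0, hap⟩ := (S.plane i).exists_orth hu
  obtain ⟨v, hv, hQv, hv1, -⟩ := (S.plane i).exists_off_lines (S.big' i) S.three hd p p
  refine ⟨v, hv, hQv, fun h => hv1 ?_⟩
  obtain ⟨r, rfl⟩ := (S.plane i).orth_line hu hu0 hp hp0 hap hv h
  exact Submodule.smul_mem _ r (Submodule.mem_span_singleton_self p)

/-- a plane is spanned by the vectors of one value -/
theorem dir_span {i : Fin t} {z : Vec} {d : F} (hd : d ≠ 0) (h : ∀ w ∈ D i, Q w = d → Dir S.M z w) :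
    ∀ w ∈ D i, Dir S.M z w := by
  intro w hw
  obtain ⟨u, hu, hQu⟩ := (S.plane i).exists_value hd
  obtain ⟨v, hv, hQv, hvu, -⟩ := (S.plane i).exists_off_lines (S.big' i) S.three hd u u
  have hu0 : u ≠ 0 := fun e => hd (by rw [← hQu, e, QuadraticMap.map_zero])
  obtain ⟨α, β, rfl⟩ := (S.plane i).exists_comb hu hv hu0 hvu hw
  exact ((h u hu hQu).smul α).add ((h v hv hQv).smul β)

/-- reflecting the singular vector in another plane -/
theorem variant {b v : Vec} {i l : Fin t} (hb : ∀ w ∈ D i, Dir S.M b w) (hli : l ≠ i) (hv : v ∈ D l)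
    (hv0 : Q v ≠ 0) : ∀ w ∈ D i, Dir S.M (act (reflect Q v) b) w := by
  intro w hw
  obtain ⟨v', hv', hQv'⟩ := (S.plane i).exists_value hv0
  have hv'0 : Q v' ≠ 0 := by rw [hQv']; exact hv0
  have hg : reflect Q v * reflect Q v' ∈ S.M :=
    S.mem _ (S.pair_omega hv0 hv'0 (by rw [hQv']; exact Sq.refl _))
      (perms_mul (S.perms_reflect hv) (S.perms_reflect hv'))
  have := (hb _ (act_reflect_mem (Q := Q) hv' hw)).map hg
  rwa [act_mul, act_mul, ← act_mul (reflect Q v') (reflect Q v'), reflect_sq, act_one,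
    act_reflect v' b, QuadraticMap.polar_comm _ v' b, (hb v' hv').2.1, mul_zero, zero_smul, sub_zero,
    act_reflect v w, S.orth hli hv hw, mul_zero, zero_smul, sub_zero] at this

variable (S) in
/-- all members with two components of suitable norms -/
def Fam : Prop :=
  ∀ p q, p ≠ q → ∀ w ∈ D p, Q w ≠ 0 → ∀ k : F, k ≠ 0 → k ≠ 1 → k ≠ 2 →
    ∀ v ∈ D q, Q v = Q w * (k * (2 - k)) → S.R ((1 - k) • w - v)

theorem fam_one {b : Vec} {i l : Fin t} (hil : i ≠ l) (hb : ∀ w ∈ D i, Dir S.M b w) (hl : S.pr l b ≠ 0) :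
    ∀ w ∈ D i, Q w ≠ 0 → ∀ k : F, k ≠ 0 → k ≠ 2 → ∀ v ∈ D l, Q v = Q w * (k * (2 - k)) →
      S.R ((1 - k) • w - v) := by
  intro w hw hd k hk0 hk2 v hv hQv
  have hv0 : Q v ≠ 0 := by rw [hQv]; exact mul_ne_zero hd (mul_ne_zero hk0 (sub_ne_zero.2 hk2.symm))
  have hvne : v ≠ 0 := fun e => hv0 (by rw [e, QuadraticMap.map_zero])
  obtain ⟨b₁, hb₁, hβ⟩ : ∃ b₁, (∀ w ∈ D i, Dir S.M b₁ w) ∧ B v b₁ ≠ 0 := by
    by_cases h : B v b = 0
    swap
    · exact ⟨b, hb, h⟩
    have hvp : B v (S.pr l b) = 0 := by rw [S.pair_pr l b hv, h]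
    obtain ⟨p, hp, hp0, hap⟩ := (S.plane l).exists_orth (S.pr_mem l b)
    obtain ⟨u, hu, hQu, hu1, hu2⟩ := (S.plane l).exists_off_lines (S.big' l) S.three hd (S.pr l b) p
    have hu0 : Q u ≠ 0 := by rw [hQu]; exact hd
    refine ⟨_, variant hb hil.symm hu hu0, ?_⟩
    have h1 : B v u ≠ 0 := fun h0 => hu1 (by
      obtain ⟨r, rfl⟩ := (S.plane l).orth_line hv hvne (S.pr_mem l b) hl hvp hu h0
      exact Submodule.smul_mem _ r (Submodule.mem_span_singleton_self _))
    have h2 : B u b ≠ 0 := fun h0 => hu2 (by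
      rw [← S.pair_pr l b hu, QuadraticMap.polar_comm] at h0
      obtain ⟨r, rfl⟩ := (S.plane l).orth_line (S.pr_mem l b) hl hp hp0 hap hu h0
      exact Submodule.smul_mem _ r (Submodule.mem_span_singleton_self _))
    rw [act_reflect, QuadraticMap.polar_sub_right, QuadraticMap.polar_smul_right, h, zero_sub, neg_ne_zero,
      smul_eq_mul]
    exact mul_ne_zero (mul_ne_zero (inv_ne_zero hu0) h2) h1
  have hb₂ := variant hb₁ hil.symm hv hv0
  set β := B v b₁ with hβdef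
  set d := Q w with hddef
  have hw' := triv (S := S) hw hd
  have hx₀ := Dir_shift hw' (hb₁ w hw) (d * (2 - k) / β)
  have hx₁ := Dir_shift hw' (hb₂ w hw) (k * (d * (2 - k)) / β)
  have hQ : ∀ {u : Vec}, Dir S.M u w → ∀ μ : F, Q (w + μ • u) = d := fun hu μ => by
    rw [Classical.Orth.map_add', Classical.Orth.map_smul', hu.1, QuadraticMap.polar_smul_right,
      QuadraticMap.polar_comm _ w, hu.2.1, smul_zero, mul_zero, add_zero, add_zero]
  have := hx₀.refl hx₁ (by rw [hQ (hb₂ w hw), hQ (hb₁ w hw)])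
  rw [act_reflect (w + (d * (2 - k) / β) • b₁), hQ (hb₁ w hw), act_reflect v b₁] at this
  convert this using 1
  simp only [QuadraticMap.polar_add_left, QuadraticMap.polar_add_right, QuadraticMap.polar_smul_left,
    QuadraticMap.polar_smul_right, QuadraticMap.polar_sub_right, polar_self', polar_self_zero (hb₁ w hw).1,
    QuadraticMap.polar_comm _ b₁ v, ← hβdef, ← hddef, (hb₁ w hw).2.1, QuadraticMap.polar_comm _ w b₁,
    S.orth hil hw hv, hQv, smul_eq_mul]
  have hk' : (2 : F) - k ≠ 0 := sub_ne_zero.2 hk2.symm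
  match_scalars <;> field_simp <;> ring

theorem exists_exact_nine (h : S.HasExact False) : ∃ (x : ι → F) (i : Fin t), S.R x ∧ x ∉ D i ∧
    Q (S.pr i x) = Q x ∧ (Fintype.card F = 9 → S.Free x) := by
  obtain ⟨x, i, hx, hxi, hA, -⟩ := h
  by_cases hf : Fintype.card F = 9 → S.Free x
  · exact ⟨x, i, hx, hxi, hA, hf⟩
  rw [Classical.not_imp] at hf
  obtain ⟨y, hy, hfy, hny⟩ := free_member_nine hf.1 hx hA hf.2
  obtain ⟨x', i', hx', hxi', hA', hf'⟩ := exact_of_member (fr := True) hy hny fun _ => hfy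
  exact ⟨x', i', hx', hxi', hA', fun _ => hf' trivial⟩

theorem exists_fam (h : S.HasExact False) : S.Fam := by
  obtain ⟨x, i, hx, hxi, hA, h9⟩ := exists_exact_nine h
  have hdir := dir_plane hx hA (fun h => free_two h hx) h9
  have hb0 : x - S.pr i x ≠ 0 := fun e => hxi (by rw [sub_eq_zero.1 e]; exact S.pr_mem i x)
  have hbi : S.pr i (x - S.pr i x) = 0 := by rw [map_sub, S.pr_self (S.pr_mem i x), sub_self]
  obtain ⟨l, hl⟩ : ∃ l, S.pr l (x - S.pr i x) ≠ 0 := by
    by_contra hc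
    push Not at hc
    exact hb0 (S.ext_pr fun l => by rw [hc l, map_zero])
  have hil : i ≠ l := fun e => hl (e ▸ hbi)
  intro p q hpq w hw hw0 k hk0 _ hk2 v hv hQv
  obtain ⟨σ, h1, h2, hM⟩ := S.exists_carry hil hpq
  have e : ∀ y, act (S.perm σ) (act (S.perm σ⁻¹) y) = y := fun y => by
    rw [← act_mul, ← S.perm_mul, mul_inv_cancel, S.act_perm, S.permLin_one]
  have hw' : act (S.perm σ⁻¹) w ∈ D i := by
    have := S.perm_mem_plane σ⁻¹ hw
    rwa [show σ⁻¹ p = i by rw [← h1, Equiv.Perm.coe_inv, Equiv.symm_apply_apply]] at this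
  have hv' : act (S.perm σ⁻¹) v ∈ D l := by
    have := S.perm_mem_plane σ⁻¹ hv
    rwa [show σ⁻¹ q = l by rw [← h2, Equiv.Perm.coe_inv, Equiv.symm_apply_apply]] at this
  have := (fam_one hil hdir hl _ hw' (by rwa [act_map]) k hk0 hk2 _ hv' (by rw [act_map, act_map]; exact hQv)).map
    hM ⟨σ, fun _ _ hy => S.perm_mem_plane σ hy⟩
  rwa [map_sub, map_smul, e, e] at this

variable (S) in
/-- all members with three components over the field with two elements -/
def Tri : Prop :=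
  ∀ p q r, p ≠ q → p ≠ r → q ≠ r → ∀ a ∈ D p, ∀ b ∈ D q, ∀ c ∈ D r, a ≠ 0 → b ≠ 0 → c ≠ 0 → S.R (a + b + c)

theorem exists_tri (hq : Fintype.card F = 2) (hani : ∀ i, Aniso Q (D i)) (h : S.HasExact False) : S.Tri := by
  classical
  have hone : ∀ c : F, c ≠ 0 → c = 1 := fun c hc => by
    have h := FiniteField.pow_card_sub_one_eq_one c hc
    rwa [hq, pow_one] at h
  have h2 : (2 : F) = 0 := by
    by_contra h
    have := hone 2 h
    exact one_ne_zero (α := F) (by linear_combination this)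
  have hval : ∀ {l : Fin t} {a : Vec}, a ∈ D l → a ≠ 0 → Q a = 1 := fun ha h0 =>
    hone _ fun e => h0 (hani _ _ ha e)
  obtain ⟨x, i, hx, hxi, hA, -⟩ := h
  have hf := free_two h2 hx
  have hQx : Q x = 1 := hone _ hx.1
  have hi0 : S.pr i x ≠ 0 := fun e => hx.1 (by rw [← hA, e, QuadraticMap.map_zero])
  obtain ⟨p₀, hp₀i, hp₀⟩ : ∃ p, p ≠ i ∧ S.pr p x ≠ 0 := by
    by_contra hc
    push Not at hc
    exact hxi (S.mem_of_pr hc)
  obtain ⟨q₀, hq₀i, hq₀p, hq₀⟩ : ∃ q, q ≠ i ∧ q ≠ p₀ ∧ S.pr q x ≠ 0 := by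
    by_contra hc
    push Not at hc
    have := S.Q_sum x
    rw [← Finset.sum_subset (Finset.subset_univ ({i, p₀} : Finset (Fin t))) (fun m _ hm => by
      simp only [Finset.mem_insert, Finset.mem_singleton, not_or] at hm
      rw [hc m hm.1 hm.2, QuadraticMap.map_zero]), Finset.sum_pair hp₀i.symm, hA,
      hval (S.pr_mem p₀ x) hp₀] at this
    exact one_ne_zero (α := F) (by linear_combination -this)
  let v : Fin 3 → Fin t := ![i, p₀, q₀]
  have hv : Function.Injective v := fun m n e => by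
    fin_cases m <;> fin_cases n <;>
      simp [v, hp₀i, hp₀i.symm, hq₀i, hq₀i.symm, hq₀p, hq₀p.symm] at e ⊢
  have hvne : ∀ m, S.pr (v m) x ≠ 0 := fun m => by
    fin_cases m <;> first | exact hi0 | exact hp₀ | exact hq₀
  have hg : ∀ m : Fin 3, ∃ γ a, S.Chg x (v m) γ a ∧ a ≠ S.pr (v m) x ∧ B (S.pr (v m) x) a = 1 := fun m => by
    have hxm := S.pr_mem (v m) x
    obtain ⟨a, ha, hQa, ham⟩ := exists_meet_value (S := S) hxm (hvne m) one_ne_zero
    have hne : a ≠ S.pr (v m) x := fun e => ham (by rw [e, polar_self', h2, zero_mul])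
    obtain ⟨γ, hγ⟩ := chg_of (S := S) ha (hQa.trans (hval hxm (hvne m)).symm)
      (Or.inr fun e => hne (sub_eq_zero.1 (hani _ _ (Submodule.sub_mem _ ha hxm) e)))
    exact ⟨γ, a, hγ, hne, hone _ ham⟩
  choose γ g hγ hgne hgB using hg
  obtain ⟨a, κ, ha, hag, -, hout, -, hsum⟩ := assemble x v hv g γ hγ
  simp only [hgB, h2, zero_mul, sub_zero, zero_add, Finset.sum_const, Finset.card_univ, Fintype.card_fin,
    nsmul_eq_mul, Nat.cast_ofNat, mul_one] at hsum
  obtain ⟨y, hy, -, -, hpy⟩ := move hx a κ ha (Or.inl hf) (k := 1) (by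
    rw [hsum, hQx]; linear_combination h2)
  have hy' : ∀ m, S.pr (v m) y ≠ 0 := fun m => by rw [hpy, hag, one_smul]; exact sub_ne_zero.2 (hgne m)
  have hy0 : ∀ l, (∀ m, v m ≠ l) → S.pr l y = 0 := fun l hl => by rw [hpy, hout l hl, one_smul, sub_self]
  intro p q r hpq hpr hqr a hap b hbq c hcr ha0 hb0 hc0
  obtain ⟨σ, hσ1, hσ2, hσM⟩ := S.exists_carry hp₀i.symm hpq
  obtain ⟨τ, hτ1, hτ2, hτ3, hτM⟩ : ∃ τ : Equiv.Perm (Fin t), τ p = p ∧ τ q = q ∧ τ (σ q₀) = r ∧
      S.perm τ ∈ S.M := by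
    have e1 : σ q₀ ≠ p := fun e => hq₀i (σ.injective (e.trans hσ1.symm))
    have e2 : σ q₀ ≠ q := fun e => hq₀p (σ.injective (e.trans hσ2.symm))
    rcases eq_or_ne (σ q₀) r with e | e
    · refine ⟨1, rfl, rfl, e, ?_⟩
      convert S.M.one_mem
      exact map_one S.permHom
    obtain ⟨s, hs⟩ := exists_other S.five {p, q, σ q₀, r} Finset.card_le_four
    simp only [Finset.mem_insert, Finset.mem_singleton, not_or] at hs
    obtain ⟨τ, t1, -, -, tfix, tM⟩ := S.exists_three_cycle e (Ne.symm hs.2.2.1) (Ne.symm hs.2.2.2)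
    exact ⟨τ, tfix p e1.symm hpr (Ne.symm hs.1), tfix q e2.symm hqr (Ne.symm hs.2.1), t1, tM⟩
  have hz := (hy.map hσM ⟨σ, fun _ _ hu => S.perm_mem_plane σ hu⟩).map hτM
    ⟨τ, fun _ _ hu => S.perm_mem_plane τ hu⟩
  set z := act (S.perm τ) (act (S.perm σ) y) with hzdef
  have hzpr : ∀ l, S.pr l z = S.trans (σ.symm (τ.symm l)) l y := fun l => by
    rw [hzdef, ← act_mul, ← S.perm_mul, S.pr_perm]; rfl
  have hzne : ∀ l, S.pr (σ.symm (τ.symm l)) y ≠ 0 → S.pr l z ≠ 0 := fun l hne e => hne (by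
    refine hani _ _ (S.pr_mem _ _) ?_
    rw [← S.trans_map _ l, ← hzpr, e, QuadraticMap.map_zero])
  have ep : σ.symm (τ.symm p) = i := by rw [← hτ1, τ.symm_apply_apply, ← hσ1, σ.symm_apply_apply]
  have eq' : σ.symm (τ.symm q) = p₀ := by rw [← hτ2, τ.symm_apply_apply, ← hσ2, σ.symm_apply_apply]
  have er : σ.symm (τ.symm r) = q₀ := by rw [← hτ3, τ.symm_apply_apply, σ.symm_apply_apply]
  have hz0 : ∀ l, l ≠ p → l ≠ q → l ≠ r → S.pr l z = 0 := fun l l1 l2 l3 => hani _ _ (S.pr_mem _ _) (by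
    rw [hzpr, S.trans_map, hy0 _ fun m e => ?_, QuadraticMap.map_zero]
    have : τ (σ (v m)) = l := by rw [e, σ.apply_symm_apply, τ.apply_symm_apply]
    fin_cases m
    · exact l1 (by rw [← this]; show τ (σ i) = p; rw [hσ1, hτ1])
    · exact l2 (by rw [← this]; show τ (σ p₀) = q; rw [hσ2, hτ2])
    · exact l3 (by rw [← this]; show τ (σ q₀) = r; rw [hτ3]))
  have hpra : S.pr p (a + b + c) = a := by
    rw [map_add, map_add, S.pr_self hap, S.pr_other hpq hbq, S.pr_other hpr hcr, add_zero, add_zero]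
  have hprb : S.pr q (a + b + c) = b := by
    rw [map_add, map_add, S.pr_other hpq.symm hap, S.pr_self hbq, S.pr_other hqr hcr, zero_add, add_zero]
  have hprc : S.pr r (a + b + c) = c := by
    rw [map_add, map_add, S.pr_other hpr.symm hap, S.pr_other hqr.symm hbq, S.pr_self hcr, zero_add, zero_add]
  have hchg : ∀ l, ∃ κ, S.Chg z l κ (S.pr l (a + b + c)) := fun l => by
    have hkey : ∀ {u : Vec}, u ∈ D l → u ≠ 0 → S.pr l z ≠ 0 → ∃ κ, S.Chg z l κ u := fun {u} hu hu0 hzl => by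
      refine chg_of hu ((hval hu hu0).trans (hval (S.pr_mem _ _) hzl).symm) ?_
      by_cases e : u = S.pr l z
      · exact Or.inl e
      · exact Or.inr fun h0 => e (sub_eq_zero.1 (hani _ _ (Submodule.sub_mem _ hu (S.pr_mem _ _)) h0))
    rcases eq_or_ne l p with rfl | l1
    · rw [hpra]; exact hkey hap ha0 (hzne _ (by rw [ep]; exact hy' 0))
    rcases eq_or_ne l q with rfl | l2
    · rw [hprb]; exact hkey hbq hb0 (hzne _ (by rw [eq']; exact hy' 1))
    rcases eq_or_ne l r with rfl | l3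
    · rw [hprc]; exact hkey hcr hc0 (hzne _ (by rw [er]; exact hy' 2))
    refine ⟨false, Or.inl ⟨rfl, ?_⟩⟩
    rw [hz0 l l1 l2 l3, map_add, map_add, S.pr_other l1 hap, S.pr_other l2 hbq, S.pr_other l3 hcr,
      add_zero, add_zero]
  choose κ' hκ' using hchg
  obtain ⟨x', hx', -, hpr'⟩ := change hz _ κ' hκ' (Or.inl (free_two h2 hz))
  rwa [S.ext_pr hpr'] at hx'

end Setup

end Cfsg.Agent.Forms.Max.PlaneBlocks
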