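import Mathlib
import Cfsg.Agent.Lib.Forms.Max.PlaneBlocks.Family

/-!
# Centres of root elements

Singular vectors in one plane, or in two planes when the planes are anisotropic, become centres of root elements.
-/

set_option autoImplicit false
set_option linter.unusedSectionVars false

namespace Cfsg.Agent.Forms.Max.PlaneBlocks

open Matrix Cfsg.Agent.Forms.QuadStd Cfsg.Agent.Forms.Reflections Cfsg.Agent.Classical.Orth
open Cfsg.Agent.Forms.Max.OrthPair (InE inE_add inE_neg)
open Cfsg.Agent.Forms.Max.OrthBlocks (Dir)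

variable {F : Type*} [Field F] [Fintype F] {ι : Type} [Fintype ι] [DecidableEq ι]
variable {Q : QuadraticForm F (ι → F)} {t : ℕ} {D : Fin t → Submodule F (ι → F)}

local notation "Vec" => (ι → F)
local notation "B" => QuadraticMap.polar Q
set_option quotPrecheck false in
local notation "Iso" => Cfsg.isometryGroup F ⇑Q

/-- an additive subgroup of more than a third of an odd group is everything -/
theorem subgroup_top (hodd : Fintype.card F % 2 = 1) (L : AddSubgroup F) (s : Finset F) (hs : ∀ x ∈ s, x ∈ L)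
    (h : Fintype.card F < 3 * s.card) : L = ⊤ := by
  classical
  obtain ⟨m, hm⟩ := AddSubgroup.card_addSubgroup_dvd_card L
  rw [Nat.card_eq_fintype_card, Nat.card_eq_fintype_card] at hm
  have hle : s.card ≤ Fintype.card L := by
    rw [← Fintype.card_coe s]
    exact Fintype.card_le_of_injective (fun x => ⟨x.1, hs x.1 x.2⟩) fun x y e =>
      Subtype.ext (congrArg (fun z : L => (z : F)) e)
  refine AddSubgroup.eq_top_of_card_eq L ?_
  rw [Nat.card_eq_fintype_card, Nat.card_eq_fintype_card]
  rcases m with _ | _ | _ | m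
  · omega
  · omega
  · omega
  · nlinarith [Nat.zero_le (Fintype.card L * m)]

namespace Setup

variable {S : Setup Q D}

/-- the orthogonal of a vector with two components -/
theorem two_decomp {p q : Fin t} (hpq : p ≠ q) {z : Vec} (hz : Q z = 0)
    (hout : ∀ m, m ≠ p → m ≠ q → ∀ w ∈ D m, Dir S.M z w)
    (hin : ∀ x ∈ D p, ∀ y ∈ D q, B z (x + y) = 0 → Dir S.M z (x + y)) : z ∈ Orth.centres S.M := by
  refine centre_of hz fun W hW => ?_
  set r := W - S.pr p W - S.pr q W with hr
  have hrp : S.pr p r = 0 := by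
    rw [hr, map_sub, map_sub, S.pr_self (S.pr_mem p W), S.pr_other hpq (S.pr_mem q W), sub_self, sub_zero]
  have hrq : S.pr q r = 0 := by
    rw [hr, map_sub, map_sub, S.pr_self (S.pr_mem q W), S.pr_other hpq.symm (S.pr_mem p W), sub_zero, sub_self]
  have h0 : Dir S.M z 0 := by rw [← zero_smul F z]; exact dir_self hz 0
  have hr' : Dir S.M z r := by
    rw [← S.sum_pr r]
    refine Dir_sum hz _ fun m => ?_
    rcases eq_or_ne m p with rfl | hmp
    · rw [hrp]; exact h0
    rcases eq_or_ne m q with rfl | hmq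
    · rw [hrq]; exact h0
    · exact hout m hmp hmq _ (S.pr_mem m r)
  have e : W = (S.pr p W + S.pr q W) + r := by rw [hr]; abel
  rw [e]
  refine (hin _ (S.pr_mem p W) _ (S.pr_mem q W) ?_).add hr'
  have h := hW
  rw [e, QuadraticMap.polar_add_right, hr'.2.1, add_zero] at h
  exact h

/-- singular vectors of a plane -/
theorem centre_sing (hF : S.Fam) (h7 : 7 ≤ Fintype.card F) {q : Fin t} {e : Vec} (he : e ∈ D q) (he0 : e ≠ 0)
    (hQe : Q e = 0) : e ∈ Orth.centres S.M := by
  classical
  have hRsum : ∀ {p : Fin t}, p ≠ q → ∀ w ∈ D p, Q w ≠ 0 → ∀ e ∈ D q, e ≠ 0 → Q e = 0 → S.R (w + e) := by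
    intro p hpq w hw hd e he he0 hQe
    obtain ⟨ρ, hρ⟩ := exists_notin ({0, 1, -1} : Finset F) (lt_of_le_of_lt Finset.card_le_three (by omega))
    simp only [Finset.mem_insert, Finset.mem_singleton, not_or] at hρ
    obtain ⟨hρ0, hρ1, hρ2⟩ := hρ
    obtain ⟨k, hk⟩ := exists_notin ({0, 1 / ρ, 2 / ρ, 2 * ρ} : Finset F)
      (lt_of_le_of_lt Finset.card_le_four (by omega))
    simp only [Finset.mem_insert, Finset.mem_singleton, not_or] at hk
    obtain ⟨hk0, hk1, hk2, hk3⟩ := hk
    obtain ⟨f, hf, hp⟩ := (S.plane q).pair_of_sing he he0 hQe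
    set d := Q w with hd'
    have hs : k - 2 * ρ ≠ 0 := sub_ne_zero.2 hk3
    have hρ' : (1 : F) - ρ * ρ ≠ 0 := fun h => by
      rcases mul_eq_zero.1 (show (ρ - 1) * (ρ + 1) = 0 by linear_combination -h) with h' | h'
      · exact hρ1 (sub_eq_zero.1 h')
      · exact hρ2 (eq_neg_of_add_eq_zero_left h')
    set v := (d * (k - 2 * ρ)) • f + ((1 - ρ * ρ) / (k - 2 * ρ)) • e with hv
    have hvD : v ∈ D q := Submodule.add_mem _ (Submodule.smul_mem _ _ hf) (Submodule.smul_mem _ _ he)
    have hfe : B f e = 1 := hp.hvu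
    have hef : B e f = 1 := hp.huv
    have hQv : Q v = d * (1 - ρ * ρ) := by
      rw [hv, Q_comb, hp.hv, hQe, hfe]
      field_simp
      ring
    have hev : B e v = d * (k - 2 * ρ) := by
      rw [hv, B_comb, hef, polar_self_zero hQe]; ring
    have hx0 := hF p q hpq w hw hd (1 - ρ) (sub_ne_zero.2 (Ne.symm hρ1))
      (fun h => hρ0 (by linear_combination -h)) (fun h => hρ2 (by linear_combination -h)) (-v)
      (Submodule.neg_mem _ hvD) (by rw [QuadraticMap.map_neg, hQv]; ring)
    rw [sub_neg_eq_add, sub_sub_cancel] at hx0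
    have hx1 := hF p q hpq w hw hd (k * ρ) (mul_ne_zero hk0 hρ0) (fun h => hk1 (by field_simp; exact h))
      (fun h => hk2 (by field_simp; exact h)) (k • v - e) (Submodule.sub_mem _ (Submodule.smul_mem _ _ hvD) he)
      (by
        rw [Classical.Orth.map_sub', Classical.Orth.map_smul', hQv, hQe, QuadraticMap.polar_smul_left,
          QuadraticMap.polar_comm _ v e, hev, smul_eq_mul]
        ring)
    have hQ0 : Q (ρ • w + v) = d := by
      rw [Classical.Orth.map_add', Classical.Orth.map_smul', hQv, QuadraticMap.polar_smul_left,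
        S.orth hpq hw hvD, smul_zero, add_zero]
      ring
    have hQ1 : Q ((1 - k * ρ) • w - (k • v - e)) = d := by
      rw [Classical.Orth.map_sub', Classical.Orth.map_smul', Classical.Orth.map_sub', Classical.Orth.map_smul',
        hQv, hQe, QuadraticMap.polar_smul_left, QuadraticMap.polar_smul_left, QuadraticMap.polar_comm _ v e, hev,
        S.orth hpq hw (Submodule.sub_mem _ (Submodule.smul_mem _ _ hvD) he)]
      simp only [smul_eq_mul]
      ring
    have := hx0.refl hx1 (hQ1.trans hQ0.symm)
    rw [act_reflect, hQ0] at this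
    convert this using 1
    simp only [QuadraticMap.polar_add_left, QuadraticMap.polar_smul_left, QuadraticMap.polar_sub_right,
      QuadraticMap.polar_smul_right, polar_self', hQv, S.orth hpq hw hvD, S.orth hpq.symm hvD hw,
      S.orth hpq hw he, QuadraticMap.polar_comm _ v e, hev, smul_eq_mul, ← hd']
    match_scalars <;> field_simp <;> ring
  refine centre_of hQe fun W hW => ?_
  rw [← S.sum_pr W]
  refine Dir_sum hQe _ fun p => ?_
  rcases eq_or_ne p q with rfl | hpq
  · have h : B e (S.pr p W) = 0 := by rw [S.pair_pr p W he, hW]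
    obtain ⟨r, hr⟩ := (S.plane p).orth_line he he0 he he0 (polar_self_zero hQe) (S.pr_mem p W) h
    rw [hr]
    exact dir_self hQe r
  refine dir_span one_ne_zero (fun w hw hQw => ?_) _ (S.pr_mem p W)
  have hw0 : Q w ≠ 0 := by rw [hQw]; exact one_ne_zero
  refine dir_of (triv hw hw0) hQe (S.orth hpq.symm he hw) fun μ hμ => ?_
  exact hRsum hpq w hw hw0 _ (Submodule.smul_mem _ _ he) (smul_ne_zero hμ he0)
    (by rw [Classical.Orth.map_smul', hQe, mul_zero])

/-- a second plane direction from an orthogonal vector -/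
theorem dir_odd (hF : S.Fam) (h2 : (2 : F) ≠ 0) {p q : Fin t} (hpq : p ≠ q) {a v : Vec} (ha : a ∈ D p)
    (hv : v ∈ D q) (hA : Q a ≠ 0) (hQv : Q v = -Q a) (hani : Aniso Q (D p)) {a' : Vec} (ha' : a' ∈ D p)
    (ha'0 : a' ≠ 0) (haa' : B a a' = 0) : Dir S.M (a + v) a' := by
  classical
  have hz : Q (a + v) = 0 := by
    rw [Classical.Orth.map_add', hQv, S.orth hpq ha hv, add_zero, add_neg_cancel]
  have hza' : B (a + v) a' = 0 := by
    rw [QuadraticMap.polar_add_left, haa', S.orth hpq.symm hv ha', add_zero]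
  have hD : Q a' ≠ 0 := (S.plane p).orth_nonsing ha hA ha' ha'0 haa'
  obtain ⟨N, hN⟩ : ∃ N, N = Q a / Q a' := ⟨_, rfl⟩
  have hN0 : N ≠ 0 := by rw [hN]; exact div_ne_zero hA hD
  have hns : ∀ s : F, 1 + N * s * s ≠ 0 := fun s h => ha'0 (by
    have h0 : a' + s • a = 0 := hani _ (Submodule.add_mem _ ha' (Submodule.smul_mem _ _ ha)) (by
      rw [Classical.Orth.map_add', Classical.Orth.map_smul', QuadraticMap.polar_smul_right,
        QuadraticMap.polar_comm _ a' a, haa', smul_zero, add_zero]
      rw [hN] at h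
      field_simp at h
      linear_combination h)
    have := congrArg (fun x => B a x) h0
    simp only [QuadraticMap.polar_add_right, QuadraticMap.polar_smul_right, haa', polar_self', smul_eq_mul,
      QuadraticMap.polar_zero_right, zero_add] at this
    rw [show s = 0 by simpa [h2, hA] using this, zero_smul, add_zero] at h0
    exact h0)
  let L : AddSubgroup F :=
    { carrier := {l | InE S.M (a + v) (l • a')}
      add_mem' := fun {x y} hx hy => by
        rw [Set.mem_setOf_eq, add_smul]
        exact inE_add hx hy (by rw [QuadraticMap.polar_smul_right, hza', smul_zero])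
          (by rw [QuadraticMap.polar_smul_right, hza', smul_zero])
      zero_mem' := fun hu h0 => by
        rw [eich_congr (zero_smul F a') hu, eich_zero_right]
        exact one_mem _
      neg_mem' := fun {x} hx => by rw [Set.mem_setOf_eq, neg_smul]; exact inE_neg hx }
  let dom : Finset F := Finset.univ.filter fun s => 1 - N * s * s ≠ 0
  let lam : F → F := fun s => -((2 * s / (1 - N * s * s)) / Q a')
  have hL : ∀ s ∈ dom, lam s ∈ L := by
    intro s hs
    have hs1 : 1 - N * s * s ≠ 0 := (Finset.mem_filter.1 hs).2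
    have hs1' : 1 - N * s ^ 2 ≠ 0 := by rwa [pow_two, ← mul_assoc]
    obtain ⟨lm, hlm⟩ : ∃ lm, lm = 2 * s / (1 - N * s * s) := ⟨_, rfl⟩
    show -((2 * s / (1 - N * s * s)) / Q a') ∈ L
    rw [← hlm]
    refine (triv ha' hD).root ?_ hz hza'
    rcases eq_or_ne s 0 with rfl | hs0
    · simp only [hlm, mul_zero, zero_div, zero_smul, add_zero]
      exact triv ha' hD
    set ρ := (1 + N * s * s) / (1 - N * s * s) with hρ
    have hρ0 : ρ ≠ 0 := div_ne_zero (hns s) hs1
    have hkey : 1 + N * (lm * lm) = ρ * ρ := by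
      have e1 : lm * (1 - N * s * s) = 2 * s := by rw [hlm, div_mul_cancel₀ _ hs1]
      have e2 : ρ * (1 - N * s * s) = 1 + N * s * s := by rw [hρ, div_mul_cancel₀ _ hs1]
      refine mul_right_cancel₀ (mul_ne_zero hs1 hs1) ?_
      linear_combination N * (lm * (1 - N * s * s) + 2 * s) * e1
        - (ρ * (1 - N * s * s) + (1 + N * s * s)) * e2
    have hQx : Q (a' + lm • a) = ρ * ρ * Q a' := by
      rw [Classical.Orth.map_add', Classical.Orth.map_smul', QuadraticMap.polar_smul_right,
        QuadraticMap.polar_comm _ a' a, haa', smul_zero, add_zero,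
        show Q a = N * Q a' by rw [hN, div_mul_cancel₀ _ hD]]
      linear_combination Q a' * hkey
    have hQw : Q (ρ⁻¹ • (a' + lm • a)) = Q a' := by
      rw [Classical.Orth.map_smul', hQx]; field_simp
    have key := hF p q hpq (ρ⁻¹ • (a' + lm • a))
      (Submodule.smul_mem _ _ (Submodule.add_mem _ ha' (Submodule.smul_mem _ _ ha))) (by rw [hQw]; exact hD)
      (1 - ρ) (fun h => ?_) (fun h => hρ0 (by linear_combination -h)) (fun h => ?_) (-(lm • v))
      (Submodule.neg_mem _ (Submodule.smul_mem _ _ hv)) ?_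
    · rw [sub_neg_eq_add, sub_sub_cancel, smul_inv_smul₀ hρ0] at key
      rwa [smul_add, ← add_assoc]
    · rw [hρ] at h
      field_simp at h
      exact mul_ne_zero h2 (mul_ne_zero hN0 (mul_ne_zero hs0 hs0)) (by linear_combination -h)
    · rw [hρ] at h
      field_simp at h
      exact h2 (by linear_combination -h)
    · rw [QuadraticMap.map_neg, Classical.Orth.map_smul', hQv, hQw,
        show Q a = N * Q a' by rw [hN, div_mul_cancel₀ _ hD]]
      linear_combination -Q a' * hkey
  have hinj : dom.card ≤ 2 * (dom.image lam).card := by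
    refine Finset.card_le_mul_card_image _ 2 fun l hl => ?_
    obtain ⟨s, hs, rfl⟩ := Finset.mem_image.1 hl
    refine (Finset.card_le_card (t := {s, -1 / (N * s)}) fun s' hs' => ?_).trans Finset.card_le_two
    obtain ⟨hs'1, e⟩ := Finset.mem_filter.1 hs'
    have h1 : 1 - N * s * s ≠ 0 := (Finset.mem_filter.1 hs).2
    have h1' : 1 - N * s' * s' ≠ 0 := (Finset.mem_filter.1 hs'1).2
    simp only [lam, neg_inj, div_left_inj' hD] at e
    rw [div_eq_div_iff h1' h1] at e
    rcases mul_eq_zero.1 (show (s' - s) * (1 + N * s * s') = 0 from mul_left_cancel₀ h2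
      (by linear_combination e)) with h | h
    · simp [sub_eq_zero.1 h]
    · have hs0 : s ≠ 0 := fun e0 => one_ne_zero (α := F) (by rw [e0] at h; linear_combination h)
      simp only [Finset.mem_insert, Finset.mem_singleton]
      right
      field_simp
      linear_combination h
  have hdom : Fintype.card F ≤ dom.card + 2 := by
    have h : (Finset.univ.filter fun s : F => ¬ (1 - N * s * s ≠ 0)).card ≤ 2 := by
      simp only [not_not]
      by_cases hex : ∃ s₀, 1 - N * s₀ * s₀ = 0
      · obtain ⟨s₀, hs₀⟩ := hex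
        refine (Finset.card_le_card (t := {s₀, -s₀}) fun s hs => ?_).trans Finset.card_le_two
        have hs' := (Finset.mem_filter.1 hs).2
        rcases mul_eq_zero.1 (show (s - s₀) * (s + s₀) = 0 from mul_left_cancel₀ hN0
          (by linear_combination hs₀ - hs')) with h | h
        · simp [sub_eq_zero.1 h]
        · simp [eq_neg_of_add_eq_zero_left h]
      · rw [Finset.filter_false_of_mem (fun s _ hs => hex ⟨s, hs⟩)]
        simp
    have := Finset.card_filter_add_card_filter_not (s := (Finset.univ : Finset F)) (fun s => 1 - N * s * s ≠ 0)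
    rw [Finset.card_univ] at this
    simp only [dom]
    omega
  have hodd : Fintype.card F % 2 = 1 := FiniteField.odd_card_of_char_ne_two (fun hh => h2 (by
    have : CharP F 2 := hh ▸ ringChar.charP F
    exact CharTwo.two_eq_zero))
  have htop := subgroup_top hodd L (dom.image lam) (fun x hx => by
    obtain ⟨s, hs, rfl⟩ := Finset.mem_image.1 hx
    exact hL s hs) (by
    have := S.three
    have := Fintype.one_lt_card (α := F)
    omega)
  exact ⟨hz, hza', fun s => show s ∈ L by rw [htop]; trivial⟩

/-- moving a direction of two planes to a third one -/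
theorem dir_third (hF : S.Fam) (h2 : (2 : F) ≠ 0) (h5 : 4 ≤ Fintype.card F) {p m : Fin t} (hpm : p ≠ m) {z a' : Vec}
    (ha' : a' ∈ D p) (hD : Q a' ≠ 0) (hdir : Dir S.M z a') (hzm : ∀ w ∈ D m, B z w = 0) :
    ∀ w ∈ D m, Dir S.M z w := by
  classical
  obtain ⟨ρ, hρ⟩ := exists_notin ({0, 1, -1} : Finset F) (lt_of_le_of_lt Finset.card_le_three (by omega))
  simp only [Finset.mem_insert, Finset.mem_singleton, not_or] at hρ
  obtain ⟨hρ0, hρ1, hρ2⟩ := hρ
  have hρ' : (1 : F) - ρ * ρ ≠ 0 := fun h => by
    rcases mul_eq_zero.1 (show (ρ - 1) * (ρ + 1) = 0 by linear_combination -h) with h' | h'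
    · exact hρ1 (sub_eq_zero.1 h')
    · exact hρ2 (eq_neg_of_add_eq_zero_left h')
  refine dir_span (mul_ne_zero hD hρ') fun w hw hQw => ?_
  have hx := hF p m hpm a' ha' hD (1 - ρ) (sub_ne_zero.2 (Ne.symm hρ1))
    (fun h => hρ0 (by linear_combination -h)) (fun h => hρ2 (by linear_combination -h)) (-w)
    (Submodule.neg_mem _ hw) (by rw [QuadraticMap.map_neg, hQw]; ring)
  rw [sub_neg_eq_add, sub_sub_cancel] at hx
  have hQx : Q (ρ • a' + w) = Q a' := by
    rw [Classical.Orth.map_add', Classical.Orth.map_smul', hQw, QuadraticMap.polar_smul_left,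
      S.orth hpm ha' hw, smul_zero, add_zero]
    ring
  obtain ⟨d₀, hd₀, hQd₀⟩ := (S.plane m).exists_value hD
  have := hdir.map (hx.pair (triv hd₀ (by rw [hQd₀]; exact hD)) (hQd₀.trans hQx.symm))
  rw [act_mul, act_mul, act_reflect d₀ z, act_reflect d₀ a', QuadraticMap.polar_comm _ d₀ z, hzm d₀ hd₀,
    S.orth hpm.symm hd₀ ha', mul_zero, zero_smul, sub_zero, sub_zero, act_reflect, act_reflect,
    hQx] at this
  simp only [QuadraticMap.polar_add_left, QuadraticMap.polar_smul_left, QuadraticMap.polar_comm _ a' z,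
    QuadraticMap.polar_comm _ w z, hdir.2.1, hzm w hw, smul_zero, add_zero, mul_zero, zero_smul, sub_zero,
    polar_self', S.orth hpm.symm hw ha', smul_eq_mul] at this
  have h := (this.sub (hdir.smul (1 - 2 * ρ * ρ))).smul ((-(2 * ρ))⁻¹)
  convert h using 1
  match_scalars <;> field_simp <;> ring

/-- the same in characteristic two, from a direction with components in both planes -/
theorem dir_third_two (hF : S.Fam) (h2 : (2 : F) = 0) (h4 : 4 ≤ Fintype.card F) {p m : Fin t} (hpm : p ≠ m)
    {z a w₃ : Vec} (ha : a ∈ D p) (hA : Q a ≠ 0) (hza : Dir S.M z a) (hzw : Dir S.M z w₃) (haw : B a w₃ = 1)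
    (hzm : ∀ w ∈ D m, B z w = 0) (hwm : ∀ w ∈ D m, B w₃ w = 0) : ∀ w ∈ D m, Dir S.M z w := by
  classical
  obtain ⟨ρ, hρ⟩ := exists_notin ({0, 1, -1} : Finset F) (lt_of_le_of_lt Finset.card_le_three (by omega))
  simp only [Finset.mem_insert, Finset.mem_singleton, not_or] at hρ
  obtain ⟨hρ0, hρ1, hρ2⟩ := hρ
  have hρ' : (1 : F) - ρ * ρ ≠ 0 := fun h => by
    rcases mul_eq_zero.1 (show (ρ - 1) * (ρ + 1) = 0 by linear_combination -h) with h' | h'
    · exact hρ1 (sub_eq_zero.1 h')
    · exact hρ2 (eq_neg_of_add_eq_zero_left h')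
  refine dir_span (mul_ne_zero hA hρ') fun w hw hQw => ?_
  have hx := hF p m hpm a ha hA (1 - ρ) (sub_ne_zero.2 (Ne.symm hρ1))
    (fun h => hρ0 (by linear_combination -h)) (fun h => hρ2 (by linear_combination -h)) (-w)
    (Submodule.neg_mem _ hw) (by rw [QuadraticMap.map_neg, hQw]; ring)
  rw [sub_neg_eq_add, sub_sub_cancel] at hx
  have hQx : Q (ρ • a + w) = Q a := by
    rw [Classical.Orth.map_add', Classical.Orth.map_smul', hQw, QuadraticMap.polar_smul_left,
      S.orth hpm ha hw, smul_zero, add_zero]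
    ring
  obtain ⟨d₀, hd₀, hQd₀⟩ := (S.plane m).exists_value hA
  have := hzw.map (hx.pair (triv hd₀ (by rw [hQd₀]; exact hA)) (hQd₀.trans hQx.symm))
  rw [act_mul, act_mul, act_reflect d₀ z, act_reflect d₀ w₃, QuadraticMap.polar_comm _ d₀ z, hzm d₀ hd₀,
    QuadraticMap.polar_comm _ d₀ w₃, hwm d₀ hd₀, mul_zero, zero_smul, sub_zero, sub_zero, act_reflect,
    act_reflect, hQx] at this
  simp only [QuadraticMap.polar_add_left, QuadraticMap.polar_smul_left, QuadraticMap.polar_comm _ a z,
    QuadraticMap.polar_comm _ w z, hza.2.1, hzm w hw, QuadraticMap.polar_comm _ w w₃, hwm w hw, haw, smul_zero,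
    add_zero, mul_zero, zero_smul, sub_zero, smul_eq_mul, mul_one] at this
  have h := ((this.sub hzw).smul (-(Q a / ρ))).sub (hza.smul ρ)
  convert h using 1
  match_scalars <;> field_simp <;> ring

/-- singular vectors with two components -/
theorem centre_pair (hani : ∀ i, Aniso Q (D i)) (hex : S.HasExact False) {p q : Fin t} (hpq : p ≠ q) {a v : Vec}
    (ha : a ∈ D p) (hv : v ∈ D q) (hA : Q a ≠ 0) (hQv : Q v = -Q a) : a + v ∈ Orth.centres S.M := by
  classical
  have hz : Q (a + v) = 0 := by
    rw [Classical.Orth.map_add', hQv, S.orth hpq ha hv, add_zero, add_neg_cancel]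
  have hV : Q v ≠ 0 := by rw [hQv]; exact neg_ne_zero.2 hA
  have ha0 : a ≠ 0 := fun e => hA (by rw [e, QuadraticMap.map_zero])
  have hv0 : v ≠ 0 := fun e => hV (by rw [e, QuadraticMap.map_zero])
  have hzm : ∀ m, m ≠ p → m ≠ q → ∀ w ∈ D m, B (a + v) w = 0 := fun m h1 h2' w hw => by
    rw [QuadraticMap.polar_add_left, S.orth h1.symm ha hw, S.orth h2'.symm hv hw, add_zero]
  have hself : Dir S.M (a + v) (a + v) := by
    have := dir_self (S := S) hz (1 : F)
    rwa [one_smul] at this
  rcases eq_or_ne (2 : F) 0 with h2 | h2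
  swap
  · have hF := exists_fam hex
    have h4 : 4 ≤ Fintype.card F := by
      have h := FiniteField.odd_card_of_char_ne_two (F := F) (fun hh => h2 (by
        have : CharP F 2 := hh ▸ ringChar.charP F
        exact CharTwo.two_eq_zero))
      have := S.three
      have := Fintype.one_lt_card (α := F)
      omega
    obtain ⟨a', ha', ha'0, haa'⟩ := (S.plane p).exists_orth ha
    obtain ⟨v', hv', hv'0, hvv'⟩ := (S.plane q).exists_orth hv
    have hda := dir_odd hF h2 hpq ha hv hA hQv (hani p) ha' ha'0 haa'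
    have hdv := dir_odd hF h2 hpq.symm hv ha hV (by rw [hQv, neg_neg]) (hani q) hv' hv'0 hvv'
    rw [add_comm v a] at hdv
    have hD := (S.plane p).orth_nonsing ha hA ha' ha'0 haa'
    refine two_decomp hpq hz (fun m h1 h2' => dir_third hF h2 h4 h1.symm ha' hD hda (hzm m h1 h2'))
      fun x hx y hy hB => ?_
    have hna : a' ∉ Submodule.span F {a} := fun hm => by
      obtain ⟨r, rfl⟩ := Submodule.mem_span_singleton.1 hm
      rw [QuadraticMap.polar_smul_right, polar_self', smul_eq_mul] at haa'
      exact absurd haa' (mul_ne_zero (fun e => ha'0 (by rw [e, zero_smul])) (mul_ne_zero h2 hA))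
    have hnv : v' ∉ Submodule.span F {v} := fun hm => by
      obtain ⟨r, rfl⟩ := Submodule.mem_span_singleton.1 hm
      rw [QuadraticMap.polar_smul_right, polar_self', smul_eq_mul] at hvv'
      exact absurd hvv' (mul_ne_zero (fun e => hv'0 (by rw [e, zero_smul])) (mul_ne_zero h2 hV))
    obtain ⟨α, β, rfl⟩ := (S.plane p).exists_comb ha ha' ha0 hna hx
    obtain ⟨γ, δ, rfl⟩ := (S.plane q).exists_comb hv hv' hv0 hnv hy
    have hαγ : α = γ := by
      simp only [QuadraticMap.polar_add_left, QuadraticMap.polar_add_right, QuadraticMap.polar_smul_right,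
        polar_self', haa', hvv', S.orth hpq ha hv, S.orth hpq.symm hv ha, S.orth hpq ha hv',
        S.orth hpq.symm hv ha', hQv, smul_eq_mul] at hB
      exact mul_right_cancel₀ (mul_ne_zero h2 hA) (by linear_combination hB)
    subst hαγ
    have e : α • a + β • a' + (α • v + δ • v') = α • (a + v) + (β • a' + δ • v') := by module
    rw [e]
    exact (hself.smul α).add ((hda.smul β).add (hdv.smul δ))
  have hneg : ∀ y : F, -y = y := fun y => by linear_combination (-y) * h2
  rw [hneg] at hQv
  obtain ⟨a₁, ha₁, haa₁⟩ := (S.plane p).exists_meet ha ha0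
  obtain ⟨v₁, hv₁, hvv₁⟩ := (S.plane q).exists_meet hv hv0
  suffices h : Dir S.M (a + v) a ∧ (∀ m, m ≠ p → m ≠ q → ∀ w ∈ D m, Dir S.M (a + v) w) ∧
      ∃ s : F, Dir S.M (a + v) (a₁ + s • a + v₁) by
    obtain ⟨hda, hdm, s, hd3⟩ := h
    refine two_decomp hpq hz hdm fun x hx y hy hB => ?_
    have hna : a₁ ∉ Submodule.span F {a} := fun hm => by
      obtain ⟨r, rfl⟩ := Submodule.mem_span_singleton.1 hm
      rw [QuadraticMap.polar_smul_right, polar_self', h2, zero_mul, smul_zero] at haa₁
      exact zero_ne_one haa₁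
    have hnv : v₁ ∉ Submodule.span F {v} := fun hm => by
      obtain ⟨r, rfl⟩ := Submodule.mem_span_singleton.1 hm
      rw [QuadraticMap.polar_smul_right, polar_self', h2, zero_mul, smul_zero] at hvv₁
      exact zero_ne_one hvv₁
    obtain ⟨α, β, rfl⟩ := (S.plane p).exists_comb ha ha₁ ha0 hna hx
    obtain ⟨γ, δ, rfl⟩ := (S.plane q).exists_comb hv hv₁ hv0 hnv hy
    have hβδ : β = δ := by
      simp only [QuadraticMap.polar_add_left, QuadraticMap.polar_add_right, QuadraticMap.polar_smul_right,
        polar_self', haa₁, hvv₁, S.orth hpq ha hv, S.orth hpq.symm hv ha, S.orth hpq ha hv₁,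
        S.orth hpq.symm hv ha₁, smul_eq_mul] at hB
      linear_combination hB - δ * h2 - (α * Q a + γ * Q v) * h2
    subst hβδ
    have e : α • a + β • a₁ + (γ • v + β • v₁) =
        (α - γ - β * s) • a + γ • (a + v) + β • (a₁ + s • a + v₁) := by module
    rw [e]
    exact ((hda.smul _).add (hself.smul γ)).add (hd3.smul β)
  have hza : B (a + v) a = 0 := by
    rw [QuadraticMap.polar_add_left, polar_self', h2, zero_mul, S.orth hpq.symm hv ha, add_zero]
  have hz1 : ∀ s : F, B (a + v) (a₁ + s • a + v₁) = 0 := fun s => by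
    simp only [QuadraticMap.polar_add_left, QuadraticMap.polar_add_right, QuadraticMap.polar_smul_right,
      polar_self', haa₁, hvv₁, S.orth hpq.symm hv ha, S.orth hpq ha hv₁, S.orth hpq.symm hv ha₁, smul_eq_mul]
    linear_combination (1 + s * Q a) * h2
  by_cases h4 : 4 ≤ Fintype.card F
  · have hF := exists_fam hex
    have hda : Dir S.M (a + v) a := by
      refine dir_of (triv ha hA) hz hza fun μ hμ => ?_
      rcases eq_or_ne μ 1 with rfl | hμ1
      · have e : a + (1 : F) • (a + v) = v := by
          rw [one_smul, ← add_assoc, ← two_smul F a, h2, zero_smul, zero_add]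
        rw [e]
        exact triv hv hV
      have key := hF p q hpq a ha hA μ hμ hμ1 (by rwa [h2]) (μ • v) (Submodule.smul_mem _ _ hv) (by
        rw [Classical.Orth.map_smul', hQv]; linear_combination (μ * μ * Q a - μ * Q a) * h2)
      convert key using 1
      match_scalars <;> linear_combination μ * h2
    obtain ⟨s, hs⟩ : ∃ s : F, Q (a₁ + s • a + v₁) ≠ 0 := by
      obtain ⟨s, hs⟩ := exists_notin ({0, -1 / Q a} : Finset F) (lt_of_le_of_lt Finset.card_le_two (by omega))
      simp only [Finset.mem_insert, Finset.mem_singleton, not_or] at hs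
      by_contra hc
      push Not at hc
      have e0 := hc 0
      have es := hc s
      simp only [zero_smul, add_zero] at e0
      simp only [Classical.Orth.map_add', Classical.Orth.map_smul', QuadraticMap.polar_add_left,
        QuadraticMap.polar_smul_left, QuadraticMap.polar_smul_right, QuadraticMap.polar_comm _ a₁ a, haa₁,
        S.orth hpq ha₁ hv₁, S.orth hpq ha hv₁, smul_eq_mul] at e0 es
      rcases mul_eq_zero.1 (show s * (s * Q a + 1) = 0 by linear_combination es - e0) with h | h
      · exact hs.1 h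
      · exact hs.2 (by field_simp; linear_combination h)
    set c := a₁ + s • a with hc
    have hcD : c ∈ D p := Submodule.add_mem _ ha₁ (Submodule.smul_mem _ _ ha)
    have hac : B a c = 1 := by
      rw [hc, QuadraticMap.polar_add_right, haa₁, QuadraticMap.polar_smul_right, polar_self', h2, zero_mul,
        smul_zero, add_zero]
    set Dw := Q (c + v₁) with hDw
    have hd3 : Dir S.M (a + v) (c + v₁) := by
      have hR : ∀ l : F, S.R ((c + v₁) + l • (a + v)) := by
        intro l
        have hne : ∀ {i : Fin t} {u u' : Vec}, u ∈ D i → u' ∈ D i → B u' u = 1 → Q (u + l • u') ≠ 0 :=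
          fun {i u u'} hu hu' huu h => by
            have h0 := hani i _ (Submodule.add_mem _ hu (Submodule.smul_mem _ _ hu')) h
            have := congrArg (fun x => B u' x) h0
            simp only [QuadraticMap.polar_add_right, QuadraticMap.polar_smul_right, huu, polar_self', h2, zero_mul,
              smul_zero, add_zero, QuadraticMap.polar_zero_right] at this
            exact one_ne_zero this
        have hP := hne hcD ha hac
        have hR' := hne hv₁ hv hvv₁
        have hsum : Q (c + l • a) + Q (v₁ + l • v) = Dw := by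
          simp only [hDw, Classical.Orth.map_add', Classical.Orth.map_smul', QuadraticMap.polar_smul_right,
            S.orth hpq hcD hv₁, QuadraticMap.polar_comm _ c a, hac, QuadraticMap.polar_comm _ v₁ v, hvv₁, hQv,
            smul_eq_mul]
          linear_combination (l * l * Q a + l) * h2
        obtain ⟨ρ, hρ⟩ := FiniteField.isSquare_of_char_two
          (CharP.ringChar_of_prime_eq_zero Nat.prime_two (by exact_mod_cast h2)) (Q (c + l • a) / Dw)
        rw [div_eq_iff hs] at hρ
        have hρ0 : ρ ≠ 0 := fun e => hP (by rw [hρ, e, mul_zero, zero_mul])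
        have hρ1 : ρ ≠ 1 := fun e => hR' (by rw [e, one_mul, one_mul] at hρ; linear_combination hsum - hρ)
        have hQw : Q (ρ⁻¹ • (c + l • a)) = Dw := by
          rw [Classical.Orth.map_smul', hρ]; field_simp
        have key := hF p q hpq (ρ⁻¹ • (c + l • a))
          (Submodule.smul_mem _ _ (Submodule.add_mem _ hcD (Submodule.smul_mem _ _ ha))) (by rw [hQw]; exact hs)
          (1 + ρ) (fun e => hρ1 (by linear_combination e - h2)) (fun e => hρ0 (by linear_combination e))
          (fun e => hρ1 (by linear_combination e)) (v₁ + l • v)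
          (Submodule.add_mem _ hv₁ (Submodule.smul_mem _ _ hv))
          (by rw [hQw]; linear_combination hsum - hρ)
        rw [sub_add_cancel_left, neg_smul, smul_inv_smul₀ hρ0] at key
        have hnegv : ∀ x : Vec, -x = x := fun x => by
          rw [← neg_one_smul F x, show (-1 : F) = 1 from hneg 1, one_smul]
        rw [sub_eq_add_neg, hnegv, hnegv] at key
        convert key using 1
        module
      have h := dir_of (hR 0) hz (by rw [zero_smul, add_zero]; exact hz1 s) fun μ _ => by
        rw [zero_smul, add_zero]; exact hR μ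
      rwa [zero_smul, add_zero] at h
    refine ⟨hda, fun m h1 h2' => ?_, s, hd3⟩
    refine dir_third_two hF h2 h4 h1.symm ha hA hda hd3 ?_ (hzm m h1 h2') fun w hw => ?_
    · rw [QuadraticMap.polar_add_right, hac, S.orth hpq ha hv₁, add_zero]
    · rw [QuadraticMap.polar_add_left, S.orth h1.symm hcD hw, S.orth h2'.symm hv₁ hw, add_zero]
  have hq : Fintype.card F = 2 := by
    have := S.three
    have := Fintype.one_lt_card (α := F)
    omega
  have hone : ∀ c : F, c ≠ 0 → c = 1 := fun c hc => by
    have h := FiniteField.pow_card_sub_one_eq_one c hc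
    rwa [hq, pow_one] at h
  have hT := exists_tri hq hani hex
  have hda : Dir S.M (a + v) a := by
    refine dir_of (triv ha hA) hz hza fun μ hμ => ?_
    rw [hone μ hμ, one_smul, ← add_assoc, ← two_smul F a, h2, zero_smul, zero_add]
    exact triv hv hV
  have hdm : ∀ m, m ≠ p → m ≠ q → ∀ w ∈ D m, Dir S.M (a + v) w := by
    intro m h1 h2'
    refine dir_span one_ne_zero fun w hw hQw => ?_
    have hw0 : Q w ≠ 0 := by rw [hQw]; exact one_ne_zero
    refine dir_of (triv hw hw0) hz (hzm m h1 h2' w hw) fun μ hμ => ?_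
    rw [hone μ hμ, one_smul, ← add_assoc]
    exact hT m p q h1 h2' hpq w hw a ha v hv (fun e => hw0 (by rw [e, QuadraticMap.map_zero])) ha0 hv0
  refine ⟨hda, hdm, 0, ?_⟩
  rw [zero_smul, add_zero]
  obtain ⟨m, hm⟩ := exists_other S.five {p, q} ((Finset.card_le_two).trans (by omega))
  simp only [Finset.mem_insert, Finset.mem_singleton, not_or] at hm
  obtain ⟨u, hu, hQu⟩ := (S.plane m).exists_value (one_ne_zero (α := F))
  have hu0 : u ≠ 0 := fun e => one_ne_zero (α := F) (by rw [← hQu, e, QuadraticMap.map_zero])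
  have ha₁0 : a₁ ≠ 0 := fun e => zero_ne_one (α := F) (by rw [← haa₁, e, QuadraticMap.polar_zero_right])
  have hv₁0 : v₁ ≠ 0 := fun e => zero_ne_one (α := F) (by rw [← hvv₁, e, QuadraticMap.polar_zero_right])
  have hQ1 : ∀ {i : Fin t} {x : Vec}, x ∈ D i → x ≠ 0 → Q x = 1 := fun hx h0 =>
    hone _ fun e => h0 (hani _ _ hx e)
  have hRw : S.R (a₁ + v₁ + u) := hT p q m hpq (Ne.symm hm.1) (Ne.symm hm.2) _ ha₁ _ hv₁ _ hu ha₁0 hv₁0 hu0
  have h3 : Dir S.M (a + v) (a₁ + v₁ + u) := by
    refine dir_of hRw hz ?_ fun μ hμ => ?_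
    · rw [QuadraticMap.polar_add_right, hzm m hm.1 hm.2 u hu, add_zero]
      have := hz1 0
      rwa [zero_smul, add_zero] at this
    rw [hone μ hμ, one_smul, show a₁ + v₁ + u + (a + v) = (a₁ + a) + (v₁ + v) + u by abel]
    refine hT p q m hpq (Ne.symm hm.1) (Ne.symm hm.2) _ (Submodule.add_mem _ ha₁ ha) _
      (Submodule.add_mem _ hv₁ hv) _ hu (fun e => ?_) (fun e => ?_) hu0
    · have := congrArg (fun x => B a x) e
      simp only [QuadraticMap.polar_add_right, haa₁, polar_self', h2, zero_mul, add_zero,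
        QuadraticMap.polar_zero_right] at this
      exact one_ne_zero this
    · have := congrArg (fun x => B v x) e
      simp only [QuadraticMap.polar_add_right, hvv₁, polar_self', h2, zero_mul, add_zero,
        QuadraticMap.polar_zero_right] at this
      exact one_ne_zero this
  have := h3.sub (hdm m hm.1 hm.2 u hu)
  rwa [add_sub_cancel_right] at this

/-- the subgroup is everything -/
theorem omega_le {g : Iso} (hg : g ∈ S.M) (hgp : ¬ Perms D g) : Cfsg.Omega F ⇑Q ≤ S.M := by
  classical
  have hex := exists_exact hg hgp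
  refine Orth.omega_le_of_centres S.nd S.five' fun v hv0 hQv => ?_
  obtain ⟨p, hp⟩ : ∃ p, S.pr p v ≠ 0 := by
    by_contra hc
    push Not at hc
    exact hv0 (S.ext_pr fun i => by rw [hc i, map_zero])
  suffices h : ∃ a f, a ∈ Orth.centres S.M ∧ f ∈ Orth.centres S.M ∧ B a f ≠ 0 ∧ B v a ≠ 0 by
    obtain ⟨a, f₀, hac, hf₀, haf, hva⟩ := h
    have hfc := Orth.centres_smul (B a f₀)⁻¹ hf₀
    have hfa : B a ((B a f₀)⁻¹ • f₀) = 1 := by
      rw [QuadraticMap.polar_smul_right, smul_eq_mul, inv_mul_cancel₀ haf]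
    obtain ⟨he, hmove⟩ := Orth.exists_eich_move (Q := Q) (a := a) (u := (B a f₀)⁻¹ • f₀) (v := (B v a)⁻¹ • v)
      hac.1 (by rw [hfc.1, Classical.Orth.map_smul', hQv, mul_zero]) (by rw [QuadraticMap.polar_comm]; exact hfa)
      (by rw [QuadraticMap.polar_smul_left, smul_eq_mul, inv_mul_cancel₀ hva])
    have hv' : (B v a)⁻¹ • v ∈ Orth.centres S.M := hmove ▸ Orth.centres_map (hac.2 _ hac.1 he) hfc
    have := Orth.centres_smul (B v a) hv'
    rwa [smul_inv_smul₀ hva] at this
  by_cases hani : ∀ i, Aniso Q (D i)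
  swap
  · push Not at hani
    obtain ⟨i, hi⟩ := hani
    have h7 : 7 ≤ Fintype.card F := S.big.resolve_left fun h => hi (h i)
    obtain ⟨e, he, he0, hQe⟩ := sing_all (S := S) hi p
    obtain ⟨f, hf, hp'⟩ := (S.plane p).pair_of_sing he he0 hQe
    have hF := exists_fam hex
    have hec := centre_sing hF h7 he he0 hQe
    have hfc := centre_sing hF h7 hf hp'.ne_zero.2 hp'.hv
    by_cases h : B v e = 0
    swap
    · exact ⟨e, f, hec, hfc, by rw [hp'.huv]; exact one_ne_zero, h⟩
    refine ⟨f, e, hfc, hec, by rw [hp'.hvu]; exact one_ne_zero, fun h' => hp ?_⟩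
    obtain ⟨r, hr⟩ := (S.plane p).orth_line he he0 he he0 (polar_self_zero hQe) (S.pr_mem p v)
      (by rw [S.pair_pr p v he, QuadraticMap.polar_comm]; exact h)
    have := S.pair_pr p v hf
    rw [hr, QuadraticMap.polar_smul_right, hp'.hvu, QuadraticMap.polar_comm _ f v, h',
      smul_eq_mul, mul_one] at this
    rw [hr, this, zero_smul]
  obtain ⟨q, hq⟩ := exists_other S.five {p} (by rw [Finset.card_singleton]; omega)
  rw [Finset.mem_singleton] at hq
  obtain ⟨a, ha, ha0, hva⟩ := (S.plane q).exists_orth (S.pr_mem q v)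
  have hA : Q a ≠ 0 := fun e => ha0 (hani q a ha e)
  obtain ⟨u, hu, hQu, hvu⟩ := exists_meet_value (S := S) (S.pr_mem p v) hp (neg_ne_zero.2 hA)
  rw [S.pr_pair p v hu] at hvu
  rw [S.pr_pair q v ha] at hva
  obtain ⟨u', hu', hQu', huu'⟩ : ∃ u' ∈ D p, Q u' = -Q a ∧ B (a + u) (a + u') ≠ 0 := by
    rcases eq_or_ne (2 : F) 0 with h2 | h2
    · obtain ⟨u', hu', hQu', h⟩ := exists_meet_value (S := S) hu
        (fun e => neg_ne_zero.2 hA (by rw [← hQu, e, QuadraticMap.map_zero])) (neg_ne_zero.2 hA)
      refine ⟨u', hu', hQu', ?_⟩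
      rw [QuadraticMap.polar_add_left, QuadraticMap.polar_add_right, QuadraticMap.polar_add_right, polar_self', h2,
        zero_mul, S.orth hq ha hu', S.orth (Ne.symm hq) hu ha, zero_add, zero_add, zero_add]
      exact h
    · refine ⟨-u, Submodule.neg_mem _ hu, by rw [QuadraticMap.map_neg, hQu], ?_⟩
      rw [QuadraticMap.polar_add_left, QuadraticMap.polar_add_right, QuadraticMap.polar_add_right,
        QuadraticMap.polar_neg_right, QuadraticMap.polar_neg_right, polar_self', polar_self', hQu,
        S.orth hq ha hu, S.orth (Ne.symm hq) hu ha]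
      intro e
      exact mul_ne_zero (mul_ne_zero h2 h2) hA (by linear_combination e)
  refine ⟨a + u, a + u', centre_pair hani hex hq ha hu hA hQu, centre_pair hani hex hq ha hu' hA hQu', huu', ?_⟩
  rwa [QuadraticMap.polar_add_right, hva, zero_add]

end Setup

end Cfsg.Agent.Forms.Max.PlaneBlocks
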