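import Mathlib
import Cfsg.Agent.Lib.Forms.Max.PlaneBlocks.Centres

/-!
# Maximality of the stabiliser of a decomposition into planes
-/

set_option autoImplicit false
set_option linter.unusedSectionVars false

namespace Cfsg.Agent.Forms.Max.PlaneBlocks

open Matrix Cfsg.Agent.Forms.QuadStd Cfsg.Agent.Forms.Reflections Cfsg.Agent.Classical.Orth

variable {F : Type*} [Field F] [Fintype F] {ι : Type} [Fintype ι] [DecidableEq ι]
variable {Q : QuadraticForm F (ι → F)} {t : ℕ} {D : Fin t → Submodule F (ι → F)}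

local notation "Vec" => (ι → F)
local notation "B" => QuadraticMap.polar Q
set_option quotPrecheck false in
local notation "Iso" => Cfsg.isometryGroup F ⇑Q

/-- maximality -/
theorem maximal (hQ : (QuadraticMap.polarBilin Q).Nondegenerate)
    (hD : Cfsg.Geo.IsOrthogonalMDecomposition (⇑Q) 2 D) (h5 : 5 ≤ t) (h3 : Fintype.card F ≠ 3)
    (hbig : (∀ i, Aniso Q (D i)) ∨ 7 ≤ Fintype.card F) :
    Cfsg.Geo.IsMaximalIn (Cfsg.Geo.omegaGL ⇑Q)
      (Cfsg.Geo.decompositionStabilizer D ⊓ Cfsg.Geo.omegaGL ⇑Q) := by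
  have hn : 5 ≤ Fintype.card ι := by rw [OrthBlocks.card_eq hD]; omega
  have hmemS : ∀ g : Iso, (g : GL ι F) ∈ Cfsg.Geo.decompositionStabilizer D →
      ∃ σ : Equiv.Perm (Fin t), ∀ i, ∀ x ∈ D i, act g x ∈ D (σ i) := by
    rintro g ⟨σ, hσ⟩
    refine ⟨σ, fun i x hx => ?_⟩
    rw [act_apply, ← Matrix.toLin'_apply, ← hσ i]
    exact Submodule.mem_map_of_mem hx
  refine Max.isMaximalIn_of inf_le_right (fun hle => ?_) fun N hN hNK g hgN hg => ?_
  · let i₀ : Fin t := ⟨0, by omega⟩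
    let j₀ : Fin t := ⟨1, by omega⟩
    let k₀ : Fin t := ⟨2, by omega⟩
    have hij : i₀ ≠ j₀ := fun e => absurd (congrArg Fin.val e) zero_ne_one
    have hki : k₀ ≠ i₀ := fun e => by simp [Fin.ext_iff, k₀, i₀, j₀] at e
    have hkj : k₀ ≠ j₀ := fun e => by simp [Fin.ext_iff, k₀, i₀, j₀] at e
    have hpl : ∀ i, IsPlane Q (D i) := fun i =>
      ⟨hD.decomp.decomp.finrank_eq i, fun _ hr h0 => Orth.nd_on hD.decomp hr h0⟩
    obtain ⟨a, ha, hQa⟩ := (hpl i₀).exists_value (one_ne_zero (α := F))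
    obtain ⟨v, hv, hQv⟩ := (hpl j₀).exists_value (neg_ne_zero.2 (one_ne_zero (α := F)))
    obtain ⟨w, hw, hQw⟩ := (hpl k₀).exists_value (one_ne_zero (α := F))
    have horth : ∀ {i j : Fin t}, i ≠ j → ∀ {x y : Vec}, x ∈ D i → y ∈ D j → B x y = 0 :=
      fun h _ _ hx hy => Orth.orth_ne hD.decomp h hx hy
    have hz : Q (a + v) = 0 := by
      rw [Classical.Orth.map_add', hQa, hQv, horth hij ha hv, add_neg_cancel, add_zero]
    have hzw : B (a + v) w = 0 := by
      rw [QuadraticMap.polar_add_left, horth hki.symm ha hw, horth hkj.symm hv hw, add_zero]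
    have ha0 : a ≠ 0 := fun e => one_ne_zero (α := F) (by rw [← hQa, e, QuadraticMap.map_zero])
    have hw0 : w ≠ 0 := fun e => one_ne_zero (α := F) (by rw [← hQw, e, QuadraticMap.map_zero])
    obtain ⟨a₁, ha₁, haa₁⟩ := (hpl i₀).exists_meet ha ha0
    have h := hle (Subgroup.mem_map_of_mem _ (Orth.eich_omega hQ hn hz hzw))
    obtain ⟨σ, hσ⟩ := hmemS (eich (a + v) w hz hzw) h.1
    have hm := hσ i₀ a₁ ha₁
    have hB1 : B a₁ (a + v) = 1 := by
      rw [QuadraticMap.polar_add_right, QuadraticMap.polar_comm _ a₁ a, haa₁, horth hij ha₁ hv, add_zero]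
    rw [act_eich, horth hki.symm ha₁ hw, hB1, hQw] at hm
    simp only [mul_one, zero_smul, sub_zero, one_smul] at hm
    -- components in the second and third planes
    have hcj : OrthBlocks.cmp hD j₀ (a₁ + w - (a + v)) = -v := by
      rw [map_sub, map_add, map_add, OrthBlocks.cmp_other hD hij.symm ha₁, OrthBlocks.cmp_other hD hkj.symm hw,
        OrthBlocks.cmp_other hD hij.symm ha, OrthBlocks.cmp_self hD hv]
      abel
    have hck : OrthBlocks.cmp hD k₀ (a₁ + w - (a + v)) = w := by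
      rw [map_sub, map_add, map_add, OrthBlocks.cmp_other hD hki ha₁, OrthBlocks.cmp_self hD hw,
        OrthBlocks.cmp_other hD hki ha, OrthBlocks.cmp_other hD hkj hv]
      abel
    rcases eq_or_ne (σ i₀) k₀ with e | e
    · have := OrthBlocks.cmp_other hD hkj.symm (e ▸ hm)
      rw [hcj, neg_eq_zero] at this
      exact neg_ne_zero.2 (one_ne_zero (α := F)) (by rw [← hQv, this, QuadraticMap.map_zero])
    · have := OrthBlocks.cmp_other hD e.symm hm
      rw [hck] at this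
      exact hw0 this
  · obtain ⟨g', hg', rfl⟩ := Subgroup.mem_map.1 (hNK hgN)
    let S : Setup Q D :=
      { nd := hQ, dec := hD, five := h5, five' := hn, three := h3, big := hbig
        M := N.comap (Cfsg.isometryGroup F ⇑Q).subtype ⊓ Cfsg.Omega F ⇑Q
        mem := fun k hk ⟨σ, hσ⟩ =>
          ⟨hN ⟨⟨σ, fun i => OrthBlocks.img_eq hD (hσ i)⟩, Subgroup.mem_map_of_mem _ hk⟩, hk⟩ }
    have hgs : ¬ Perms D g' := fun ⟨σ, hσ⟩ => hg ⟨⟨σ, fun i => OrthBlocks.img_eq hD (hσ i)⟩, hNK hgN⟩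
    have hle : Cfsg.Omega F ⇑Q ≤ S.M := Setup.omega_le ⟨hgN, hg'⟩ hgs
    intro x hx
    obtain ⟨x', hx', rfl⟩ := Subgroup.mem_map.1 hx
    exact (hle hx').1

end Cfsg.Agent.Forms.Max.PlaneBlocks
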